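import Groth.Agent.VeryAmpleX.SigOps
import Groth.Agent.QcqsColim.FTSub

/-!
# Finite type modules suffice for very ampleness in the quasi-compact case
-/

noncomputable section

universe u

open CategoryTheory CategoryTheory.Limits AlgebraicGeometry TopologicalSpace Opposite HomogeneousLocalization

set_option backward.isDefEq.respectTransparency false
set_option backward.isDefEq.respectTransparency.types false
set_option linter.style.haveILetI false
set_option linter.unusedSectionVars false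
set_option maxHeartbeats 800000

namespace Groth.Agent.VeryAmpleX.Sig

open Groth.Agent Groth.Agent.VeryAmpleX

variable {X S : Scheme.{u}} {f : X ⟶ S} {L : X.Modules} {E : S.Modules}
  {σ : E ⟶ (Scheme.Modules.pushforward f).obj L}

/-- Functions on the locus of the image of `a` from the base and the ratios of the sections in `M`. -/
def secFnsOn (σ : E ⟶ (Scheme.Modules.pushforward f).obj L) {U : S.Opens}
    (a : Γ(E, U)) (M : Set Γ(E, U)) : Subring Γ(X, AmpleX.locus (sg σ a)) :=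
  Subring.closure (Set.range (f.appLE U (AmpleX.locus (sg σ a)) (AmpleX.locus_le (sg σ a))).hom ∪
    {c | ∃ m ∈ M, AModX.res L (AmpleX.locus_le (sg σ a)) (sg σ m) = c • AModX.res L (AmpleX.locus_le (sg σ a)) (sg σ a)})

theorem secFnsOn_mono {U : S.Opens} (a : Γ(E, U)) {M M' : Set Γ(E, U)} (h : M ⊆ M') :
    secFnsOn σ a M ≤ secFnsOn σ a M' := by
  refine Subring.closure_mono (Set.union_subset_union_right _ ?_)
  rintro c ⟨m, hm, e⟩
  exact ⟨m, h hm, e⟩

theorem exists_finite_of_mem_secFns {U : S.Opens} {a : Γ(E, U)} {H : Γ(X, AmpleX.locus (sg σ a))}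
    (hH : H ∈ secFns σ a) : ∃ M : Set Γ(E, U), M.Finite ∧ H ∈ secFnsOn σ a M := by
  induction hH using Subring.closure_induction with
  | mem y hy =>
    rcases hy with ⟨r, rfl⟩ | ⟨m, hm⟩
    · exact ⟨∅, Set.finite_empty, Subring.subset_closure (Or.inl ⟨r, rfl⟩)⟩
    · exact ⟨{m}, Set.finite_singleton m, Subring.subset_closure (Or.inr ⟨m, rfl, hm⟩)⟩
  | zero => exact ⟨∅, Set.finite_empty, zero_mem _⟩
  | one => exact ⟨∅, Set.finite_empty, one_mem _⟩
  | add p q _ _ hp hq =>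
    obtain ⟨M, hM, hpM⟩ := hp
    obtain ⟨M', hM', hqM⟩ := hq
    exact ⟨M ∪ M', hM.union hM', add_mem (secFnsOn_mono a Set.subset_union_left hpM)
      (secFnsOn_mono a Set.subset_union_right hqM)⟩
  | neg p _ hp =>
    obtain ⟨M, hM, hpM⟩ := hp
    exact ⟨M, hM, neg_mem hpM⟩
  | mul p q _ _ hp hq =>
    obtain ⟨M, hM, hpM⟩ := hp
    obtain ⟨M', hM', hqM⟩ := hq
    exact ⟨M ∪ M', hM.union hM', mul_mem (secFnsOn_mono a Set.subset_union_left hpM)
      (secFnsOn_mono a Set.subset_union_right hqM)⟩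

/-- The coordinates of a point only use finitely many sections. -/
theorem ImmAt.exists_finite [LocallyOfFiniteType f] {x : X} (h : ImmAt σ x) :
    ∃ (U : S.Opens) (_ : IsAffineOpen U) (a : Γ(E, U)) (g : Γ(X, AmpleX.locus (sg σ a))) (M : Set Γ(E, U)),
      M.Finite ∧ a ∈ M ∧ x ∈ X.basicOpen g ∧ CoordsIn (secFnsOn σ a M) g := by
  obtain ⟨U, hU, a, g, hxg, hg, haff, hs⟩ := h.exists_coords
  have hle : X.basicOpen g ≤ f ⁻¹ᵁ U := (X.basicOpen_le g).trans (AmpleX.locus_le (sg σ a))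
  have hft := f.finiteType_appLE hU haff hle
  algebraize [(f.appLE U (X.basicOpen g) hle).hom]
  obtain ⟨s, hsgen⟩ : ∃ s : Finset Γ(X, X.basicOpen g), Algebra.adjoin Γ(S, U) (s : Set Γ(X, X.basicOpen g)) = ⊤ :=
    Algebra.FiniteType.out
  choose k H hH hcH using hs
  choose M hM hHM using fun c => exists_finite_of_mem_secFns (hH c)
  obtain ⟨Mg, hMg, hgM⟩ := exists_finite_of_mem_secFns hg
  have hUs : (⋃ c ∈ (s : Set Γ(X, X.basicOpen g)), M c).Finite := s.finite_toSet.biUnion fun c _ => hM c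
  generalize hT : (⋃ c ∈ (s : Set Γ(X, X.basicOpen g)), M c) = T at hUs
  have hTsub : ∀ y, y ∈ (s : Set Γ(X, X.basicOpen g)) → M y ⊆ T := fun y hy z hz => by
    rw [← hT]; exact Set.mem_iUnion₂.2 ⟨y, hy, hz⟩
  obtain ⟨M', hM', ha', hsub, hsubg⟩ : ∃ M' : Set Γ(E, U), M'.Finite ∧ a ∈ M' ∧
      (∀ y, y ∈ (s : Set Γ(X, X.basicOpen g)) → M y ⊆ M') ∧ Mg ⊆ M' :=
    ⟨insert a (T ∪ Mg), (hUs.union hMg).insert a, Set.mem_insert a _,
      fun y hy z hz => Set.mem_insert_of_mem a (Set.mem_union_left Mg (hTsub y hy hz)),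
      fun z hz => Set.mem_insert_of_mem a (Set.mem_union_right T hz)⟩
  have hgM' : g ∈ secFnsOn σ a M' := secFnsOn_mono a hsubg hgM
  refine ⟨U, hU, a, g, M', hM', ha', hxg, hgM', haff, ?_⟩
  let ρ := AModX.resR (X.basicOpen_le g)
  intro c
  have hc : c ∈ Algebra.adjoin Γ(S, U) (s : Set Γ(X, X.basicOpen g)) := hsgen ▸ Algebra.mem_top
  induction hc using Algebra.adjoin_induction with
  | mem y hy =>
    exact ⟨k y, H y, secFnsOn_mono a (hsub y hy) (hHM y), hcH y⟩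
  | algebraMap r =>
    refine ⟨0, _, Subring.subset_closure (Or.inl ⟨r, rfl⟩), ?_⟩
    rw [pow_zero, mul_one]
    show f.appLE U (X.basicOpen g) hle r = (f.appLE _ _ _ ≫ X.presheaf.map _) r
    rw [Scheme.Hom.appLE_map]
  | add p q _ _ hp hq =>
    obtain ⟨k₁, H₁, hH₁, e₁⟩ := hp
    obtain ⟨k₂, H₂, hH₂, e₂⟩ := hq
    refine ⟨k₁ + k₂, H₁ * g ^ k₂ + H₂ * g ^ k₁, add_mem (mul_mem hH₁ (pow_mem hgM' _))
      (mul_mem hH₂ (pow_mem hgM' _)), ?_⟩
    rw [map_add, map_mul, map_mul, map_pow, map_pow, ← e₁, ← e₂]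
    ring
  | mul p q _ _ hp hq =>
    obtain ⟨k₁, H₁, hH₁, e₁⟩ := hp
    obtain ⟨k₂, H₂, hH₂, e₂⟩ := hq
    refine ⟨k₁ + k₂, H₁ * H₂, mul_mem hH₁ hH₂, ?_⟩
    rw [map_mul, ← e₁, ← e₂]
    ring

/-- A map through which finitely many sections factor keeps coordinates. -/
theorem CoordsIn.immAt_factor {E' : S.Modules} (φ : E' ⟶ E) {U : S.Opens} (hU : IsAffineOpen U)
    {a : Γ(E, U)} {g : Γ(X, AmpleX.locus (sg σ a))} {M : Set Γ(E, U)} (h : CoordsIn (secFnsOn σ a M) g)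
    (hM : M ⊆ Set.range (φ.app U)) (ha : a ∈ M) {x : X} (hx : x ∈ X.basicOpen g) : ImmAt (φ ≫ σ) x := by
  obtain ⟨a', rfl⟩ := hM ha
  refine h.immAt (σ' := φ ≫ σ) hU (a' := a') le_rfl (fun H hH => ?_) hx (X.basicOpen_le g hx)
  refine (Subring.closure_le (t := (secFns (φ ≫ σ) a').comap (AModX.resR le_rfl))).2 ?_ hH
  rintro c (⟨r, rfl⟩ | ⟨m, hm, e⟩)
  · refine Subring.subset_closure (Or.inl ⟨r, ?_⟩)
    show _ = (f.appLE _ _ _ ≫ X.presheaf.map _) r
    rw [Scheme.Hom.appLE_map]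
  · obtain ⟨m', rfl⟩ := hM hm
    refine Subring.subset_closure (Or.inr ⟨m', ?_⟩)
    rw [AModX.resR_self]
    exact e

/-- Submodules of finite type contain any finitely many finite sets of sections. -/
theorem exists_ft_contains [CompactSpace S] [QuasiSeparatedSpace S] (hE : Coh.IsQCoh E) {ι : Type*}
    (t : Finset ι) (U : ι → S.Opens) (hU : ∀ i, IsAffineOpen (U i)) (M : ∀ i, Set Γ(E, U i))
    (hM : ∀ i, (M i).Finite) :
    ∃ N : QCoh.SubMod E, QCoh.FTOn N ⊤ ∧ ∀ i ∈ t, M i ⊆ N.mem (U i) := by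
  classical
  induction t using Finset.induction with
  | empty =>
    obtain ⟨N⟩ := (inferInstance : Nonempty (QcqsColim.FTIndex E))
    exact ⟨N.1, N.2, by simp⟩
  | insert i t hi ih =>
    obtain ⟨N, hN, hNM⟩ := ih
    obtain ⟨N', hN', hN'M⟩ := QCoh.exists_ftOn_contains hE (hU i) (QCoh.extStep_qcqs (hU i).isCompact) (M i) (hM i)
    refine ⟨QcqsColim.supSub N N', QcqsColim.ftOn_supSub hN hN', fun j hj => ?_⟩
    rcases Finset.mem_insert.1 hj with rfl | hj
    · exact fun m hm => QcqsColim.mem_supSub_right _ _ _ (hN'M hm)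
    · exact fun m hm => QcqsColim.mem_supSub_left _ _ _ (hNM j hj hm)

/-- A very ample module on a scheme of finite type over a quasi-compact quasi-separated one is given by a module of
finite type. -/
theorem exists_ft_map [CompactSpace S] [QuasiSeparatedSpace S] [LocallyOfFiniteType f] [QuasiCompact f]
    (h : RelProj.IsRelVeryAmple f L) :
    ∃ (E : S.Modules) (_ : Coh.IsQCoh E) (σ : E ⟶ (Scheme.Modules.pushforward f).obj L),
      CohB1.IsFT E ∧ ∀ x, ImmAt σ x := by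
  obtain ⟨E, hE, σ, hσ⟩ := exists_map_of_isRelVeryAmple h
  haveI : CompactSpace X := QuasiCompact.compactSpace_of_compactSpace f
  choose U hU a g M hM ha hxg hc using fun x => (hσ x).exists_finite
  obtain ⟨t, ht⟩ := isCompact_univ.elim_finite_subcover (fun x => (X.basicOpen (g x) : Set X))
    (fun x => (X.basicOpen (g x)).2) (fun x _ => Set.mem_iUnion.2 ⟨x, hxg x⟩)
  obtain ⟨N, hN, hNM⟩ := exists_ft_contains hE t U hU M hM
  refine ⟨N.toModules, QCoh.isQCoh_of_ftOn hE hN, N.ι ≫ σ, QCoh.isFT_of_ftOn hE hN, fun x => ?_⟩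
  obtain ⟨y, hy, hxy⟩ := Set.mem_iUnion₂.1 (ht (Set.mem_univ x))
  exact (hc y).immAt_factor N.ι (hU y) (fun m hm => N.exists_app_eq (hNM y hy hm)) (ha y) hxy

/-- Sections giving coordinates everywhere give an immersion into the bundle of their module. -/
theorem exists_immersion_of_immAt (hE : Coh.IsQCoh E) (h : ∀ x, ImmAt σ x) :
    ∃ (𝒯 : RelProj.QCGrAlg S) (j : E ⟶ 𝒯.toModule) (P : Scheme.{u}) (p : P ⟶ S)
      (chart : ∀ (U : S.Opens) (hU : IsAffineOpen U), ((p ⁻¹ᵁ U : P.Opens) : Scheme.{u}) ≅ Proj (𝒯.deg U hU))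
      (O1 : P.Modules)
      (lam : ∀ (U : S.Opens) (hU : IsAffineOpen U),
        O1 ⟶ (Scheme.Modules.pushforward (RelProj.emb p chart U hU)).obj (GrTwist.twist (𝒯.deg U hU) 1))
      (i : X ⟶ P),
      RelProj.IsGrSymAlg E 𝒯 j ∧ RelProj.IsRelProj 𝒯 p chart ∧ RelProj.IsRelTwist 𝒯 p chart 1 O1 lam ∧
        IsImmersion i ∧ i ≫ p = f ∧ Nonempty (L ≅ (Scheme.Modules.pullback i).obj O1) := by
  let hA := SymSh.isSymAlg _ hE
  let 𝒮 := grSym hE _ _ hA
  have hS : RelProj.IsGrSymAlg _ 𝒮 (SymSh.j _ hE) := isGrSymAlg_grSym hE _ _ hA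
  obtain ⟨P, p, chart, hP⟩ := Proj16.exists_isRelProj 𝒮
  have hO1 := RelTwistX.isRelTwist hP (n := 1)
  have hcov : ∀ x : X, ∃ (U : S.Opens) (_ : IsAffineOpen U) (a : Γ(E, U)), x ∈ AmpleX.locus (sg σ a) := fun x => by
    obtain ⟨U, hU, a, g, -, hx, -⟩ := h x
    exact ⟨U, hU, a, X.basicOpen_le g hx⟩
  obtain ⟨r, hr⟩ := exists_toBundle (σ := σ) hE hS hP hcov
  obtain ⟨e⟩ := nonempty_pullback_toBundle hE hS hP hO1 hr hcov
  exact ⟨𝒮, _, P, p, chart, _, _, r, hS, hP, hO1, isImmersion_toBundle hE hS hP hr hcov h,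
    toBundle_comp hE hS hP hr hcov, ⟨e.symm⟩⟩

end Groth.Agent.VeryAmpleX.Sig
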