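import Groth.Prelude.Def_RelProj2
import Groth.Agent.RelTwistX.Pullback
import Groth.Agent.GrModX.QCohTilde

/-!
# Functions from the base on a relative Proj
-/

noncomputable section

universe u

open CategoryTheory CategoryTheory.Limits AlgebraicGeometry TopologicalSpace Opposite HomogeneousLocalization

set_option backward.isDefEq.respectTransparency false
set_option backward.isDefEq.respectTransparency.types false
set_option linter.style.haveILetI false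

namespace Groth.Agent.VeryAmpleX

open Groth.Agent

theorem fromSpec_appLE {X : Scheme.{u}} {U : X.Opens} (hU : IsAffineOpen U) (e : ⊤ ≤ hU.fromSpec ⁻¹ᵁ U) :
    hU.fromSpec.appLE U ⊤ e = (Scheme.ΓSpecIso Γ(X, U)).inv := by
  rw [Scheme.Hom.appLE, hU.fromSpec_app_self, Category.assoc, ← Functor.map_comp]
  exact (congrArg (_ ≫ ·) ((congrArg _ (Subsingleton.elim _ (𝟙 _))).trans
    ((Spec Γ(X, U)).presheaf.map_id _))).trans (Category.comp_id _)

theorem appTop_ι_comp_topIso {X Y : Scheme.{u}} (g : X ⟶ Y) (U : X.Opens) :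
    (U.ι ≫ g).appTop ≫ U.topIso.hom = g.appLE ⊤ U le_top := by
  simp [Scheme.Hom.appLE, Scheme.Opens.topIso, ← Functor.map_comp]

variable {A σ : Type u} [CommRing A] [SetLike σ A] [AddSubgroupClass σ A] (𝒜 : ℕ → σ) [GradedRing 𝒜]

theorem toSpecZero_appLE {R : CommRingCat.{u}} (φ : R ⟶ CommRingCat.of (𝒜 0)) {f : A} {m : ℕ}
    (hf : f ∈ 𝒜 m) (hm : 0 < m) (r : R) :
    ((Proj.toSpecZero 𝒜 ≫ Spec.map φ).appLE ⊤ (Proj.basicOpen 𝒜 f) le_top).hom ((Scheme.ΓSpecIso R).inv r) =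
      (Proj.awayToSection 𝒜 f).hom (fromZeroRingHom 𝒜 _ (φ r)) := by
  let ψ : R ⟶ Γ(Proj 𝒜, Proj.basicOpen 𝒜 f) :=
    φ ≫ CommRingCat.ofHom (fromZeroRingHom 𝒜 _) ≫ Proj.awayToSection 𝒜 f
  have e : (Proj.basicOpen 𝒜 f).ι ≫ Proj.toSpecZero 𝒜 ≫ Spec.map φ =
      (Proj.basicOpen 𝒜 f).toSpecΓ ≫ Spec.map ψ := by
    have h := Proj.awayι_toSpecZero 𝒜 f hf hm
    rw [Proj.awayι, Category.assoc, Iso.inv_comp_eq, Proj.basicOpenIsoSpec_hom,
      Proj.basicOpenToSpec, Category.assoc] at h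
    rw [reassoc_of% h]
    simp only [ψ, Spec.map_comp, Category.assoc]
  have e' := congr(($e).appTop ≫ (Proj.basicOpen 𝒜 f).topIso.hom)
  rw [appTop_ι_comp_topIso, Scheme.Hom.comp_appTop (Proj.basicOpen 𝒜 f).toSpecΓ,
    Scheme.Opens.toSpecΓ_appTop, Category.assoc, Category.assoc, Iso.inv_hom_id, Category.comp_id,
    Scheme.ΓSpecIso_naturality] at e'
  have e'' : (Proj.toSpecZero 𝒜 ≫ Spec.map φ).appLE ⊤ (Proj.basicOpen 𝒜 f) le_top =
      (Scheme.ΓSpecIso R).hom ≫ ψ := e'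
  rw [e'']
  show ψ.hom (((Scheme.ΓSpecIso R).inv ≫ (Scheme.ΓSpecIso R).hom).hom r) = _
  rw [Iso.inv_hom_id]
  rfl

variable {Y P : Scheme.{u}} {𝒮 : RelProj.QCGrAlg Y} {p : P ⟶ Y}
  {chart : ∀ (U : Y.Opens) (hU : IsAffineOpen U), (((p ⁻¹ᵁ U : P.Opens) : Scheme.{u}) ≅ Proj (𝒮.deg U hU))}

theorem emb_comp (hP : RelProj.IsRelProj 𝒮 p chart) (U : Y.Opens) (hU : IsAffineOpen U) :
    RelProj.emb p chart U hU ≫ p =
      (Proj.toSpecZero (𝒮.deg U hU) ≫ Spec.map (𝒮.strZero U hU)) ≫ hU.fromSpec := by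
  rw [RelProj.emb, Category.assoc, ← hP.chart_over U hU, Iso.inv_hom_id_assoc, Category.assoc]

/-- A function on the base acts on a chart through the structure map. -/
theorem sc_base (hP : RelProj.IsRelProj 𝒮 p chart) {D : Y.Opens} (hD : IsAffineOpen D) (c : Γ(Y, D))
    {g : 𝒮.presheaf.obj (op D)} {m : ℕ} (hg : g ∈ 𝒮.deg D hD m) (hm : 0 < m)
    (y : RelTwistX.pre p chart D hD (p ⁻¹ᵁ D)) (hy : g ∉ y.1.asHomogeneousIdeal) :
    RelTwistX.sc chart hD (p.app D c) y = algebraMap _ _ ((𝒮.str.app (op D)).hom c) := by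
  let e := RelProj.emb p chart D hD
  let W : (Proj (𝒮.deg D hD)).Opens := Proj.basicOpen (𝒮.deg D hD) g
  have hW : W ≤ e ⁻¹ᵁ (p ⁻¹ᵁ D) := fun z _ => by
    show e z ∈ p ⁻¹ᵁ D
    rw [← RelTildeX.opensRange_emb p chart D hD]
    exact ⟨z, rfl⟩
  have h1 : (e.appLE (p ⁻¹ᵁ D) W hW).hom (p.app D c) =
      (Proj.awayToSection (𝒮.deg D hD) g).hom (fromZeroRingHom (𝒮.deg D hD) _ ((𝒮.strZero D hD).hom c)) := by
    rw [← toSpecZero_appLE (𝒮.deg D hD) (𝒮.strZero D hD) hg hm c,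
      ← fromSpec_appLE hD hD.fromSpec_preimage_self.ge, ← CommRingCat.comp_apply,
      ← CommRingCat.comp_apply, Scheme.Hom.appLE_comp_appLE, Scheme.Hom.app_eq_appLE,
      Scheme.Hom.appLE_comp_appLE]
    simp only [← emb_comp hP D hD, e]
    rfl
  have h2 := congrArg (fun s : Γ(Proj (𝒮.deg D hD), W) => (GrModX.oval (𝒮.deg D hD) s ⟨y.1, hy⟩).val) h1
  refine Eq.trans ?_ (h2.trans ?_)
  · rfl
  · exact (Localization.mk_one_eq_algebraMap _)

end Groth.Agent.VeryAmpleX
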