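import Groth.Agent.VeryAmple.Main
import Groth.Agent.RelTwistX.Ample
import Groth.Agent.VeryAmpleX.BaseFun

/-!
# Immersions given by finitely many sections
-/

set_option linter.style.haveILetI false
set_option backward.isDefEq.respectTransparency false
set_option backward.isDefEq.respectTransparency.types false
set_option maxHeartbeats 1000000

noncomputable section

universe u

open CategoryTheory CategoryTheory.Limits AlgebraicGeometry TopologicalSpace Opposite HomogeneousLocalization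
open Groth.Agent.H23.PicMul

namespace Groth.Agent.VeryAmpleX

open Groth.Agent

theorem exists_finite_mem_closure {R σ : Type*} [CommRing R] (C : Set R) (N : σ → Set R) {x : R}
    (hx : x ∈ Subring.closure (C ∪ ⋃ m, N m)) :
    ∃ F : Finset σ, x ∈ Subring.closure (C ∪ ⋃ m ∈ F, N m) := by
  classical
  have mono : ∀ {F F' : Finset σ}, F ⊆ F' →
      Subring.closure (C ∪ ⋃ m ∈ F, N m) ≤ Subring.closure (C ∪ ⋃ m ∈ F', N m) := fun h =>
    Subring.closure_mono (Set.union_subset_union_right _ (Set.biUnion_subset_biUnion_left h))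
  induction hx using Subring.closure_induction with
  | mem y hy =>
    rcases hy with hy | hy
    · exact ⟨∅, Subring.subset_closure (Or.inl hy)⟩
    · obtain ⟨m, hm⟩ := Set.mem_iUnion.1 hy
      exact ⟨{m}, Subring.subset_closure (Or.inr (by simpa using hm))⟩
  | zero => exact ⟨∅, zero_mem _⟩
  | one => exact ⟨∅, one_mem _⟩
  | add a b _ _ iha ihb =>
    obtain ⟨F, hF⟩ := iha; obtain ⟨G, hG⟩ := ihb
    exact ⟨F ∪ G, add_mem (mono Finset.subset_union_left hF) (mono Finset.subset_union_right hG)⟩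
  | neg a _ iha => obtain ⟨F, hF⟩ := iha; exact ⟨F, neg_mem hF⟩
  | mul a b _ _ iha ihb =>
    obtain ⟨F, hF⟩ := iha; obtain ⟨G, hG⟩ := ihb
    exact ⟨F ∪ G, mul_mem (mono Finset.subset_union_left hF) (mono Finset.subset_union_right hG)⟩

theorem isClosedImmersion_restrict {X Y : Scheme.{u}} (f : X ⟶ Y) {D : Y.Opens} (hD : IsAffineOpen D)
    {U : X.Opens} (hU : IsAffineOpen U) (h : f ⁻¹ᵁ D = U)
    (hs : Function.Surjective (f.appLE D U h.ge)) : IsClosedImmersion (f ∣_ D) := by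
  subst h
  haveI : IsAffine (D : Scheme) := hD
  haveI : IsAffine (f ⁻¹ᵁ D : Scheme) := hU
  refine IsClosedImmersion.of_surjective_of_isAffine _ fun z => ?_
  rw [morphismRestrict_appTop]
  obtain ⟨y, hy⟩ := hs ((f ⁻¹ᵁ D).topIso.hom z)
  refine ⟨D.topIso.inv y, (ConcreteCategory.bijective_of_isIso (f ⁻¹ᵁ D).topIso.hom).1 ?_⟩
  rw [← hy]
  simp only [← CommRingCat.comp_apply]
  congr 2
  simp only [Scheme.Hom.appLE, Scheme.Opens.topIso, Category.assoc]
  simp [← Functor.map_comp]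
  rw [f.naturality_assoc, ← Functor.map_comp]
  exact (congrArg (_ ≫ ·) ((congrArg _ (Subsingleton.elim _ (𝟙 _))).trans (X.presheaf.map_id _))).trans
    (Category.comp_id _)

section charts

variable {X P S : Scheme.{u}} [IsAffine S] (f : X ⟶ S) [LocallyOfFiniteType f] [QuasiCompact f]
  (p : P ⟶ S) (i : X ⟶ P) [IsImmersion i] {O1 : P.Modules} {σ : Type u} (t : σ → Γ(O1, ⊤))

/-- Functions on a locus coming from the base. -/
def baseFns (a : σ) : Set Γ(P, H23.TrivBasic.locus (t a)) :=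
  Set.range (p.appLE ⊤ (H23.TrivBasic.locus (t a)) le_top).hom

/-- The ratio of two sections. -/
def ratioFns (a m : σ) : Set Γ(P, H23.TrivBasic.locus (t a)) :=
  {c | AModX.res O1 (le_top : H23.TrivBasic.locus (t a) ≤ ⊤) (t m) =
    c • AModX.res O1 (le_top : H23.TrivBasic.locus (t a) ≤ ⊤) (t a)}

variable {f p i}

theorem isRelVeryAmplePn_of_charts (hip : i ≫ p = f) (hO1 : PicF.IsInvertible O1)
    (haff : ∀ a, IsAffineOpen (H23.TrivBasic.locus (t a)))
    (hcov : ∀ x, ∃ a, i x ∈ H23.TrivBasic.locus (t a))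
    (hgen : ∀ a, Subring.closure (baseFns p t a ∪ ⋃ m, ratioFns t a m) = ⊤) :
    RelAmple.IsRelVeryAmplePn f ((Scheme.Modules.pullback i).obj O1) := by
  classical
  let M := (Scheme.Modules.pullback i).obj O1
  have hM : PicF.IsInvertible M := PicClLib.isInvertible_pullback i hO1
  haveI : CompactSpace X := QuasiCompact.compactSpace_of_compactSpace f
  have hpt : ∀ x : X, ∃ (a : σ) (g : Γ(P, H23.TrivBasic.locus (t a))), i x ∈ P.basicOpen g ∧
      ∀ hD : IsAffineOpen (P.basicOpen g),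
        Function.Surjective (i.app (P.basicOpen g)) ∧ IsAffineOpen (i ⁻¹ᵁ P.basicOpen g) := by
    intro x
    obtain ⟨a, ha⟩ := hcov x
    have hix : i x ∈ i.coborderRange := subset_coborder (Set.mem_range_self x)
    obtain ⟨g, hg, hxg⟩ := (haff a).exists_basicOpen_le (V := i.coborderRange) ⟨i x, hix⟩ ha
    refine ⟨a, g, hxg, fun hD => ?_⟩
    have hO : i.coborderRange.ι ''ᵁ (i.coborderRange.ι ⁻¹ᵁ P.basicOpen g) = P.basicOpen g := by
      rw [Scheme.Hom.image_preimage_eq_opensRange_inf, Scheme.Opens.opensRange_ι]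
      exact inf_eq_right.2 hg
    have hV : IsAffineOpen (i.coborderRange.ι ⁻¹ᵁ P.basicOpen g) :=
      i.coborderRange.ι.isAffineOpen_iff_of_isOpenImmersion.1 (by rw [hO]; exact hD)
    have hpre := i.liftCoborder_preimage (i.coborderRange.ι ⁻¹ᵁ P.basicOpen g)
    constructor
    · have hs := i.liftCoborder.app_surjective _ hV
      rw [liftCoborder_app] at hs
      have : Function.Surjective (i.app (i.coborderRange.ι ''ᵁ (i.coborderRange.ι ⁻¹ᵁ P.basicOpen g))) :=
        fun z => by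
          obtain ⟨y, hy⟩ := hs (X.presheaf.map (eqToHom hpre).op z)
          exact ⟨y, (ConcreteCategory.bijective_of_isIso (X.presheaf.map (eqToHom hpre).op)).1 hy⟩
      rwa [hO] at this
    · have := hV.preimage i.liftCoborder
      rwa [hpre, hO] at this
  choose a g hxg hclosed using hpt
  let U : X → X.Opens := fun x => i ⁻¹ᵁ P.basicOpen (g x)
  obtain ⟨pts, hpts⟩ := isCompact_univ.elim_finite_subcover (fun x => (U x : Set X)) (fun x => (U x).2)
    fun x _ => Set.mem_iUnion.2 ⟨x, hxg x⟩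
  let κ := {x : X // x ∈ pts}
  have hU : ∀ x : X, IsAffineOpen (U x) := fun x => (hclosed x ((haff _).basicOpen _)).2
  choose G hG using fun x : κ => VeryAmple.exists_generators (hU x.1) (isAffineOpen_top S) f le_top
  choose w hw using fun (x : κ) (c : Γ(X, U x.1)) => (hclosed x.1 ((haff _).basicOpen _)).1 c
  have hloc : ∀ (x : κ) (v : Γ(P, P.basicOpen (g x.1))), ∃ (k : ℕ) (h : Γ(P, H23.TrivBasic.locus (t (a x.1)))),
      v * AModX.resR (P.basicOpen_le (g x.1)) (g x.1) ^ k = AModX.resR (P.basicOpen_le (g x.1)) h := fun x v => by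
    have := (haff (a x.1)).isLocalization_basicOpen (g x.1)
    obtain ⟨⟨h, ⟨_, k, rfl⟩⟩, hh⟩ := IsLocalization.surj (Submonoid.powers (g x.1)) v
    refine ⟨k, h, ?_⟩
    rw [← map_pow]
    exact hh
  choose k h hh using fun (x : κ) (c : Γ(X, U x.1)) => hloc x (w x c)
  choose Fh hFh using fun (x : κ) (c : Γ(X, U x.1)) =>
    exists_finite_mem_closure _ (ratioFns t (a x.1)) ((hgen (a x.1)).symm ▸ Subring.mem_top (h x c))
  choose Fg hFg using fun x : κ =>
    exists_finite_mem_closure _ (ratioFns t (a x.1)) ((hgen (a x.1)).symm ▸ Subring.mem_top (g x.1))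
  let F : Finset σ := Finset.univ.biUnion fun x : κ => insert (a x.1) (Fg x ∪ (G x).biUnion (Fh x))
  rcases isEmpty_or_nonempty X with hX | ⟨⟨x₀⟩⟩
  · obtain ⟨r, -, τ, -⟩ := S3572.result 0 (specULiftZIsTerminal.from X) M hM (fun _ => (0 : Γ(M, ⊤)))
      fun x => (hX.false x).elim
    let i' := pullback.lift (f := CohB1.ProjSpace.toSpec 0 (ULift.{u} ℤ)) (g := specULiftZIsTerminal.from S) r f
      (specULiftZIsTerminal.hom_ext _ _)
    haveI : IsOpenImmersion i' := inferInstance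
    exact ⟨0, i', inferInstance, pullback.lift_snd _ _ _, ⟨τ.symm ≪≫
      (Scheme.Modules.pullbackCongr (pullback.lift_fst _ _ _).symm).app _ ≪≫
      ((Scheme.Modules.pullbackComp i' (pullback.fst _ _)).app _).symm⟩⟩
  obtain ⟨n, ⟨idx⟩⟩ : ∃ n, Nonempty (Fin (n + 1) ≃ F) := by
    obtain ⟨z, hz⟩ := Set.mem_iUnion.1 (hpts (Set.mem_univ x₀))
    obtain ⟨hz, -⟩ := Set.mem_iUnion.1 hz
    haveI : Nonempty F := ⟨⟨a z, Finset.mem_biUnion.2 ⟨⟨z, hz⟩, Finset.mem_univ _, Finset.mem_insert_self _ _⟩⟩⟩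
    obtain ⟨n, hn⟩ := Nat.exists_eq_add_one.2 (Fintype.card_pos (α := F))
    exact ⟨n, ⟨((finCongr hn.symm).trans (Fintype.equivFin _).symm)⟩⟩
  let T : σ → Γ(M, ⊤) := fun m => InvX.pullElt i (t m)
  have hTloc : ∀ m, H23.TrivBasic.locus (T m) = i ⁻¹ᵁ H23.TrivBasic.locus (t m) := fun m =>
    H23.TrivBasic.locus_pullElt hO1 i (t m)
  let s : Fin (n + 1) → Γ(M, ⊤) := fun j => T (idx j)
  have hainF : ∀ x : κ, a x.1 ∈ F := fun x =>
    Finset.mem_biUnion.2 ⟨x, Finset.mem_univ _, Finset.mem_insert_self _ _⟩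
  have hcovU : ∀ y, ∃ x : κ, y ∈ U x.1 := fun y => by
    obtain ⟨z, hz⟩ := Set.mem_iUnion.1 (hpts (Set.mem_univ y))
    obtain ⟨hz, hy⟩ := Set.mem_iUnion.1 hz
    exact ⟨⟨z, hz⟩, hy⟩
  have hs : ProjUP.GeneratedBy M s := VeryAmple.generatedBy_of_locus s fun y => by
    obtain ⟨x, hy⟩ := hcovU y
    refine ⟨idx.symm ⟨a x.1, hainF x⟩, ?_⟩
    show y ∈ H23.TrivBasic.locus (T _)
    rw [Equiv.apply_symm_apply, hTloc]
    exact P.basicOpen_le _ hy
  obtain ⟨r, -, τ, hτ⟩ := S3572.result n (specULiftZIsTerminal.from X) M hM s hs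
  let π : CohB1.ProjSpaceOver n S ⟶ CohB1.ProjSpace n (ULift.{u} ℤ) :=
    pullback.fst (CohB1.ProjSpace.toSpec n (ULift.{u} ℤ)) (specULiftZIsTerminal.from S)
  let i' : X ⟶ CohB1.ProjSpaceOver n S := pullback.lift r f (specULiftZIsTerminal.hom_ext _ _)
  have hfst : i' ≫ π = r := pullback.lift_fst _ _ _
  have hsnd : i' ≫ CohB1.ProjSpaceOver.toBase n S = f := pullback.lift_snd _ _ _
  have hτ' : ∀ q : F, τ.hom.app ⊤ (ProjUP.pullSec r _ (ProjUP.coord n (ULift.{u} ℤ) (idx.symm q))) = T q.1 :=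
    fun q => by rw [hτ]; show T _ = _; rw [Equiv.apply_symm_apply]
  let aF : κ → F := fun x => ⟨a x.1, hainF x⟩
  let D : κ → (CohB1.ProjSpace n (ULift.{u} ℤ)).Opens := fun x =>
    Proj.basicOpen (CohB1.polyGrading n (ULift.{u} ℤ)) (MvPolynomial.X (idx.symm (aF x)))
  have hpre : ∀ x, r ⁻¹ᵁ D x = i ⁻¹ᵁ H23.TrivBasic.locus (t (a x.1)) := fun x =>
    (AmpleEmbed.preimage_chart r τ _ (hτ' (aF x))).trans (hTloc _)
  let C : κ → (CohB1.ProjSpaceOver n S).Opens := fun x => π ⁻¹ᵁ D x ⊓ CohB1.ProjSpaceOver.toBase n S ⁻¹ᵁ ⊤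
  have hC : ∀ x, IsAffineOpen (C x) := fun x =>
    VeryAmple.isAffineOpen_chart n (isAffineOpen_top S) (Proj.isAffineOpen_basicOpen _ _ (ProjPt.X_mem _) one_pos)
  have hpre' : ∀ x, i' ⁻¹ᵁ C x = i ⁻¹ᵁ H23.TrivBasic.locus (t (a x.1)) := fun x => by
    show i' ⁻¹ᵁ (π ⁻¹ᵁ D x) ⊓ i' ⁻¹ᵁ (CohB1.ProjSpaceOver.toBase n S ⁻¹ᵁ ⊤) = _
    rw [← Scheme.Hom.comp_preimage, ← Scheme.Hom.comp_preimage, hfst, hsnd, hpre]
    exact inf_top_eq _
  let R : ∀ x : κ, Subring Γ(X, i ⁻¹ᵁ H23.TrivBasic.locus (t (a x.1))) := fun x =>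
    (i'.appLE (C x) _ (hpre' x).ge).hom.range
  have hR : ∀ (x : κ) (v : Γ(P, H23.TrivBasic.locus (t (a x.1)))),
      v ∈ Subring.closure (baseFns p t (a x.1) ∪ ⋃ m ∈ F, ratioFns t (a x.1) m) → i.app _ v ∈ R x := by
    intro x v hv
    refine (Subring.closure_le (t := (R x).comap (i.app _).hom)).2 ?_ hv
    rintro v (⟨c, rfl⟩ | hv)
    · refine ⟨(CohB1.ProjSpaceOver.toBase n S).appLE ⊤ (C x) inf_le_right c, ?_⟩
      rw [Scheme.Hom.app_eq_appLE, ← CommRingCat.comp_apply, ← CommRingCat.comp_apply,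
        Scheme.Hom.appLE_comp_appLE, Scheme.Hom.appLE_comp_appLE]
      simp only [hsnd, hip]
    · obtain ⟨m, hm⟩ := Set.mem_iUnion.1 hv
      obtain ⟨hm, hv⟩ := Set.mem_iUnion.1 hm
      refine ⟨π.appLE (D x) (C x) inf_le_left
        ((Proj.awayToSection (CohB1.polyGrading n (ULift.{u} ℤ)) (MvPolynomial.X (idx.symm (aF x)))).hom
          (Away.mk (CohB1.polyGrading n (ULift.{u} ℤ)) (ProjPt.X_mem _) 1
            (MvPolynomial.X (idx.symm ⟨m, hm⟩)) (by rw [one_smul]; exact ProjPt.X_mem _))), ?_⟩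
      rw [← CommRingCat.comp_apply, Scheme.Hom.appLE_comp_appLE]
      simp only [hfst]
      refine AmpleEmbed.ratioOf_eq r τ _ _ (hτ' (aF x)) (hτ' ⟨m, hm⟩) (hpre x).ge _ ?_
      have e := congrArg (InvX.pullElt i) (show AModX.res O1 _ (t m) = _ from hv)
      rw [InvX.pullElt_smul, ← InvX.res_pullElt, ← InvX.res_pullElt] at e
      exact e
  choose g' hg' using fun x => hR x (g x.1) (Subring.closure_mono (Set.union_subset_union_right _
    (Set.biUnion_subset_biUnion_left fun m hm => Finset.mem_biUnion.2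
      ⟨x, Finset.mem_univ _, Finset.mem_insert_of_mem (Finset.mem_union_left _ hm)⟩)) (hFg x))
  let Dg : κ → (CohB1.ProjSpaceOver n S).Opens := fun x => (CohB1.ProjSpaceOver n S).basicOpen (g' x)
  have hpreg : ∀ x, i' ⁻¹ᵁ Dg x = U x.1 := fun x => by
    show i' ⁻¹ᵁ _ = i ⁻¹ᵁ _
    rw [Scheme.preimage_basicOpen, Scheme.preimage_basicOpen]
    have e := hg' x
    rw [Scheme.Hom.appLE, CommRingCat.comp_apply] at e
    rw [← e]
    exact le_antisymm (le_of_eq_of_le rfl ((X.basicOpen_res _ _).ge.trans' (le_inf ((X.basicOpen_le _).trans (hpre' x).le) le_rfl))) ((X.basicOpen_res _ _).le.trans inf_le_right)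
  haveI hI : IsImmersion i' := by
    refine VeryAmple.isImmersion_of_cover i' Dg (fun y => ?_) fun x => ?_
    · obtain ⟨x, hx⟩ := hcovU y
      exact ⟨x, (hpreg x).ge hx⟩
    refine isClosedImmersion_restrict i' ((hC x).basicOpen _) (hU x.1) (hpreg x) ?_
    refine RingHom.range_eq_top.1 (hG x _ ?_ ?_)
    · rintro _ ⟨c, rfl⟩
      refine ⟨(CohB1.ProjSpaceOver.toBase n S).appLE ⊤ (Dg x) le_top c, ?_⟩
      rw [← CommRingCat.comp_apply, Scheme.Hom.appLE_comp_appLE]
      simp only [hsnd]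
    · intro c hc
      obtain ⟨v, hv⟩ := hR x (h x c) (Subring.closure_mono (Set.union_subset_union_right _
        (Set.biUnion_subset_biUnion_left fun m hm => Finset.mem_biUnion.2
          ⟨x, Finset.mem_univ _, Finset.mem_insert_of_mem (Finset.mem_union_right _
            (Finset.mem_biUnion.2 ⟨c, hc, hm⟩))⟩)) (hFh x c))
      have hres : ∀ (v' : Γ(CohB1.ProjSpaceOver n S, C x)) (u' : Γ(P, H23.TrivBasic.locus (t (a x.1)))),
          i'.appLE (C x) _ (hpre' x).ge v' = i.app _ u' →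
          i'.appLE (Dg x) (U x.1) (hpreg x).ge (AModX.resR ((CohB1.ProjSpaceOver n S).basicOpen_le (g' x)) v') =
            i.app _ (AModX.resR (P.basicOpen_le (g x.1)) u') := fun v' u' e => by
        have e2 := congrArg (AModX.resR (i.preimage_mono (P.basicOpen_le (g x.1)))) e
        refine Eq.trans ?_ (e2.trans ?_)
        · show ((CohB1.ProjSpaceOver n S).presheaf.map _ ≫ i'.appLE _ _ _) v' = (i'.appLE _ _ _ ≫ X.presheaf.map _) v'
          rw [Scheme.Hom.map_appLE, Scheme.Hom.appLE_map]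
        · exact (congr($(i.naturality (homOfLE (P.basicOpen_le (g x.1))).op) u')).symm
      have hu : IsUnit (AModX.resR ((CohB1.ProjSpaceOver n S).basicOpen_le (g' x)) (g' x)) :=
        RingedSpace.isUnit_res_basicOpen _ (g' x)
      refine ⟨AModX.resR ((CohB1.ProjSpaceOver n S).basicOpen_le (g' x)) v * ((hu.pow (k x c)).unit⁻¹ : _), ?_⟩
      have e := congrArg (i.app _) (hh x c)
      rw [map_mul, map_pow, hw, ← hres v (h x c) hv, ← hres (g' x) (g x.1) (hg' x), ← map_pow] at e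
      rw [← ((hu.pow (k x c)).map (i'.appLE (Dg x) (U x.1) (hpreg x).ge).hom).mul_left_inj]
      refine Eq.trans ?_ e.symm
      rw [← map_mul, mul_assoc, IsUnit.val_inv_mul, mul_one]
  exact ⟨n, i', hI, hsnd, ⟨τ.symm ≪≫ (Scheme.Modules.pullbackCongr hfst.symm).app _ ≪≫
    ((Scheme.Modules.pullbackComp i' π).app _).symm⟩⟩

end charts

end Groth.Agent.VeryAmpleX
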