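import Groth.Agent.VeryAmpleX.CriterionApps
import Groth.Agent.PnCoh.Finite.TwistInv
import Groth.Agent.Lib.AmpleEmbed

/-!
# Projective space and operations on relatively very ample modules
-/

noncomputable section

universe u

open CategoryTheory CategoryTheory.Limits AlgebraicGeometry TopologicalSpace Opposite HomogeneousLocalization

set_option backward.isDefEq.respectTransparency false
set_option backward.isDefEq.respectTransparency.types false
set_option linter.style.haveILetI false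
set_option linter.unusedSectionVars false
set_option maxHeartbeats 800000

namespace Groth.Agent.VeryAmpleX

open Groth.Agent
open Groth.Agent.H23.PicMul

theorem isInvertible_twistProjSpace (n : ℕ) :
    PicF.IsInvertible (Twist.twistProjSpace n (ULift.{u} ℤ) 1) :=
  PnCoh.Finite.isInvertible_twist (fun j : ULift.{u} (Fin (n + 1)) => MvPolynomial.X j.down)
    (fun j => ProjPt.X_mem j.down) (by
      refine top_le_iff.1 ((AmpleEmbed.iSup_basicOpen_X n (ULift.{u} ℤ)).ge.trans (iSup_le fun j => ?_))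
      exact le_iSup_of_le (ULift.up j) le_rfl) 1

theorem immAt_twistProjSpace (n : ℕ) (y : CohB1.ProjSpace n (ULift.{u} ℤ)) :
    ImmAt (CohB1.ProjSpace.toSpec n (ULift.{u} ℤ)) (Twist.twistProjSpace n (ULift.{u} ℤ) 1) y := by
  let R := ULift.{u} ℤ
  let 𝒜 := CohB1.polyGrading n R
  let pr := CohB1.ProjSpace.toSpec n R
  obtain ⟨i, hi⟩ := Opens.mem_iSup.1 ((AmpleEmbed.iSup_basicOpen_X n R).ge (trivial : y ∈ (⊤ : (Proj 𝒜).Opens)))
  let t : MvPolynomial (Fin (n + 1)) R := MvPolynomial.X i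
  have ht : t ∈ 𝒜 1 := ProjPt.X_mem i
  let a : Γ(Twist.twistProjSpace n R 1, pr ⁻¹ᵁ ⊤) := ProjUPX.sec 𝒜 ht
  let D : (CohB1.ProjSpace n R).Opens := Proj.basicOpen 𝒜 t
  have hloc : AmpleX.locus a = D := by
    have h1 := AmpleX.genLocus_sec 𝒜 (fun j : Fin (n + 1) => MvPolynomial.X j)
      (fun j => ProjPt.X_mem j) (AmpleEmbed.iSup_basicOpen_X n R) ht
    rw [AmpleX.genLocus_eq_locus, InvX.one_ofSect] at h1
    exact h1
  have htop : secFns pr (Twist.twistProjSpace n R 1) a = ⊤ := by
    refine top_le_iff.1 fun c _ => ?_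
    haveI : IsIso (Proj.awayToSection 𝒜 t) := by
      rw [← Proj.basicOpenIsoAway_hom 𝒜 t ht one_pos]
      infer_instance
    obtain ⟨v, hv⟩ := (ConcreteCategory.bijective_of_isIso (Proj.awayToSection 𝒜 t)).2 (AModX.resR hloc.ge c)
    let θ : Away 𝒜 t →+* Γ(Proj 𝒜, AmpleX.locus a) := (AModX.resR hloc.le).comp (Proj.awayToSection 𝒜 t).hom
    have hc : θ v = c := by
      show AModX.resR hloc.le ((Proj.awayToSection 𝒜 t).hom v) = c
      rw [show (Proj.awayToSection 𝒜 t).hom v = _ from hv, AModX.resR_resR, AModX.resR_self]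
    rw [← hc]
    let φ : R →+* 𝒜 0 := (algebraMap R (𝒜 0))
    have hgen : Subring.closure (Set.range (fun r => (φ r : MvPolynomial (Fin (n + 1)) R)) ∪
        (𝒜 1 : Set (MvPolynomial (Fin (n + 1)) R))) = ⊤ := by
      refine top_le_iff.1 fun p _ => ?_
      induction p using MvPolynomial.induction_on with
      | C r => exact Subring.subset_closure (Or.inl ⟨r, rfl⟩)
      | add p q hp hq => exact add_mem (hp trivial) (hq trivial)
      | mul_X p j hp => exact mul_mem (hp trivial) (Subring.subset_closure (Or.inr (ProjPt.X_mem j)))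
    have hv' : v ∈ Subring.closure _ := (closure_away 𝒜 φ hgen ht).symm ▸ Subring.mem_top v
    refine (Subring.closure_le (t := (secFns pr (Twist.twistProjSpace n R 1) a).comap θ)).2 ?_ hv'
    rintro v (⟨r, rfl⟩ | ⟨m, rfl⟩)
    · simp only [SetLike.mem_coe, Subring.mem_comap]
      rw [show r = ((r.down : ℤ) : R) from rfl, map_intCast, map_intCast, map_intCast]
      exact intCast_mem _ _
    · refine Subring.subset_closure (Or.inr ⟨ProjUPX.sec 𝒜 m.2, ?_⟩)
      have h1 := congrArg (AModX.res (Twist.twist 𝒜 1) hloc.le) (ProjUPX.sec_eq_smul 𝒜 m.2 ht)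
      rw [AModX.res_smul, AModX.res_res, AModX.res_res] at h1
      exact h1
  refine ⟨⊤, isAffineOpen_top _, a, 1, htop.ge trivial, ?_, ?_, fun c => ⟨0, AModX.resR (X := CohB1.ProjSpace n R) ?_ c, htop.ge trivial, ?_⟩⟩
  · rw [Scheme.basicOpen_of_isUnit _ isUnit_one, hloc]
    exact hi
  · rw [Scheme.basicOpen_of_isUnit _ isUnit_one, hloc]
    exact Proj.isAffineOpen_basicOpen 𝒜 _ ht one_pos
  · rw [Scheme.basicOpen_of_isUnit _ isUnit_one]
  · rw [pow_zero, mul_one, AModX.resR_resR, AModX.resR_self]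

theorem immAt_twistOver (n : ℕ) (S : Scheme.{u}) (y : CohB1.ProjSpaceOver n S) :
    ImmAt (CohB1.ProjSpaceOver.toBase n S) (Twist.twistOver n S 1) y :=
  (immAt_twistProjSpace n _).baseChange (IsPullback.of_hasPullback _ _) (isInvertible_twistProjSpace n)

theorem isRelVeryAmple_twistOver (n : ℕ) (S : Scheme.{u}) :
    RelProj.IsRelVeryAmple (CohB1.ProjSpaceOver.toBase n S) (Twist.twistOver n S 1) := by
  haveI : IsProper (CohB1.ProjSpace.toSpec n (ULift.{u} ℤ)) := PnCoh.Chow.isProper_toSpec n _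
  haveI : IsProper (CohB1.ProjSpaceOver.toBase n S) :=
    MorphismProperty.pullback_snd (P := @IsProper) _ _ inferInstance
  exact isRelVeryAmple_of_immAt (PicClLib.isInvertible_pullback _ (isInvertible_twistProjSpace n))
    (immAt_twistOver n S)

theorem isRelVeryAmple_of_isRelVeryAmplePn {X S : Scheme.{u}} {f : X ⟶ S} {L : X.Modules}
    (h : RelAmple.IsRelVeryAmplePn f L) : RelProj.IsRelVeryAmple f L := by
  obtain ⟨n, i, hi, his, ⟨e⟩⟩ := h
  haveI := hi
  exact isRelVeryAmple_of_iso e.symm (isRelVeryAmple_immersion_comp i his (isRelVeryAmple_twistOver n S))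

theorem immAt_of_isRelVeryAmplePn {X S : Scheme.{u}} {f : X ⟶ S} {L : X.Modules}
    (h : RelAmple.IsRelVeryAmplePn f L) (x : X) : ImmAt f L x :=
  immAt_of_isRelVeryAmple (isRelVeryAmple_of_isRelVeryAmplePn h) x

theorem isRelVeryAmple_baseChange {X Y X' Y' : Scheme.{u}} {f : X ⟶ Y} {g : Y' ⟶ Y} {g' : X' ⟶ X} {f' : X' ⟶ Y'}
    [QuasiCompact f] (hsq : IsPullback g' f' f g) {L : X.Modules} (hva : RelProj.IsRelVeryAmple f L) :
    RelProj.IsRelVeryAmple f' ((Scheme.Modules.pullback g').obj L) := by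
  haveI := isSeparated_of_isRelVeryAmple hva
  haveI : QuasiCompact f' := MorphismProperty.of_isPullback hsq ‹QuasiCompact f›
  haveI : IsSeparated f' := MorphismProperty.of_isPullback hsq ‹IsSeparated f›
  have hL := isInvertible_of_isRelVeryAmple hva
  exact isRelVeryAmple_of_immAt (PicClLib.isInvertible_pullback g' hL) fun x =>
    (immAt_of_isRelVeryAmple hva _).baseChange hsq hL

theorem isRelVeryAmple_of_comp {X Y Z : Scheme.{u}} {f : X ⟶ Y} {g : Y ⟶ Z} [QuasiCompact f] {L : X.Modules}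
    (hva : RelProj.IsRelVeryAmple (f ≫ g) L) : RelProj.IsRelVeryAmple f L := by
  haveI := isSeparated_of_isRelVeryAmple hva
  haveI : IsSeparated f := IsSeparated.of_comp f g
  exact isRelVeryAmple_of_immAt (isInvertible_of_isRelVeryAmple hva) fun x =>
    (immAt_of_isRelVeryAmple hva x).of_comp

theorem isRelVeryAmple_tensor {X S : Scheme.{u}} {f : X ⟶ S} [QuasiCompact f] {L L' : X.Modules}
    (hva : RelProj.IsRelVeryAmple f L) (hva' : RelProj.IsRelVeryAmple f L') :
    RelProj.IsRelVeryAmple f (CohB1.tensorMod L L') := by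
  haveI := isSeparated_of_isRelVeryAmple hva
  have hL := isInvertible_of_isRelVeryAmple hva
  have hL' := isInvertible_of_isRelVeryAmple hva'
  refine isRelVeryAmple_of_immAt (InvX.isInvertible_tensorMod hL hL') fun x => ?_
  obtain ⟨U, -, a, g, -, hx, -⟩ := immAt_of_isRelVeryAmple hva' x
  exact (immAt_of_isRelVeryAmple hva x).tensor hL hL' a (X.basicOpen_le g hx)

theorem isRelVeryAmple_local {X S : Scheme.{u}} {f : X ⟶ S} [QuasiCompact f] {L : X.Modules}
    (hL : PicF.IsInvertible L) {ι : Type*} (V : ι → S.Opens) (hV : ⨆ i, V i = ⊤)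
    (h : ∀ i, RelProj.IsRelVeryAmple (f ∣_ V i) (L.restrict (f ⁻¹ᵁ V i).ι)) :
    RelProj.IsRelVeryAmple f L := by
  haveI : IsSeparated f := IsZariskiLocalAtTarget.of_iSup_eq_top (P := @IsSeparated) V hV
    fun i => isSeparated_of_isRelVeryAmple (h i)
  exact isRelVeryAmple_of_immAt hL (immAt_of_openCover V hV fun i x => immAt_of_isRelVeryAmple (h i) x)

theorem isRelVeryAmple_restrict {X S : Scheme.{u}} {f : X ⟶ S} [QuasiCompact f] {L : X.Modules}
    (hva : RelProj.IsRelVeryAmple f L) (V : S.Opens) :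
    RelProj.IsRelVeryAmple (f ∣_ V) (L.restrict (f ⁻¹ᵁ V).ι) := by
  haveI := isSeparated_of_isRelVeryAmple hva
  have hL := isInvertible_of_isRelVeryAmple hva
  exact isRelVeryAmple_of_immAt (AmpleX.isInvertible_restrict _ hL) fun x =>
    (immAt_of_isRelVeryAmple hva x.1).restrict hL V x

end Groth.Agent.VeryAmpleX
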