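import Groth.Agent.VeryAmpleX.CriterionPn
import Groth.Agent.VeryAmple.Main
import Groth.Agent.AmpleX.Rel

/-!
# High powers of a relatively ample module are relatively very ample
-/

noncomputable section

universe u

open CategoryTheory CategoryTheory.Limits AlgebraicGeometry TopologicalSpace Opposite

set_option backward.isDefEq.respectTransparency false
set_option backward.isDefEq.respectTransparency.types false
set_option linter.style.haveILetI false

namespace Groth.Agent.VeryAmpleX

open Groth.Agent
open Groth.Agent.H23.PicMul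

/-- Over a quasi-compact base, high powers of a relatively ample module twisted by an invertible
module are relatively very ample. -/
theorem eventually_isRelVeryAmple {X S : Scheme.{u}} [CompactSpace S] (f : X ⟶ S) [LocallyOfFiniteType f]
    [QuasiCompact f] {L L' : X.Modules} (hL : PicF.IsInvertible L) (h : RelAmple.IsRelAmple f L)
    (hL' : PicF.IsInvertible L') :
    ∃ n₀ : ℕ, ∀ n, n₀ ≤ n → RelProj.IsRelVeryAmple f (CohB1.tensorMod (CohB1.tensorPow L n) L') := by
  obtain ⟨t, ht⟩ := isCompact_univ.elim_finite_subcover (fun V : S.affineOpens => (V.1 : Set S))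
    (fun V => V.1.2) (fun x _ => by
      obtain ⟨_, ⟨W, hW, rfl⟩, hx, -⟩ := S.isBasis_affineOpens.exists_subset_of_mem_open (Set.mem_univ x) isOpen_univ
      exact Set.mem_iUnion.2 ⟨⟨W, hW⟩, hx⟩)
  choose n hn using fun V : S.affineOpens => VeryAmple.eventually_veryAmplePn (f ∣_ V.1) (h.2 V)
    (AmpleX.isInvertible_restrict (f ⁻¹ᵁ V.1).ι hL')
  refine ⟨t.sup n, fun m hm => ?_⟩
  refine isRelVeryAmple_local (InvX.isInvertible_tensorMod (InvX.isInvertible_tensorPow hL m) hL')
    (fun V : {V // V ∈ t} => V.1.1) (top_le_iff.1 fun x _ => ?_) fun V => ?_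
  · obtain ⟨V, hV, hx⟩ := Set.mem_iUnion₂.1 (ht (Set.mem_univ x))
    exact Opens.mem_iSup.2 ⟨⟨V, hV⟩, hx⟩
  · refine isRelVeryAmple_of_isRelVeryAmplePn (hn V.1 m (le_trans (Finset.le_sup V.2) hm) _ ?_)
    rw [AmpleX.cl_restrict, cl_tensor, cl_tensorPow, pullCl_mul, pullCl_pow, cl_tensor, cl_tensorPow,
      AmpleX.cl_restrict, AmpleX.cl_restrict]

end Groth.Agent.VeryAmpleX
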