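import Groth.Agent.VeryAmpleX.SigOps
import Groth.Agent.KFlatLib.Scheme.QCohTensor
import Groth.Agent.H23.PicInv
import Groth.Agent.QCoh.Pullback

/-!
# Very ample modules relative to arbitrary morphisms
-/

noncomputable section

universe u

open CategoryTheory CategoryTheory.Limits AlgebraicGeometry TopologicalSpace Opposite

set_option backward.isDefEq.respectTransparency false
set_option backward.isDefEq.respectTransparency.types false
set_option linter.style.haveILetI false

namespace Groth.Agent.VeryAmpleX.Sig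

open Groth.Agent Groth.Agent.VeryAmpleX
open Groth.Agent.H23.PicMul

variable {X S : Scheme.{u}} {f : X ⟶ S} {L : X.Modules}

theorem isRelVeryAmple_of_comp' {Z : Scheme.{u}} {g : S ⟶ Z} (hva : RelProj.IsRelVeryAmple (f ≫ g) L) :
    RelProj.IsRelVeryAmple f L := by
  obtain ⟨E, hE, σ, hσ⟩ := exists_map_of_isRelVeryAmple hva
  exact isRelVeryAmple_of_immAt (QCoh.isQCoh_pullback g hE) fun x => (hσ x).of_comp

theorem isRelVeryAmple_baseChange' {X' S' : Scheme.{u}} {g₀ : S' ⟶ S} {g' : X' ⟶ X} {f' : X' ⟶ S'}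
    (hsq : IsPullback g' f' f g₀) (hva : RelProj.IsRelVeryAmple f L) :
    RelProj.IsRelVeryAmple f' ((Scheme.Modules.pullback g').obj L) := by
  obtain ⟨E, hE, σ, hσ⟩ := exists_map_of_isRelVeryAmple hva
  exact isRelVeryAmple_of_immAt (QCoh.isQCoh_pullback g₀ hE) fun x =>
    (hσ (g' x)).baseChange hsq (isInvertible_of_isRelVeryAmple hva)

theorem isRelVeryAmple_tensor_of_epi {L' : X.Modules} (hva : RelProj.IsRelVeryAmple f L)
    (hL' : PicF.IsInvertible L') {E' : S.Modules} (hE' : Coh.IsQCoh E')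
    (φ : (Scheme.Modules.pullback f).obj E' ⟶ L') [Epi φ] :
    RelProj.IsRelVeryAmple f (CohB1.tensorMod L L') := by
  obtain ⟨E, hE, σ, hσ⟩ := exists_map_of_isRelVeryAmple hva
  refine isRelVeryAmple_of_immAt (KFlatLib.isQCoh_tensor hE hE') (σ :=
    tensMap σ ((Scheme.Modules.pullbackPushforwardAdjunction f).homEquiv _ _ φ)) fun x => ?_
  obtain ⟨V, e, he⟩ := exists_mem_locus_of_epi hL' φ x
  exact (hσ x).tensor (isInvertible_of_isRelVeryAmple hva) hL' e he

theorem isRelVeryAmple_tensor' {L' : X.Modules} (hva : RelProj.IsRelVeryAmple f L)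
    (hva' : RelProj.IsRelVeryAmple f L') : RelProj.IsRelVeryAmple f (CohB1.tensorMod L L') := by
  obtain ⟨E, hE, σ, hσ⟩ := exists_map_of_isRelVeryAmple hva
  obtain ⟨E', hE', σ', hσ'⟩ := exists_map_of_isRelVeryAmple hva'
  refine isRelVeryAmple_of_immAt (KFlatLib.isQCoh_tensor hE hE') (σ := tensMap σ σ') fun x => ?_
  obtain ⟨U, -, a, g, hxg, -⟩ := (hσ' x).exists_coords
  exact (hσ x).tensor (isInvertible_of_isRelVeryAmple hva) (isInvertible_of_isRelVeryAmple hva') a
    (X.basicOpen_le g hxg)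

theorem isRelVeryAmple_of_iso' {M : X.Modules} (e : L ≅ M) (hva : RelProj.IsRelVeryAmple f L) :
    RelProj.IsRelVeryAmple f M := by
  obtain ⟨E, hE, σ, hσ⟩ := exists_map_of_isRelVeryAmple hva
  exact isRelVeryAmple_of_immAt hE fun x => (hσ x).mapIso e

theorem isRelVeryAmple_tensorPow' (hva : RelProj.IsRelVeryAmple f L) :
    ∀ n : ℕ, RelProj.IsRelVeryAmple f (CohB1.tensorPow L (n + 1))
  | 0 => isRelVeryAmple_of_iso' ((unit L).some.symm ≪≫ (comm L (Coh.structureModule X)).some) hva
  | n + 1 => isRelVeryAmple_tensor' (isRelVeryAmple_tensorPow' hva n) hva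

theorem isRelVeryAmple_tensor_pullback {K : S.Modules} (hK : PicF.IsInvertible K)
    (hva : RelProj.IsRelVeryAmple f L) :
    RelProj.IsRelVeryAmple f (CohB1.tensorMod L ((Scheme.Modules.pullback f).obj K)) :=
  isRelVeryAmple_tensor_of_epi hva (PicClLib.isInvertible_pullback f hK) (ProjUPX.isQCoh_of_isInvertible hK) (𝟙 _)

end Groth.Agent.VeryAmpleX.Sig
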