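import Groth.Agent.VeryAmpleX.CriterionOps
import Groth.Agent.AmpleX.QAGenerated
import Groth.Agent.ProjUPX.TwistFrame
import Groth.Agent.AmpleX.Proj

/-!
# Consequences of the criterion by sections
-/

noncomputable section

universe u

open CategoryTheory CategoryTheory.Limits AlgebraicGeometry TopologicalSpace Opposite

set_option backward.isDefEq.respectTransparency false
set_option backward.isDefEq.respectTransparency.types false
set_option linter.style.haveILetI false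
set_option linter.unusedSectionVars false
set_option maxHeartbeats 800000

namespace Groth.Agent.VeryAmpleX

open Groth.Agent
open Groth.Agent.H23.PicMul

variable {X S : Scheme.{u}} {f : X ⟶ S} {L : X.Modules}

theorem isRelVeryAmple_of_iso {M : X.Modules} (e : L ≅ M) (h : RelProj.IsRelVeryAmple f L) :
    RelProj.IsRelVeryAmple f M := by
  obtain ⟨E, hE, 𝒮, j, hS, P, p, chart, hP, O1, lam, hO1, i, hi, hip, ⟨eL⟩⟩ := h
  exact ⟨E, hE, 𝒮, j, hS, P, p, chart, hP, O1, lam, hO1, i, hi, hip, ⟨e.symm ≪≫ eL⟩⟩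

theorem isRelVeryAmple_immersion_comp {Y : Scheme.{u}} (k : Y ⟶ X) [IsImmersion k] {g : Y ⟶ S} (hk : k ≫ f = g)
    (h : RelProj.IsRelVeryAmple f L) : RelProj.IsRelVeryAmple g ((Scheme.Modules.pullback k).obj L) := by
  obtain ⟨E, hE, 𝒮, j, hS, P, p, chart, hP, O1, lam, hO1, i, hi, hip, ⟨eL⟩⟩ := h
  haveI := hi
  exact ⟨E, hE, 𝒮, j, hS, P, p, chart, hP, O1, lam, hO1, k ≫ i, inferInstance,
    by rw [Category.assoc, hip, hk],
    ⟨(Scheme.Modules.pullback k).mapIso eL ≪≫ (Scheme.Modules.pullbackComp k i).app O1⟩⟩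

/-- Coordinates restrict to opens of the base. -/
theorem ImmAt.restrict (hL : PicF.IsInvertible L) (V : S.Opens) (x : (f ⁻¹ᵁ V).toScheme)
    (h : ImmAt f L x.1) : ImmAt (f ∣_ V) (L.restrict (f ⁻¹ᵁ V).ι) x :=
  (ImmAt.baseChange (isPullback_morphismRestrict f V).flip hL h).of_iso
    ((Scheme.Modules.restrictFunctorIsoPullback (f ⁻¹ᵁ V).ι).app L).symm

/-- Coordinates over an open of the base are coordinates. -/
theorem ImmAt.of_restrict (V : S.Opens) (x : (f ⁻¹ᵁ V).toScheme)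
    (h : ImmAt (f ∣_ V) (L.restrict (f ⁻¹ᵁ V).ι) x) : ImmAt f L x.1 := by
  obtain ⟨U, hU, a, g, hg, hxg, haff, hs⟩ := h
  let j := (f ⁻¹ᵁ V).ι
  have himg : j ''ᵁ ((f ∣_ V) ⁻¹ᵁ U) = f ⁻¹ᵁ (V.ι ''ᵁ U) := image_morphismRestrict_preimage f V U
  let a₀ : Γ(L, f ⁻¹ᵁ (V.ι ''ᵁ U)) := AModX.res L himg.ge (show Γ(L, j ''ᵁ ((f ∣_ V) ⁻¹ᵁ U)) from a)
  have hloc : AmpleX.locus a₀ = j ''ᵁ AmpleX.locus a := by
    rw [AmpleX.locus_res, inf_eq_left.2 ((AmpleX.locus_le _).trans himg.le), ← AmpleX.image_locus j]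
  let ψ : Γ((f ⁻¹ᵁ V).toScheme, AmpleX.locus a) →+* Γ(X, AmpleX.locus a₀) :=
    (AModX.resR hloc.le).comp (j.appIso (AmpleX.locus a)).inv.hom
  have hψ : ∀ H ∈ secFns (f ∣_ V) (L.restrict j) a, ψ H ∈ secFns f L a₀ := fun H hH => by
    refine (Subring.closure_le (t := (secFns f L a₀).comap ψ)).2 ?_ hH
    rintro c (⟨r, rfl⟩ | ⟨m, hm⟩)
    · refine Subring.subset_closure (Or.inl ⟨(V.ι.appIso U).inv.hom r, ?_⟩)
      show ((V.ι.appIso U).inv ≫ f.appLE _ _ _) r =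
        ((f ∣_ V).appLE _ _ _ ≫ (j.appIso _).inv ≫ X.presheaf.map _) r
      congr 2
      rw [morphismRestrict_appLE]
      simp [j, Scheme.Opens.ι_appIso]
      erw [Category.id_comp, Category.id_comp, Scheme.Hom.appLE_map]
    · refine Subring.subset_closure (Or.inr ⟨AModX.res L himg.ge (show Γ(L, j ''ᵁ ((f ∣_ V) ⁻¹ᵁ U)) from m), ?_⟩)
      have h4 : AModX.res L (j.image_mono (AmpleX.locus_le a)) (show Γ(L, j ''ᵁ ((f ∣_ V) ⁻¹ᵁ U)) from m) =
          (j.appIso (AmpleX.locus a)).inv c •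
            AModX.res L (j.image_mono (AmpleX.locus_le a)) (show Γ(L, j ''ᵁ ((f ∣_ V) ⁻¹ᵁ U)) from a) := hm
      have h5 := congrArg (AModX.res L hloc.le) h4
      rw [AModX.res_smul, AModX.res_res, AModX.res_res] at h5
      show _ = AModX.resR hloc.le ((j.appIso _).inv c) • _
      rw [AModX.res_res, AModX.res_res]
      exact h5
  have hb : X.basicOpen (ψ g) = j ''ᵁ (f ⁻¹ᵁ V).toScheme.basicOpen g := by
    show X.basicOpen (X.presheaf.map _ ((j.appIso _).inv g)) = _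
    rw [Scheme.basicOpen_res, Scheme.image_basicOpen, hloc]
    exact inf_eq_right.2 (X.basicOpen_le _)
  refine ⟨V.ι ''ᵁ U, hU.image_of_isOpenImmersion V.ι, a₀, ψ g, hψ g hg, hb.ge ⟨x, hxg, rfl⟩,
    hb ▸ haff.image_of_isOpenImmersion j, fun c => ?_⟩
  obtain ⟨k, H, hH, e⟩ := hs ((j.appIso _).hom (AModX.resR hb.ge c))
  refine ⟨k, ψ H, hψ H hH, ?_⟩
  have e2 := congrArg (fun t => AModX.resR hb.le ((j.appIso ((f ⁻¹ᵁ V).toScheme.basicOpen g)).inv t)) e
  rw [map_mul, map_pow, map_mul, map_pow, Iso.hom_inv_id_apply, AModX.resR_resR, AModX.resR_self] at e2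
  have key : ∀ T, AModX.resR hb.le ((j.appIso ((f ⁻¹ᵁ V).toScheme.basicOpen g)).inv
      (AModX.resR ((f ⁻¹ᵁ V).toScheme.basicOpen_le g) T)) = AModX.resR (X.basicOpen_le (ψ g)) (ψ T) := fun T => by
    show ((f ⁻¹ᵁ V).toScheme.presheaf.map _ ≫ (j.appIso _).inv ≫ X.presheaf.map _) T =
      ((j.appIso _).inv ≫ X.presheaf.map _ ≫ X.presheaf.map _) T
    congr 2
    rw [← Category.assoc, Scheme.Hom.appIso_inv_naturality, Category.assoc, ← Functor.map_comp, ← Functor.map_comp]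
    rfl
  rw [key, key] at e2
  exact e2

theorem immAt_of_openCover {ι : Type*} (V : ι → S.Opens) (hV : ⨆ i, V i = ⊤)
    (h : ∀ i x, ImmAt (f ∣_ V i) (L.restrict (f ⁻¹ᵁ V i).ι) x) (x : X) : ImmAt f L x := by
  obtain ⟨i, hi⟩ := Opens.mem_iSup.1 (hV.ge (trivial : f x ∈ (⊤ : S.Opens)))
  exact ImmAt.of_restrict (V i) ⟨x, hi⟩ (h i ⟨x, hi⟩)

/-- The structure module of a quasi-affine scheme. -/
theorem immAt_structureModule [X.IsQuasiAffine] (x : X) : ImmAt X.toSpecΓ (Coh.structureModule X) x := by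
  obtain ⟨_, ⟨_, ⟨r, hr, rfl⟩, rfl⟩, hxr, -⟩ :=
    (Scheme.IsQuasiAffine.isBasis_basicOpen X).exists_subset_of_mem_open (Set.mem_univ x) isOpen_univ
  let a : Γ(Coh.structureModule X, X.toSpecΓ ⁻¹ᵁ ⊤) := (1 : Γ(X, X.toSpecΓ ⁻¹ᵁ ⊤))
  have hloc : AmpleX.locus a = ⊤ := by
    refine top_le_iff.1 (AmpleX.le_locus a (show (⊤ : X.Opens) ≤ X.toSpecΓ ⁻¹ᵁ ⊤ from le_rfl) ?_)
    show InvX.IsFrame (AModX.res (Coh.structureModule X) (le_refl (⊤ : X.Opens))
      (show Γ(Coh.structureModule X, ⊤) from (1 : Γ(X, ⊤))))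
    rw [AModX.res_self]
    exact InvX.isFrame_one ⊤
  have htop : secFns X.toSpecΓ (Coh.structureModule X) a = ⊤ := by
    refine top_le_iff.1 fun c _ => Subring.subset_closure (Or.inl ?_)
    have hs : Function.Surjective (X.toSpecΓ.appTop) := by
      rw [Scheme.toSpecΓ_appTop]
      exact (ConcreteCategory.bijective_of_isIso (Scheme.ΓSpecIso Γ(X, ⊤)).hom).2
    obtain ⟨d, hd⟩ := hs (AModX.resR hloc.ge c)
    refine ⟨d, ?_⟩
    have e : AModX.resR hloc.le (X.toSpecΓ.appTop d) = c := by rw [hd, AModX.resR_resR, AModX.resR_self]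
    exact e
  let g : Γ(X, AmpleX.locus a) := AModX.resR hloc.le r
  have hb : X.basicOpen g = X.basicOpen r := by
    show X.basicOpen (X.presheaf.map _ r) = _
    rw [Scheme.basicOpen_res, hloc]
    exact inf_eq_right.2 le_top
  refine ⟨⊤, isAffineOpen_top _, a, g, htop.ge trivial, hb ▸ hxr, hb ▸ hr, fun c => ?_⟩
  obtain ⟨n, y, e⟩ := exists_eq_pow_mul_of_isCompact_of_isQuasiSeparated X ⊤ isCompact_univ isQuasiSeparated_univ r
    (AModX.resR hb.ge c)
  refine ⟨n, AModX.resR hloc.le y, htop.ge trivial, ?_⟩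
  have e2 : AModX.resR hb.le (AModX.resR (X.basicOpen_le r) y) =
      AModX.resR hb.le (AModX.resR (X.basicOpen_le r) r ^ n * AModX.resR hb.ge c) := congrArg _ e
  rw [map_mul, map_pow, AModX.resR_resR, AModX.resR_resR, AModX.resR_resR, AModX.resR_self] at e2
  rw [AModX.resR_resR, AModX.resR_resR, mul_comm]
  exact e2.symm

theorem isRelVeryAmple_toSpecΓ [X.IsQuasiAffine] (hL : PicF.IsInvertible L) :
    RelProj.IsRelVeryAmple X.toSpecΓ L := by
  refine isRelVeryAmple_of_immAt hL fun x => ?_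
  obtain ⟨W, hxW, e, he⟩ := InvX.exists_frame hL x
  obtain ⟨_, ⟨_, ⟨r, hr, rfl⟩, rfl⟩, hxr, hrW⟩ :=
    (Scheme.IsQuasiAffine.isBasis_basicOpen X).exists_subset_of_mem_open (show x ∈ (W : Set X) from hxW) W.2
  obtain ⟨n, T, hT⟩ := QCoh.exists_pow_smul_eq_map_of_isQuasiSeparated (ProjUPX.isQCoh_of_isInvertible hL)
    isCompact_univ isQuasiSeparated_univ r (AModX.res L hrW e)
  have hxT : x ∈ AmpleX.locus T := by
    refine AmpleX.le_locus T (le_top : X.basicOpen r ≤ ⊤) ?_ hxr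
    rw [show AModX.res L (le_top : X.basicOpen r ≤ ⊤) T = _ from hT]
    exact (he.res _).isUnit_smul ((AModX.isUnit_resR _ _ le_rfl).pow n)
  have h1 := (immAt_structureModule x).tensor InvX.isInvertible_structureModule hL (V := ⊤)
    (show Γ(L, X.toSpecΓ ⁻¹ᵁ ⊤) from T) hxT
  exact h1.of_iso (H23.PicMul.cl_eq_iff.1 (by
    rw [H23.PicMul.cl_tensor, ← H23.PicMul.one_def, one_mul])).some

/-- Both projections of a fibre product give coordinates for the exterior product. -/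
theorem ImmAt.product {X' W : Scheme.{u}} {f' : X' ⟶ S} {L' : X'.Modules} {p₁ : W ⟶ X} {p₂ : W ⟶ X'}
    (hsq : IsPullback p₁ p₂ f f') (hL : PicF.IsInvertible L) (hL' : PicF.IsInvertible L') {w : W}
    (h : ImmAt f L (p₁ w)) (h' : ImmAt f' L' (p₂ w)) :
    ImmAt (p₁ ≫ f) (CohB1.tensorMod ((Scheme.Modules.pullback p₁).obj L) ((Scheme.Modules.pullback p₂).obj L')) w := by
  obtain ⟨U₁, hU₁, a₁, g₁, -, hx₁, hc₁⟩ := h.exists_coords (V := ⊤) trivial
  have hww : f (p₁ w) = f' (p₂ w) := by rw [← Scheme.Hom.comp_apply, hsq.w, Scheme.Hom.comp_apply]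
  have hwU₁ : f' (p₂ w) ∈ U₁ := hww ▸ AmpleX.locus_le a₁ (X.basicOpen_le g₁ hx₁)
  obtain ⟨U, hU, b, g', hUU₁, hxb, hg', haff', hs'⟩ := h'.exists_coords hwU₁
  let a := AModX.res L (f.preimage_mono hUU₁) a₁
  have hla₁ : AmpleX.locus a ≤ AmpleX.locus a₁ := (AmpleX.locus_res a₁ _).le.trans inf_le_left
  obtain ⟨g, hxa, hg, haff, hs⟩ := hc₁.exists_transfer (a' := a) hla₁ (fun H hH => secFns_res hUU₁ a₁ hla₁ hH) hx₁
    ((AmpleX.locus_res a₁ _).ge ⟨X.basicOpen_le g₁ hx₁, show f (p₁ w) ∈ U by rw [hww]; exact AmpleX.locus_le b (X'.basicOpen_le g' hxb)⟩)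
  let M := (Scheme.Modules.pullback p₁).obj L
  let M' := (Scheme.Modules.pullback p₂).obj L'
  have hM : PicF.IsInvertible M := PicClLib.isInvertible_pullback p₁ hL
  have hM' : PicF.IsInvertible M' := PicClLib.isInvertible_pullback p₂ hL'
  have hpre : (p₁ ≫ f) ⁻¹ᵁ U ≤ p₂ ⁻¹ᵁ (f' ⁻¹ᵁ U) := by rw [← Scheme.Hom.comp_preimage, ← hsq.w]
  let a' : Γ(M, (p₁ ≫ f) ⁻¹ᵁ U) := InvX.pullElt p₁ a
  let b' : Γ(M', (p₁ ≫ f) ⁻¹ᵁ U) := AModX.res M' hpre (InvX.pullElt p₂ b)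
  let c₀ : Γ(CohB1.tensorMod M M', (p₁ ≫ f) ⁻¹ᵁ U) := InvX.tmul a' b'
  have hlb : AmpleX.locus b' = p₂ ⁻¹ᵁ AmpleX.locus b := by
    rw [AmpleX.locus_res, AmpleX.locus_pullElt hL']
    exact inf_eq_left.2 (le_of_le_of_eq (p₂.preimage_mono (AmpleX.locus_le b)) (by
      rw [← Scheme.Hom.comp_preimage, ← hsq.w]))
  have hlc : AmpleX.locus c₀ = p₁ ⁻¹ᵁ AmpleX.locus a ⊓ p₂ ⁻¹ᵁ AmpleX.locus b := by
    rw [AmpleX.locus_tmul hM hM', AmpleX.locus_pullElt hL, hlb]
  let φ : Γ(X, AmpleX.locus a) →+* Γ(W, AmpleX.locus c₀) :=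
    (p₁.appLE (AmpleX.locus a) (AmpleX.locus c₀) (hlc.le.trans inf_le_left)).hom
  let φ' : Γ(X', AmpleX.locus b) →+* Γ(W, AmpleX.locus c₀) :=
    (p₂.appLE (AmpleX.locus b) (AmpleX.locus c₀) (hlc.le.trans inf_le_right)).hom
  let R := secFns (p₁ ≫ f) (CohB1.tensorMod M M') c₀
  have hφ : ∀ H ∈ secFns f L a, φ H ∈ R := fun H hH => by
    refine (Subring.closure_le (t := R.comap φ)).2 ?_ hH
    rintro c (⟨r, rfl⟩ | ⟨m, hm⟩)
    · refine Subring.subset_closure (Or.inl ⟨r, ?_⟩)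
      show _ = (f.appLE _ _ _ ≫ p₁.appLE _ _ _) r
      rw [Scheme.Hom.appLE_comp_appLE]
    · refine Subring.subset_closure (Or.inr ⟨InvX.tmul (InvX.pullElt p₁ m : Γ(M, (p₁ ≫ f) ⁻¹ᵁ U)) b', ?_⟩)
      have := congrArg (fun t => AModX.res M (hlc.le.trans inf_le_left) (InvX.pullElt p₁ t)) hm
      rw [InvX.pullElt_smul, AModX.res_smul, ← InvX.res_pullElt, ← InvX.res_pullElt, AModX.res_res,
        AModX.res_res] at this
      rw [InvX.res_tmul, InvX.res_tmul]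
      refine (congrArg (fun t => InvX.tmul t _) this).trans ?_
      rw [InvX.tmul_smul_left]
      rfl
  have hφ' : ∀ H ∈ secFns f' L' b, φ' H ∈ R := fun H hH => by
    refine (Subring.closure_le (t := R.comap φ')).2 ?_ hH
    rintro c (⟨r, rfl⟩ | ⟨m, hm⟩)
    · refine Subring.subset_closure (Or.inl ⟨r, ?_⟩)
      show _ = (f'.appLE _ _ _ ≫ p₂.appLE _ _ _) r
      rw [Scheme.Hom.appLE_comp_appLE]
      simp only [hsq.w]
    · refine Subring.subset_closure (Or.inr ⟨InvX.tmul a' (AModX.res M' hpre (InvX.pullElt p₂ m)), ?_⟩)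
      have := congrArg (fun t => AModX.res M' (hlc.le.trans inf_le_right) (InvX.pullElt p₂ t)) hm
      rw [InvX.pullElt_smul, AModX.res_smul, ← InvX.res_pullElt, ← InvX.res_pullElt, AModX.res_res,
        AModX.res_res] at this
      rw [InvX.res_tmul, InvX.res_tmul, AModX.res_res, AModX.res_res, this, InvX.tmul_smul_right]
      rfl
  have hb : W.basicOpen (φ g * φ' g') = p₁ ⁻¹ᵁ X.basicOpen g ⊓ p₂ ⁻¹ᵁ X'.basicOpen g' := by
    rw [Scheme.basicOpen_mul, Scheme.preimage_basicOpen, Scheme.preimage_basicOpen]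
    show W.basicOpen ((p₁.appLE _ _ _).hom g) ⊓ W.basicOpen ((p₂.appLE _ _ _).hom g') = _
    rw [Scheme.Hom.appLE, Scheme.Hom.appLE, CommRingCat.comp_apply, CommRingCat.comp_apply,
      Scheme.basicOpen_res, Scheme.basicOpen_res, hlc]
    refine le_antisymm (inf_le_inf inf_le_right inf_le_right) (le_inf (le_inf ?_ inf_le_left) (le_inf ?_ inf_le_right))
    · exact inf_le_inf (W.basicOpen_le _) (W.basicOpen_le _)
    · exact inf_le_inf (W.basicOpen_le _) (W.basicOpen_le _)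
  have hD : X.basicOpen g ≤ f ⁻¹ᵁ U := (X.basicOpen_le g).trans (AmpleX.locus_le a)
  have hD' : X'.basicOpen g' ≤ f' ⁻¹ᵁ U := (X'.basicOpen_le g').trans (AmpleX.locus_le b)
  have hres := Scheme.Hom.isPullback_resLE hsq hD' hD hb
  haveI : IsAffine (X.basicOpen g).toScheme := haff
  haveI : IsAffine (X'.basicOpen g').toScheme := haff'
  haveI : IsAffine U.toScheme := hU
  let G₀ := φ g * φ' g'
  haveI : IsAffine (W.basicOpen G₀).toScheme := IsAffine.of_isIso hres.isoPullback.hom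
  haveI : IsAffineHom (f.resLE U (X.basicOpen g) hD) := inferInstance
  haveI : IsAffineHom (p₂.resLE (X'.basicOpen g') (W.basicOpen G₀) (hb.le.trans inf_le_right)) := inferInstance
  have hpo := RingPO.isPushout_appLE_of_isPullback hres.flip (isAffineOpen_top U.toScheme)
    (isAffineOpen_top (X'.basicOpen g').toScheme) le_top (isAffineOpen_top (X.basicOpen g).toScheme) rfl
    (isAffineOpen_top (W.basicOpen G₀).toScheme) rfl le_top
  refine ⟨U, hU, c₀, G₀, mul_mem (hφ g hg) (hφ' g' hg'), hb.ge ⟨hxa, hxb⟩, inferInstanceAs (IsAffine _), fun c => ?_⟩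
  let ρ := (W.presheaf.map (homOfLE (W.basicOpen_le G₀)).op).hom
  let T : Subring Γ(W, W.basicOpen G₀) :=
    { carrier := {c | ∃ k, ∃ H ∈ R, c * ρ G₀ ^ k = ρ H}
      mul_mem' := fun {p q} ⟨k, H, hH, e⟩ ⟨l, K, hK, e'⟩ => ⟨k + l, H * K, mul_mem hH hK, by
        rw [map_mul ρ H K, ← e, ← e', pow_add]; ring⟩
      one_mem' := ⟨0, 1, one_mem _, by rw [pow_zero, mul_one, map_one]⟩
      add_mem' := fun {p q} ⟨k, H, hH, e⟩ ⟨l, K, hK, e'⟩ => ⟨k + l, H * G₀ ^ l + K * G₀ ^ k,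
        add_mem (mul_mem hH (pow_mem (mul_mem (hφ g hg) (hφ' g' hg')) _))
          (mul_mem hK (pow_mem (mul_mem (hφ g hg) (hφ' g' hg')) _)), by
          rw [map_add, map_mul ρ H, map_mul ρ K, map_pow ρ G₀, map_pow ρ G₀, ← e, ← e', pow_add]; ring⟩
      zero_mem' := ⟨0, 0, zero_mem _, by rw [zero_mul, map_zero]⟩
      neg_mem' := fun {p} ⟨k, H, hH, e⟩ => ⟨k, -H, neg_mem hH, by rw [map_neg, ← e, neg_mul]⟩ }
  suffices hT : T = ⊤ by
    obtain ⟨k, H, hH, e⟩ := (hT.ge (Subring.mem_top c) : c ∈ T)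
    exact ⟨k, H, hH, e⟩
  have key : T.map (W.basicOpen G₀).topIso.inv.hom = ⊤ := by
    refine subring_eq_top_of_isPushout hpo _ (fun r => ?_) (fun c' => ?_)
    · obtain ⟨k, H, hH, e⟩ := hs' ((X'.basicOpen g').topIso.hom r)
      refine ⟨(p₂.appLE (X'.basicOpen g') (W.basicOpen G₀) (hb.le.trans inf_le_right)).hom
        ((X'.basicOpen g').topIso.hom r), ⟨k, φ' H * φ g ^ k, mul_mem (hφ' H hH) (pow_mem (hφ g hg) _), ?_⟩, ?_⟩
      · have key : ∀ u : Γ(X', AmpleX.locus b),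
            (p₂.appLE (X'.basicOpen g') (W.basicOpen G₀) (hb.le.trans inf_le_right)).hom
              (AModX.resR (X'.basicOpen_le g') u) = ρ (φ' u) := fun u => by
          show (X'.presheaf.map _ ≫ p₂.appLE _ _ _) u = (p₂.appLE _ _ _ ≫ W.presheaf.map _) u
          rw [Scheme.Hom.map_appLE, Scheme.Hom.appLE_map]
        show _ * ρ (φ g * φ' g') ^ k = _
        rw [map_mul ρ, map_mul ρ, map_pow ρ, mul_pow, ← key, ← key, ← e, map_mul, map_pow]
        ring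
      · show ((X'.basicOpen g').topIso.hom ≫ p₂.appLE _ _ _ ≫ (W.basicOpen G₀).topIso.inv) r = _
        congr 2
        simp [Scheme.Opens.topIso, Scheme.Hom.resLE_appLE]
        rfl
    · obtain ⟨k, H, hH, e⟩ := hs ((X.basicOpen g).topIso.hom c')
      refine ⟨(p₁.appLE (X.basicOpen g) (W.basicOpen G₀) (hb.le.trans inf_le_left)).hom
        ((X.basicOpen g).topIso.hom c'), ⟨k, φ H * φ' g' ^ k, mul_mem (hφ H hH) (pow_mem (hφ' g' hg') _), ?_⟩, ?_⟩
      · have key : ∀ u : Γ(X, AmpleX.locus a),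
            (p₁.appLE (X.basicOpen g) (W.basicOpen G₀) (hb.le.trans inf_le_left)).hom
              (AModX.resR (X.basicOpen_le g) u) = ρ (φ u) := fun u => by
          show (X.presheaf.map _ ≫ p₁.appLE _ _ _) u = (p₁.appLE _ _ _ ≫ W.presheaf.map _) u
          rw [Scheme.Hom.map_appLE, Scheme.Hom.appLE_map]
        show _ * ρ (φ g * φ' g') ^ k = _
        rw [map_mul ρ, map_mul ρ, map_pow ρ, mul_pow, ← key, ← key, ← e, map_mul, map_pow]
        ring
      · show ((X.basicOpen g).topIso.hom ≫ p₁.appLE _ _ _ ≫ (W.basicOpen G₀).topIso.inv) c' = _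
        congr 2
        simp [Scheme.Opens.topIso, Scheme.Hom.resLE_appLE]
        rfl
  refine top_le_iff.1 fun c _ => ?_
  obtain ⟨c₁, hc₁, e⟩ := key.ge (trivial : (W.basicOpen G₀).topIso.inv.hom c ∈ (⊤ : Subring _))
  have e2 : c₁ = c := (ConcreteCategory.bijective_of_isIso (W.basicOpen G₀).topIso.inv).1 e
  exact e2 ▸ hc₁

end Groth.Agent.VeryAmpleX
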