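import Groth.Agent.VeryAmpleX.SigApps
import Groth.Agent.VeryAmpleX.CriterionApps
import Groth.Agent.QCoh.DevissageIdeal
import Mathlib.AlgebraicGeometry.Limits

/-!
# Very ample modules on disjoint unions
-/

noncomputable section

universe u

open CategoryTheory CategoryTheory.Limits AlgebraicGeometry TopologicalSpace Opposite

set_option backward.isDefEq.respectTransparency false
set_option backward.isDefEq.respectTransparency.types false
set_option linter.style.haveILetI false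
set_option linter.unusedSectionVars false
set_option maxHeartbeats 800000

namespace Groth.Agent.VeryAmpleX.Sig

open Groth.Agent Groth.Agent.VeryAmpleX

section ext

variable {A B P : Scheme.{u}} (i : A ⟶ P) (i' : B ⟶ P) [IsOpenImmersion i] [IsOpenImmersion i']
  (hdisj : i.opensRange ⊓ i'.opensRange = ⊥) (hcov : i.opensRange ⊔ i'.opensRange = ⊤) (L : P.Modules)

include hdisj hcov in
theorem exists_extZero :
    ∃ z : (Scheme.Modules.pushforward i).obj (L.restrict i) ⟶ L,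
      ∀ (V : P.Opens) (t : Γ(L, i ''ᵁ (i ⁻¹ᵁ V))),
        AModX.res L ((Scheme.Hom.image_preimage_eq_opensRange_inf i V).le.trans inf_le_right)
          (z.app V (show Γ((Scheme.Modules.pushforward i).obj (L.restrict i), V) from t)) = t ∧
        AModX.res L ((Scheme.Hom.image_preimage_eq_opensRange_inf i' V).le.trans inf_le_right)
          (z.app V (show Γ((Scheme.Modules.pushforward i).obj (L.restrict i), V) from t)) = 0 := by
  classical
  let W : ∀ V : P.Opens, ULift.{u} Bool → P.Opens := fun V b =>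
    cond b.down (i ''ᵁ (i ⁻¹ᵁ V)) (i' ''ᵁ (i' ⁻¹ᵁ V))
  have hW : ∀ V b, W V b ≤ V := fun V b => by
    rcases b with ⟨_ | _⟩
    · exact (Scheme.Hom.image_preimage_eq_opensRange_inf i' V).le.trans inf_le_right
    · exact (Scheme.Hom.image_preimage_eq_opensRange_inf i V).le.trans inf_le_right
  have hWcov : ∀ (V : P.Opens), ∀ p ∈ V, ∃ b, p ∈ W V b := fun V p hp => by
    rcases hcov.ge (show p ∈ (⊤ : P.Opens) from trivial) with h | h
    · exact ⟨⟨true⟩, (Scheme.Hom.image_preimage_eq_opensRange_inf i V).ge ⟨h, hp⟩⟩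
    · exact ⟨⟨false⟩, (Scheme.Hom.image_preimage_eq_opensRange_inf i' V).ge ⟨h, hp⟩⟩
  let sf : ∀ V : P.Opens, Γ(L, i ''ᵁ (i ⁻¹ᵁ V)) → ∀ b, Γ(L, W V b) := fun V t b => match b with
    | ⟨true⟩ => t
    | ⟨false⟩ => 0
  have hempty : ∀ V, W V ⟨true⟩ ⊓ W V ⟨false⟩ = ⊥ := fun V => bot_unique <| hdisj.le.trans' <|
    inf_le_inf (i.image_le_opensRange _) (i'.image_le_opensRange _)
  have hc : ∀ V t b c, AModX.res L inf_le_left (sf V t b) =
      AModX.res L (inf_le_right : W V b ⊓ W V c ≤ W V c) (sf V t c) := fun V t b c => by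
    rcases b with ⟨_ | _⟩ <;> rcases c with ⟨_ | _⟩
    · rfl
    · refine AModX.eq_of_locally _ _ fun p hp => ?_
      exact ((hempty V).le ⟨hp.2, hp.1⟩).elim
    · refine AModX.eq_of_locally _ _ fun p hp => ?_
      exact ((hempty V).le ⟨hp.1, hp.2⟩).elim
    · rfl
  choose s hs using fun V t => (AModX.existsUnique_glue (W V) (hW V) (hWcov V) (sf V t) (hc V t)).exists
  have uniq : ∀ (V : P.Opens) (u v : Γ(L, V)), (∀ b, AModX.res L (hW V b) u = AModX.res L (hW V b) v) → u = v :=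
    fun V u v h => AModX.eq_of_locally _ _ fun p hp => by
      obtain ⟨b, hb⟩ := hWcov V p hp
      exact ⟨W V b, hW V b, hb, h b⟩
  let z : (Scheme.Modules.pushforward i).obj (L.restrict i) ⟶ L :=
    { val := PresheafOfModules.homMk
        { app := fun V => AddCommGrpCat.ofHom (AddMonoidHom.mk' (fun t => s V.unop t) fun t t' => uniq _ _ _ fun b => by
            rw [map_add, hs, hs, hs]
            rcases b with ⟨_ | _⟩
            · exact (add_zero _).symm
            · rfl)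
          naturality := fun V V' j => by
            ext t
            refine uniq _ _ _ fun b => ?_
            refine (hs _ _ b).trans ?_
            rcases b with ⟨_ | _⟩
            · refine Eq.trans ?_ (AModX.res_res _ _ _).symm
              exact ((AModX.res_res _ _ _).symm.trans ((congrArg (AModX.res L
                (i'.image_mono (i'.preimage_mono j.unop.le))) (hs V.unop t ⟨false⟩)).trans (map_zero _))).symm
            · refine Eq.trans ?_ (AModX.res_res _ _ _).symm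
              exact ((AModX.res_res _ _ _).symm.trans (congrArg (AModX.res L
                (i.image_mono (i.preimage_mono j.unop.le))) (hs V.unop t ⟨true⟩))).symm }
        fun V r t => uniq _ _ _ fun b => by
          refine (hs _ _ b).trans ?_
          refine Eq.trans ?_ (AModX.res_smul (hW _ b) r _).symm
          refine Eq.trans ?_ (congrArg (_ • ·) (hs V.unop t b)).symm
          rcases b with ⟨_ | _⟩
          · exact (smul_zero _).symm
          · show (i.appIso _).inv ((i.app V.unop).hom r) • (show Γ(L, i ''ᵁ (i ⁻¹ᵁ V.unop)) from t) =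
              AModX.resR ((Scheme.Hom.image_preimage_eq_opensRange_inf i V.unop).le.trans inf_le_right) r • (show Γ(L, i ''ᵁ (i ⁻¹ᵁ V.unop)) from t)
            congr 1
            rw [← CommRingCat.comp_apply, Scheme.Hom.app_appIso_inv]
            rfl }
  exact ⟨z, fun V t => ⟨hs V t ⟨true⟩, hs V t ⟨false⟩⟩⟩

variable {Y : Scheme.{u}} (h : P ⟶ Y) {E : Y.Modules}

include hdisj hcov in
/-- Coordinates on one part give coordinates on the union. -/
theorem exists_extend_map (σ : E ⟶ (Scheme.Modules.pushforward (i ≫ h)).obj ((Scheme.Modules.pullback i).obj L)) :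
    ∃ σ' : E ⟶ (Scheme.Modules.pushforward h).obj L, ∀ a : A, ImmAt σ a → ImmAt σ' (i a) := by
  obtain ⟨z, hz⟩ := exists_extZero i i' hdisj hcov L
  let e := (Scheme.Modules.restrictFunctorIsoPullback i).app L
  let σ₁ : E ⟶ (Scheme.Modules.pushforward (i ≫ h)).obj (L.restrict i) :=
    σ ≫ (Scheme.Modules.pushforward (i ≫ h)).map e.symm.hom
  let σ' : E ⟶ (Scheme.Modules.pushforward h).obj L :=
    σ₁ ≫ ((Scheme.Modules.pushforwardComp i h).app (L.restrict i)).inv ≫ (Scheme.Modules.pushforward h).map z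
  refine ⟨σ', fun x hx => ?_⟩
  obtain ⟨U, hU, a, g, hxg, hg, haff, hs⟩ := (hx.mapIso e.symm).exists_coords
  have hsg : ∀ m : Γ(E, U),
      AModX.res L ((Scheme.Hom.image_preimage_eq_opensRange_inf i (h ⁻¹ᵁ U)).le.trans inf_le_right) (sg σ' m) =
        (show Γ(L, i ''ᵁ (i ⁻¹ᵁ (h ⁻¹ᵁ U))) from sg σ₁ m) ∧
      AModX.res L ((Scheme.Hom.image_preimage_eq_opensRange_inf i' (h ⁻¹ᵁ U)).le.trans inf_le_right) (sg σ' m) = 0 :=
    fun m => hz (h ⁻¹ᵁ U) (sg σ₁ m)
  let Ω := AmpleX.locus (sg σ₁ a)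
  let t1 : Γ(E, U) → Γ(L, i ''ᵁ (i ⁻¹ᵁ (h ⁻¹ᵁ U))) := fun m => sg σ₁ m
  have h0 : AmpleX.locus (sg σ' a) ⊓ i ''ᵁ (i ⁻¹ᵁ (h ⁻¹ᵁ U)) = AmpleX.locus (t1 a) :=
    (AmpleX.locus_res _ _).symm.trans (congrArg AmpleX.locus (hsg a).1)
  have hΩ : i ''ᵁ Ω ≤ AmpleX.locus (sg σ' a) := by
    exact (AmpleX.image_locus i (t1 a)).le.trans (h0.ge.trans inf_le_left)
  have hΩ' : AmpleX.locus (sg σ' a) ≤ i ''ᵁ Ω := fun p hp => by
    rcases hcov.ge (show p ∈ (⊤ : P.Opens) from trivial) with hA | hB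
    · exact (AmpleX.image_locus i (t1 a)).ge
        (h0.le ⟨hp, (Scheme.Hom.image_preimage_eq_opensRange_inf i (h ⁻¹ᵁ U)).ge ⟨hA, AmpleX.locus_le _ hp⟩⟩)
    · exfalso
      have hp' : p ∈ AmpleX.locus (AModX.res L ((Scheme.Hom.image_preimage_eq_opensRange_inf i' (h ⁻¹ᵁ U)).le.trans
          inf_le_right) (sg σ' a)) := by
        rw [AmpleX.locus_res]
        exact ⟨hp, (Scheme.Hom.image_preimage_eq_opensRange_inf i' (h ⁻¹ᵁ U)).ge ⟨hB, AmpleX.locus_le _ hp⟩⟩
      rw [(hsg a).2] at hp'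
      have hfr := AmpleX.isFrame_res_locus (M := L) (0 : Γ(L, i' ''ᵁ (i' ⁻¹ᵁ (h ⁻¹ᵁ U))))
      rw [map_zero] at hfr
      have h10 : (1 : Γ(P, AmpleX.locus (0 : Γ(L, i' ''ᵁ (i' ⁻¹ᵁ (h ⁻¹ᵁ U)))))) = 0 :=
        hfr.coord_unique le_rfl (by rw [map_zero, smul_zero, smul_zero])
      have h2 := congrArg P.basicOpen h10
      rw [P.basicOpen_of_isUnit isUnit_one, Scheme.basicOpen_zero] at h2
      exact (h2.le hp' : _)
  have hloc : AmpleX.locus (sg σ' a) = i ''ᵁ Ω := le_antisymm hΩ' hΩ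
  let ψ : Γ(A, Ω) →+* Γ(P, AmpleX.locus (sg σ' a)) := (AModX.resR hloc.le).comp (i.appIso Ω).inv.hom
  have hψ : ∀ H ∈ secFns (σ ≫ (Scheme.Modules.pushforward (i ≫ h)).map e.symm.hom) a, ψ H ∈ secFns σ' a := fun H hH => by
    refine (Subring.closure_le (t := (secFns σ' a).comap ψ)).2 ?_ hH
    rintro c (⟨r, rfl⟩ | ⟨m, hm⟩)
    · refine Subring.subset_closure (Or.inl ⟨r, ?_⟩)
      show _ = ((i ≫ h).appLE _ _ _ ≫ (i.appIso Ω).inv ≫ P.presheaf.map _) r
      rw [← Scheme.Hom.appLE_comp_appLE i h U (i ''ᵁ Ω) Ω (hΩ.trans (AmpleX.locus_le _))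
        (i.preimage_image_eq Ω).ge, Category.assoc]
      congr 2
      rw [← Scheme.Hom.appIso_hom', Iso.hom_inv_id_assoc, Scheme.Hom.appLE_map]
    · refine Subring.subset_closure (Or.inr ⟨m, ?_⟩)
      have h4 : AModX.res L (i.image_mono (AmpleX.locus_le (sg σ₁ a))) (show Γ(L, i ''ᵁ (i ⁻¹ᵁ (h ⁻¹ᵁ U))) from sg σ₁ m) =
          (i.appIso Ω).inv c •
            AModX.res L (i.image_mono (AmpleX.locus_le (sg σ₁ a))) (show Γ(L, i ''ᵁ (i ⁻¹ᵁ (h ⁻¹ᵁ U))) from sg σ₁ a) := hm
      have e1 : ∀ m, AModX.res L (hloc.le.trans (i.image_mono (AmpleX.locus_le (sg σ₁ a)))) (t1 m) =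
          AModX.res L (AmpleX.locus_le (sg σ' a)) (sg σ' m) := fun m =>
        (congrArg (AModX.res L _) (hsg m).1.symm).trans (AModX.res_res _ _ _)
      refine (e1 m).symm.trans (Eq.trans ?_ (congrArg (_ • ·) (e1 a)))
      refine (AModX.res_res _ hloc.le _).symm.trans ((congrArg (AModX.res L hloc.le) h4).trans ?_)
      rw [AModX.res_smul]
      exact congrArg (_ • ·) (AModX.res_res _ _ _)
  have hb : P.basicOpen (ψ g) = i ''ᵁ A.basicOpen g := by
    show P.basicOpen (P.presheaf.map _ ((i.appIso _).inv g)) = _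
    rw [Scheme.basicOpen_res, Scheme.image_basicOpen, hloc]
    exact inf_eq_right.2 (P.basicOpen_le _)
  refine immAt_of_coords hU (a := a) (g := ψ g) (hb.ge ⟨x, hxg, rfl⟩)
    ⟨hψ g hg, hb ▸ haff.image_of_isOpenImmersion i, fun c => ?_⟩
  obtain ⟨k, H, hH, e1⟩ := hs ((i.appIso _).hom (AModX.resR hb.ge c))
  refine ⟨k, ψ H, hψ H hH, ?_⟩
  have e2 := congrArg (fun t => AModX.resR hb.le ((i.appIso (A.basicOpen g)).inv t)) e1
  rw [map_mul, map_pow, map_mul, map_pow, Iso.hom_inv_id_apply, AModX.resR_resR, AModX.resR_self] at e2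
  have key : ∀ T, AModX.resR hb.le ((i.appIso (A.basicOpen g)).inv
      (AModX.resR (A.basicOpen_le g) T)) = AModX.resR (P.basicOpen_le (ψ g)) (ψ T) := fun T => by
    show (A.presheaf.map _ ≫ (i.appIso _).inv ≫ P.presheaf.map _) T =
      ((i.appIso _).inv ≫ P.presheaf.map _ ≫ P.presheaf.map _) T
    congr 2
    rw [← Category.assoc, Scheme.Hom.appIso_inv_naturality, Category.assoc, ← Functor.map_comp, ← Functor.map_comp]
    rfl
  rw [key, key] at e2
  exact e2

end ext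

theorem ImmAt.of_factor {X S : Scheme.{u}} {f : X ⟶ S} {L : X.Modules} {E E' : S.Modules}
    {σ : E ⟶ (Scheme.Modules.pushforward f).obj L} {σ' : E' ⟶ (Scheme.Modules.pushforward f).obj L}
    (k : E ⟶ E') (hk : k ≫ σ' = σ) {x : X} (h : ImmAt σ x) : ImmAt σ' x := by
  subst hk
  obtain ⟨U, hU, a, g, hg, hxg, haff, hs⟩ := h
  have hle : secFns (k ≫ σ') a ≤ secFns σ' (k.app U a) := Subring.closure_mono (by
    rintro c (hc | ⟨m, hm⟩)
    · exact Or.inl hc
    · exact Or.inr ⟨k.app U m, hm⟩)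
  exact ⟨U, hU, k.app U a, g, hle hg, hxg, haff, fun c => by
    obtain ⟨n, H, hH, e⟩ := hs c
    exact ⟨n, H, hle hH, e⟩⟩

theorem isRelVeryAmple_of_disjoint {A B P Y : Scheme.{u}} {L : P.Modules} (i : A ⟶ P) (i' : B ⟶ P)
    [IsOpenImmersion i] [IsOpenImmersion i']
    (hdisj : i.opensRange ⊓ i'.opensRange = ⊥) (hcov : i.opensRange ⊔ i'.opensRange = ⊤) (h : P ⟶ Y)
    (hva : RelProj.IsRelVeryAmple (i ≫ h) ((Scheme.Modules.pullback i).obj L))
    (hva' : RelProj.IsRelVeryAmple (i' ≫ h) ((Scheme.Modules.pullback i').obj L)) :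
    RelProj.IsRelVeryAmple h L := by
  obtain ⟨E, hE, σ, hσ⟩ := exists_map_of_isRelVeryAmple hva
  obtain ⟨E', hE', σ', hσ'⟩ := exists_map_of_isRelVeryAmple hva'
  obtain ⟨τ, hτ⟩ := exists_extend_map i i' hdisj hcov L h σ
  obtain ⟨τ', hτ'⟩ := exists_extend_map i' i (by rw [inf_comm]; exact hdisj) (by rw [sup_comm]; exact hcov) L h σ'
  let T : ULift.{u} Bool → Y.Modules := fun b => cond b.down E E'
  have hT : ∀ b, Coh.IsQCoh (T b) := fun b => by rcases b with ⟨_ | _⟩ <;> assumption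
  let d : (⨁ T) ⟶ (Scheme.Modules.pushforward h).obj L := biproduct.desc fun b => match b with
    | ⟨true⟩ => τ
    | ⟨false⟩ => τ'
  refine isRelVeryAmple_of_immAt (QCoh.isQCoh_biproduct T hT) (σ := d) fun p => ?_
  rcases hcov.ge (show p ∈ (⊤ : P.Opens) from trivial) with ⟨a, rfl⟩ | ⟨b, rfl⟩
  · exact ImmAt.of_factor (biproduct.ι T ⟨true⟩) (biproduct.ι_desc _ _) (hτ a (hσ a))
  · exact ImmAt.of_factor (biproduct.ι T ⟨false⟩) (biproduct.ι_desc _ _) (hτ' b (hσ' b))

end Groth.Agent.VeryAmpleX.Sig
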