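import Groth.Agent.VeryAmpleX.SigApps
import Groth.Agent.VeryAmpleX.CriterionApps

/-!
# Exterior products of very ample modules
-/

noncomputable section

universe u

open CategoryTheory CategoryTheory.Limits AlgebraicGeometry TopologicalSpace Opposite

set_option backward.isDefEq.respectTransparency false
set_option backward.isDefEq.respectTransparency.types false
set_option linter.style.haveILetI false
set_option linter.unusedSectionVars false
set_option maxHeartbeats 800000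

namespace Groth.Agent.VeryAmpleX.Sig

open Groth.Agent Groth.Agent.VeryAmpleX

variable {X S : Scheme.{u}} {f : X ⟶ S} {L : X.Modules} {E : S.Modules}
  {σ : E ⟶ (Scheme.Modules.pushforward f).obj L}

theorem secFns_res {U U' : S.Opens} (i : U' ≤ U) (a : Γ(E, U))
    (hle : AmpleX.locus (sg σ (AModX.res E i a)) ≤ AmpleX.locus (sg σ a)) {H : Γ(X, AmpleX.locus (sg σ a))}
    (hH : H ∈ secFns σ a) : AModX.resR hle H ∈ secFns σ (AModX.res E i a) := by
  refine (Subring.closure_le (t := (secFns σ (AModX.res E i a)).comap (AModX.resR hle))).2 ?_ hH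
  rintro c (⟨r, rfl⟩ | ⟨m, hm⟩)
  · refine Subring.subset_closure (Or.inl ⟨S.presheaf.map (homOfLE i).op r, ?_⟩)
    show (S.presheaf.map _ ≫ f.appLE _ _ _) r = (f.appLE _ _ _ ≫ X.presheaf.map _) r
    rw [Scheme.Hom.map_appLE, Scheme.Hom.appLE_map]
  · refine Subring.subset_closure (Or.inr ⟨AModX.res E i m, ?_⟩)
    have := congrArg (AModX.res L hle) hm
    rw [AModX.res_res, AModX.res_smul, AModX.res_res] at this
    refine (congrArg (AModX.res L _) (sg_res σ i m)).trans ?_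
    refine Eq.trans ?_ (congrArg (_ • ·) (congrArg (AModX.res L _) (sg_res σ i a))).symm
    rw [AModX.res_res, AModX.res_res]
    exact this

/-- The second projection's map, over the first. -/
def sndMap {X' W : Scheme.{u}} {f' : X' ⟶ S} {L' : X'.Modules} {E' : S.Modules} {p₁ : W ⟶ X} {p₂ : W ⟶ X'}
    (hw : p₁ ≫ f = p₂ ≫ f') (σ' : E' ⟶ (Scheme.Modules.pushforward f').obj L') :
    E' ⟶ (Scheme.Modules.pushforward (p₁ ≫ f)).obj ((Scheme.Modules.pullback p₂).obj L') :=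
  pullMap σ' p₂ ≫ ((Scheme.Modules.pushforwardCongr hw.symm).app _).hom

theorem sg_sndMap {X' W : Scheme.{u}} {f' : X' ⟶ S} {L' : X'.Modules} {E' : S.Modules} {p₁ : W ⟶ X} {p₂ : W ⟶ X'}
    (hw : p₁ ≫ f = p₂ ≫ f') {σ' : E' ⟶ (Scheme.Modules.pushforward f').obj L'} {U : S.Opens} (e : Γ(E', U))
    (hle : (p₁ ≫ f) ⁻¹ᵁ U ≤ p₂ ⁻¹ᵁ (f' ⁻¹ᵁ U)) :
    sg (sndMap hw σ') e = AModX.res ((Scheme.Modules.pullback p₂).obj L') hle (InvX.pullElt p₂ (sg σ' e)) :=
  rfl

/-- Both projections of a fibre product give coordinates for the exterior product. -/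
theorem ImmAt.product {X' W : Scheme.{u}} {f' : X' ⟶ S} {L' : X'.Modules} {E' : S.Modules}
    {σ' : E' ⟶ (Scheme.Modules.pushforward f').obj L'} {p₁ : W ⟶ X} {p₂ : W ⟶ X'}
    (hsq : IsPullback p₁ p₂ f f') (hL : PicF.IsInvertible L) (hL' : PicF.IsInvertible L') {w : W}
    (h : ImmAt σ (p₁ w)) (h' : ImmAt σ' (p₂ w)) :
    ImmAt (tensMap (pullMap σ p₁) (sndMap hsq.w σ')) w := by
  obtain ⟨U₁, hU₁, ea₁, g₁, hx₁, hc₁⟩ := h.exists_coords
  obtain ⟨U₂, hU₂, eb₂, g₂, hx₂, hc₂⟩ := h'.exists_coords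
  have hww : f (p₁ w) = f' (p₂ w) := by rw [← Scheme.Hom.comp_apply, hsq.w, Scheme.Hom.comp_apply]
  have hwU₁ : f (p₁ w) ∈ U₁ := AmpleX.locus_le (sg σ ea₁) (X.basicOpen_le g₁ hx₁)
  have hwU₂ : f (p₁ w) ∈ U₂ := hww ▸ AmpleX.locus_le (sg σ' eb₂) (X'.basicOpen_le g₂ hx₂)
  obtain ⟨U, hU, hwU, hUU⟩ := exists_isAffineOpen_mem_and_subset (x := f (p₁ w)) (U := U₁ ⊓ U₂) ⟨hwU₁, hwU₂⟩
  let ea := AModX.res E (hUU.trans inf_le_left) ea₁
  let eb := AModX.res E' (hUU.trans inf_le_right) eb₂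
  let a := sg σ ea
  let b := sg σ' eb
  have hla₁ : AmpleX.locus a ≤ AmpleX.locus (sg σ ea₁) := by
    show AmpleX.locus (sg σ ea) ≤ _
    rw [sg_res, AmpleX.locus_res]; exact inf_le_left
  have hlb₂ : AmpleX.locus b ≤ AmpleX.locus (sg σ' eb₂) := by
    show AmpleX.locus (sg σ' eb) ≤ _
    rw [sg_res, AmpleX.locus_res]; exact inf_le_left
  obtain ⟨g, hxa, hg, haff, hs⟩ := hc₁.transfer (R' := secFns σ ea) hla₁
    (fun H hH => secFns_res (hUU.trans inf_le_left) ea₁ hla₁ hH) hx₁ (by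
      show p₁ w ∈ AmpleX.locus (sg σ ea)
      rw [sg_res, AmpleX.locus_res]; exact ⟨X.basicOpen_le g₁ hx₁, hwU⟩)
  obtain ⟨g', hxb, hg', haff', hs'⟩ := hc₂.transfer (R' := secFns σ' eb) hlb₂
    (fun H hH => secFns_res (hUU.trans inf_le_right) eb₂ hlb₂ hH) hx₂ (by
      show p₂ w ∈ AmpleX.locus (sg σ' eb)
      rw [sg_res, AmpleX.locus_res]; exact ⟨X'.basicOpen_le g₂ hx₂, show f' (p₂ w) ∈ U from hww ▸ hwU⟩)
  let M := (Scheme.Modules.pullback p₁).obj L
  let M' := (Scheme.Modules.pullback p₂).obj L'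
  have hM : PicF.IsInvertible M := PicClLib.isInvertible_pullback p₁ hL
  have hM' : PicF.IsInvertible M' := PicClLib.isInvertible_pullback p₂ hL'
  have hpre : (p₁ ≫ f) ⁻¹ᵁ U ≤ p₂ ⁻¹ᵁ (f' ⁻¹ᵁ U) := by rw [← Scheme.Hom.comp_preimage, ← hsq.w]
  let a' : Γ(M, (p₁ ≫ f) ⁻¹ᵁ U) := InvX.pullElt p₁ a
  let b' : Γ(M', (p₁ ≫ f) ⁻¹ᵁ U) := AModX.res M' hpre (InvX.pullElt p₂ b)
  let e₀ : Γ(CohB1.tensorMod E E', U) := InvX.tmul ea eb
  let c₀ : Γ(CohB1.tensorMod M M', (p₁ ≫ f) ⁻¹ᵁ U) := sg (tensMap (pullMap σ p₁) (sndMap hsq.w σ')) e₀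
  have hc₀ : ∀ (m : Γ(E, U)) (n : Γ(E', U)), sg (tensMap (pullMap σ p₁) (sndMap hsq.w σ')) (InvX.tmul m n) =
      InvX.tmul (show Γ(M, (p₁ ≫ f) ⁻¹ᵁ U) from InvX.pullElt p₁ (sg σ m))
        (AModX.res M' hpre (InvX.pullElt p₂ (sg σ' n))) := fun m n => by
    rw [sg_tensMap, sg_sndMap hsq.w n hpre, sg_pullMap]
  have hlb : AmpleX.locus b' = p₂ ⁻¹ᵁ AmpleX.locus b := by
    rw [AmpleX.locus_res, AmpleX.locus_pullElt hL']
    exact inf_eq_left.2 (le_of_le_of_eq (p₂.preimage_mono (AmpleX.locus_le b)) (by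
      rw [← Scheme.Hom.comp_preimage, ← hsq.w]))
  have hlc : AmpleX.locus c₀ = p₁ ⁻¹ᵁ AmpleX.locus a ⊓ p₂ ⁻¹ᵁ AmpleX.locus b := by
    show AmpleX.locus (sg _ (InvX.tmul ea eb)) = _
    rw [hc₀, AmpleX.locus_tmul hM hM', AmpleX.locus_pullElt hL, hlb]
  let φ : Γ(X, AmpleX.locus a) →+* Γ(W, AmpleX.locus c₀) :=
    (p₁.appLE (AmpleX.locus a) (AmpleX.locus c₀) (hlc.le.trans inf_le_left)).hom
  let φ' : Γ(X', AmpleX.locus b) →+* Γ(W, AmpleX.locus c₀) :=
    (p₂.appLE (AmpleX.locus b) (AmpleX.locus c₀) (hlc.le.trans inf_le_right)).hom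
  let R := secFns (tensMap (pullMap σ p₁) (sndMap hsq.w σ')) e₀
  have hφ : ∀ H ∈ secFns σ ea, φ H ∈ R := fun H hH => by
    refine (Subring.closure_le (t := R.comap φ)).2 ?_ hH
    rintro c (⟨r, rfl⟩ | ⟨m, hm⟩)
    · refine Subring.subset_closure (Or.inl ⟨r, ?_⟩)
      show _ = (f.appLE _ _ _ ≫ p₁.appLE _ _ _) r
      rw [Scheme.Hom.appLE_comp_appLE]
    · refine Subring.subset_closure (Or.inr ⟨InvX.tmul m eb, ?_⟩)
      refine (congrArg (AModX.res _ _) (hc₀ m eb)).trans ?_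
      refine Eq.trans ?_ (congrArg (_ • ·) (congrArg (AModX.res _ _) (hc₀ ea eb))).symm
      have := congrArg (fun t => AModX.res M (hlc.le.trans inf_le_left) (InvX.pullElt p₁ t)) hm
      rw [InvX.pullElt_smul, AModX.res_smul, ← InvX.res_pullElt, ← InvX.res_pullElt, AModX.res_res,
        AModX.res_res] at this
      rw [InvX.res_tmul, InvX.res_tmul]
      refine (congrArg (fun t => InvX.tmul t _) this).trans ?_
      rw [InvX.tmul_smul_left]
      rfl
  have hφ' : ∀ H ∈ secFns σ' eb, φ' H ∈ R := fun H hH => by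
    refine (Subring.closure_le (t := R.comap φ')).2 ?_ hH
    rintro c (⟨r, rfl⟩ | ⟨m, hm⟩)
    · refine Subring.subset_closure (Or.inl ⟨r, ?_⟩)
      show _ = (f'.appLE _ _ _ ≫ p₂.appLE _ _ _) r
      rw [Scheme.Hom.appLE_comp_appLE]
      simp only [hsq.w]
    · refine Subring.subset_closure (Or.inr ⟨InvX.tmul ea m, ?_⟩)
      refine (congrArg (AModX.res _ _) (hc₀ ea m)).trans ?_
      refine Eq.trans ?_ (congrArg (_ • ·) (congrArg (AModX.res _ _) (hc₀ ea eb))).symm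
      have := congrArg (fun t => AModX.res M' (hlc.le.trans inf_le_right) (InvX.pullElt p₂ t)) hm
      rw [InvX.pullElt_smul, AModX.res_smul, ← InvX.res_pullElt, ← InvX.res_pullElt, AModX.res_res,
        AModX.res_res] at this
      rw [InvX.res_tmul, InvX.res_tmul, AModX.res_res, AModX.res_res, this, InvX.tmul_smul_right]
      rfl
  have hb : W.basicOpen (φ g * φ' g') = p₁ ⁻¹ᵁ X.basicOpen g ⊓ p₂ ⁻¹ᵁ X'.basicOpen g' := by
    rw [Scheme.basicOpen_mul, Scheme.preimage_basicOpen, Scheme.preimage_basicOpen]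
    show W.basicOpen ((p₁.appLE _ _ _).hom g) ⊓ W.basicOpen ((p₂.appLE _ _ _).hom g') = _
    rw [Scheme.Hom.appLE, Scheme.Hom.appLE, CommRingCat.comp_apply, CommRingCat.comp_apply,
      Scheme.basicOpen_res, Scheme.basicOpen_res, hlc]
    refine le_antisymm (inf_le_inf inf_le_right inf_le_right) (le_inf (le_inf ?_ inf_le_left) (le_inf ?_ inf_le_right))
    · exact inf_le_inf (W.basicOpen_le _) (W.basicOpen_le _)
    · exact inf_le_inf (W.basicOpen_le _) (W.basicOpen_le _)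
  have hD : X.basicOpen g ≤ f ⁻¹ᵁ U := (X.basicOpen_le g).trans (AmpleX.locus_le a)
  have hD' : X'.basicOpen g' ≤ f' ⁻¹ᵁ U := (X'.basicOpen_le g').trans (AmpleX.locus_le b)
  have hres := Scheme.Hom.isPullback_resLE hsq hD' hD hb
  haveI : IsAffine (X.basicOpen g).toScheme := haff
  haveI : IsAffine (X'.basicOpen g').toScheme := haff'
  haveI : IsAffine U.toScheme := hU
  let G₀ := φ g * φ' g'
  haveI : IsAffine (W.basicOpen G₀).toScheme := IsAffine.of_isIso hres.isoPullback.hom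
  haveI : IsAffineHom (f.resLE U (X.basicOpen g) hD) := inferInstance
  haveI : IsAffineHom (p₂.resLE (X'.basicOpen g') (W.basicOpen G₀) (hb.le.trans inf_le_right)) := inferInstance
  have hpo := RingPO.isPushout_appLE_of_isPullback hres.flip (isAffineOpen_top U.toScheme)
    (isAffineOpen_top (X'.basicOpen g').toScheme) le_top (isAffineOpen_top (X.basicOpen g).toScheme) rfl
    (isAffineOpen_top (W.basicOpen G₀).toScheme) rfl le_top
  refine ⟨U, hU, e₀, G₀, mul_mem (hφ g hg) (hφ' g' hg'), hb.ge ⟨hxa, hxb⟩, inferInstanceAs (IsAffine _), fun c => ?_⟩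
  let ρ := (W.presheaf.map (homOfLE (W.basicOpen_le G₀)).op).hom
  let T : Subring Γ(W, W.basicOpen G₀) :=
    { carrier := {c | ∃ k, ∃ H ∈ R, c * ρ G₀ ^ k = ρ H}
      mul_mem' := fun {p q} ⟨k, H, hH, e⟩ ⟨l, K, hK, e'⟩ => ⟨k + l, H * K, mul_mem hH hK, by
        rw [map_mul ρ H K, ← e, ← e', pow_add]; ring⟩
      one_mem' := ⟨0, 1, one_mem _, by rw [pow_zero, mul_one, map_one]⟩
      add_mem' := fun {p q} ⟨k, H, hH, e⟩ ⟨l, K, hK, e'⟩ => ⟨k + l, H * G₀ ^ l + K * G₀ ^ k,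
        add_mem (mul_mem hH (pow_mem (mul_mem (hφ g hg) (hφ' g' hg')) _))
          (mul_mem hK (pow_mem (mul_mem (hφ g hg) (hφ' g' hg')) _)), by
          rw [map_add, map_mul ρ H, map_mul ρ K, map_pow ρ G₀, map_pow ρ G₀, ← e, ← e', pow_add]; ring⟩
      zero_mem' := ⟨0, 0, zero_mem _, by rw [zero_mul, map_zero]⟩
      neg_mem' := fun {p} ⟨k, H, hH, e⟩ => ⟨k, -H, neg_mem hH, by rw [map_neg, ← e, neg_mul]⟩ }
  suffices hT : T = ⊤ by
    obtain ⟨k, H, hH, e⟩ := (hT.ge (Subring.mem_top c) : c ∈ T)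
    exact ⟨k, H, hH, e⟩
  have key : T.map (W.basicOpen G₀).topIso.inv.hom = ⊤ := by
    refine subring_eq_top_of_isPushout hpo _ (fun r => ?_) (fun c' => ?_)
    · obtain ⟨k, H, hH, e⟩ := hs' ((X'.basicOpen g').topIso.hom r)
      refine ⟨(p₂.appLE (X'.basicOpen g') (W.basicOpen G₀) (hb.le.trans inf_le_right)).hom
        ((X'.basicOpen g').topIso.hom r), ⟨k, φ' H * φ g ^ k, mul_mem (hφ' H hH) (pow_mem (hφ g hg) _), ?_⟩, ?_⟩
      · have key : ∀ u : Γ(X', AmpleX.locus b),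
            (p₂.appLE (X'.basicOpen g') (W.basicOpen G₀) (hb.le.trans inf_le_right)).hom
              (AModX.resR (X'.basicOpen_le g') u) = ρ (φ' u) := fun u => by
          show (X'.presheaf.map _ ≫ p₂.appLE _ _ _) u = (p₂.appLE _ _ _ ≫ W.presheaf.map _) u
          rw [Scheme.Hom.map_appLE, Scheme.Hom.appLE_map]
        show _ * ρ (φ g * φ' g') ^ k = _
        rw [map_mul ρ, map_mul ρ, map_pow ρ, mul_pow, ← key, ← key, ← e, map_mul, map_pow]
        ring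
      · show ((X'.basicOpen g').topIso.hom ≫ p₂.appLE _ _ _ ≫ (W.basicOpen G₀).topIso.inv) r = _
        congr 2
        simp [Scheme.Opens.topIso, Scheme.Hom.resLE_appLE]
        rfl
    · obtain ⟨k, H, hH, e⟩ := hs ((X.basicOpen g).topIso.hom c')
      refine ⟨(p₁.appLE (X.basicOpen g) (W.basicOpen G₀) (hb.le.trans inf_le_left)).hom
        ((X.basicOpen g).topIso.hom c'), ⟨k, φ H * φ' g' ^ k, mul_mem (hφ H hH) (pow_mem (hφ' g' hg') _), ?_⟩, ?_⟩
      · have key : ∀ u : Γ(X, AmpleX.locus a),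
            (p₁.appLE (X.basicOpen g) (W.basicOpen G₀) (hb.le.trans inf_le_left)).hom
              (AModX.resR (X.basicOpen_le g) u) = ρ (φ u) := fun u => by
          show (X.presheaf.map _ ≫ p₁.appLE _ _ _) u = (p₁.appLE _ _ _ ≫ W.presheaf.map _) u
          rw [Scheme.Hom.map_appLE, Scheme.Hom.appLE_map]
        show _ * ρ (φ g * φ' g') ^ k = _
        rw [map_mul ρ, map_mul ρ, map_pow ρ, mul_pow, ← key, ← key, ← e, map_mul, map_pow]
        ring
      · show ((X.basicOpen g).topIso.hom ≫ p₁.appLE _ _ _ ≫ (W.basicOpen G₀).topIso.inv) c' = _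
        congr 2
        simp [Scheme.Opens.topIso, Scheme.Hom.resLE_appLE]
        rfl
  refine top_le_iff.1 fun c _ => ?_
  obtain ⟨c₁, hc₁, e⟩ := key.ge (trivial : (W.basicOpen G₀).topIso.inv.hom c ∈ (⊤ : Subring _))
  have e2 : c₁ = c := (ConcreteCategory.bijective_of_isIso (W.basicOpen G₀).topIso.inv).1 e
  exact e2 ▸ hc₁

theorem isRelVeryAmple_product {X' W : Scheme.{u}} {f' : X' ⟶ S} {L' : X'.Modules} {p₁ : W ⟶ X} {p₂ : W ⟶ X'}
    (hsq : IsPullback p₁ p₂ f f') (hva : RelProj.IsRelVeryAmple f L) (hva' : RelProj.IsRelVeryAmple f' L') :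
    RelProj.IsRelVeryAmple (p₁ ≫ f)
      (CohB1.tensorMod ((Scheme.Modules.pullback p₁).obj L) ((Scheme.Modules.pullback p₂).obj L')) := by
  obtain ⟨E, hE, σ, hσ⟩ := exists_map_of_isRelVeryAmple hva
  obtain ⟨E', hE', σ', hσ'⟩ := exists_map_of_isRelVeryAmple hva'
  exact isRelVeryAmple_of_immAt (KFlatLib.isQCoh_tensor hE hE') fun w =>
    (hσ _).product hsq (isInvertible_of_isRelVeryAmple hva) (isInvertible_of_isRelVeryAmple hva') (hσ' _)

end Groth.Agent.VeryAmpleX.Sig
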