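import Groth.Agent.VeryAmple.Main
import Groth.Agent.SegreX.Coord
import Groth.Agent.Lib.AmpleEmbed

/-!
# Tensor product of a very ample module by a generated one
-/

noncomputable section

universe u

open CategoryTheory CategoryTheory.Limits AlgebraicGeometry TopologicalSpace Opposite HomogeneousLocalization

set_option backward.isDefEq.respectTransparency false
set_option backward.isDefEq.respectTransparency.types false
set_option linter.style.haveILetI false
set_option maxHeartbeats 800000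

namespace Groth.Agent.VeryAmpleX

open Groth.Agent
open Groth.Agent.H23.PicMul

variable {X : Scheme.{u}}

/-- On the locus of one section a map to projective space has the ratios as coordinates. -/
theorem coords_of_sections {n : ℕ} (r : X ⟶ CohB1.ProjSpace n (ULift.{u} ℤ)) {L : X.Modules}
    (τ : (Scheme.Modules.pullback r).obj (Twist.twistProjSpace n (ULift.{u} ℤ) 1) ≅ L)
    (s : Fin (n + 1) → Γ(L, ⊤))
    (hs : ∀ k, τ.hom.app ⊤ (ProjUP.pullSec r _ (ProjUP.coord n (ULift.{u} ℤ) k)) = s k)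
    (a : Fin (n + 1)) {U : X.Opens} (hU : U ≤ H23.TrivBasic.locus (s a)) (c : Fin (n + 1) → Γ(X, U))
    (hc : ∀ k, AModX.res L (le_top : U ≤ ⊤) (s k) = c k • AModX.res L (le_top : U ≤ ⊤) (s a))
    (q : U.toScheme ⟶ Spec (CommRingCat.of (Away (CohB1.polyGrading n (ULift.{u} ℤ)) (MvPolynomial.X a))))
    (hq : q ≫ Proj.awayι (CohB1.polyGrading n (ULift.{u} ℤ)) (MvPolynomial.X a) (ProjPt.X_mem a) one_pos = U.ι ≫ r)
    (k : Fin (n + 1)) :
    SegreX.coords q k = U.ι.appLE U ⊤ U.ι_preimage_self.ge (c k) := by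
  let 𝒜 := CohB1.polyGrading n (ULift.{u} ℤ)
  have h : U ≤ r ⁻¹ᵁ Proj.basicOpen 𝒜 (MvPolynomial.X a) :=
    hU.trans (AmpleEmbed.preimage_chart r τ a (hs a)).ge
  rw [← AmpleEmbed.ratioOf_eq r τ a k (hs a) (hs k) h (c k) (hc k)]
  show ((Scheme.ΓSpecIso _).inv ≫ q.appTop) (ProjPt.crd a k) =
    (r.appLE (Proj.basicOpen 𝒜 (MvPolynomial.X a)) U h ≫ U.ι.appLE U ⊤ U.ι_preimage_self.ge)
      ((Proj.awayToSection 𝒜 (MvPolynomial.X a)).hom (ProjPt.crd a k))
  rw [Scheme.Hom.appLE_comp_appLE]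
  simp only [← hq]
  have e1 : (⊤ : (Spec (CommRingCat.of (Away 𝒜 (MvPolynomial.X a)))).Opens) ≤
      Proj.awayι 𝒜 (MvPolynomial.X a) (ProjPt.X_mem a) one_pos ⁻¹ᵁ Proj.basicOpen 𝒜 (MvPolynomial.X a) := by
    rw [← Proj.opensRange_awayι 𝒜 (MvPolynomial.X a) (ProjPt.X_mem a) one_pos, Scheme.Hom.preimage_opensRange]
  rw [← Scheme.Hom.appLE_comp_appLE q _ _ ⊤ ⊤ e1 le_top]
  have h2 := congrArg (fun φ => φ (ProjPt.crd (R := ULift.{u} ℤ) a k)) (ProjPt.awayι_appLE 𝒜 (ProjPt.X_mem a) one_pos e1)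
  have e2 : q.appLE (⊤ : (Spec _).Opens) ⊤ le_top = q.appTop := (q.app_eq_appLE (U := ⊤)).symm
  rw [e2]
  exact (congrArg q.appTop h2).symm

/-- A very ample module times a module generated by finitely many sections is very ample. -/
theorem isRelVeryAmplePn_tensor_generated {S : Scheme.{u}} {f : X ⟶ S} {L L' : X.Modules}
    (hva : RelAmple.IsRelVeryAmplePn f L) (hL : PicF.IsInvertible L) (hL' : PicF.IsInvertible L') {m : ℕ}
    (s : Fin m → Γ(L', ⊤)) (hgen : ProjUP.GeneratedBy L' s) :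
    RelAmple.IsRelVeryAmplePn f (CohB1.tensorMod L L') := by
  obtain ⟨n, i, hi, hif, ⟨eL⟩⟩ := hva
  haveI := hi
  let Z := ULift.{u} ℤ
  let π : CohB1.ProjSpaceOver n S ⟶ CohB1.ProjSpace n Z := pullback.fst _ _
  let τ₀ : (Scheme.Modules.pullback (i ≫ π)).obj (Twist.twistProjSpace n Z 1) ≅ L :=
    ((Scheme.Modules.pullbackComp i π).app _).symm ≪≫ eL.symm
  let l : Fin (n + 1) → Γ(L, ⊤) := fun a => τ₀.hom.app ⊤ (ProjUP.pullSec (i ≫ π) _ (ProjUP.coord n Z a))
  have hl : ∀ a, τ₀.hom.app ⊤ (ProjUP.pullSec (i ≫ π) _ (ProjUP.coord n Z a)) = l a := fun a => rfl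
  let s' : Option (Fin m) → Γ(L', ⊤) := fun b => b.elim 0 s
  let e : Fin (n * m + n + m + 1) ≃ Fin (n + 1) × Option (Fin m) :=
    ((finCongr (by ring)).trans finProdFinEquiv.symm).trans ((Equiv.refl _).prodCongr (finSuccEquiv m))
  let M := CohB1.tensorMod L L'
  let T : Fin (n * m + n + m + 1) → Γ(M, ⊤) := fun p => InvX.tmul (l (e p).1) (s' (e p).2)
  have hlocT : ∀ a b, H23.TrivBasic.locus (T (e.symm (a, b))) = H23.TrivBasic.locus (l a) ⊓ H23.TrivBasic.locus (s' b) := by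
    intro a b
    have h := InvX.genLocus_mulHom hL hL' (InvX.ofSect (l a)) (InvX.ofSect (s' b))
    show CohB1.genLocus _ (InvX.ofSect _) = _
    simp only [T, Equiv.apply_symm_apply]
    refine Eq.trans ?_ h
    show CohB1.genLocus _ (InvX.ofSect _) = CohB1.genLocus _ (InvX.ofSect _)
    rw [InvX.one_ofSect, InvX.one_ofSect]
  have hcov : ∀ x, ∃ a b, x ∈ H23.TrivBasic.locus (l a) ⊓ H23.TrivBasic.locus (s' b) := fun x => by
    obtain ⟨a, ha⟩ := Opens.mem_iSup.1 ((AmpleEmbed.iSup_basicOpen_X n Z).ge (trivial : (i ≫ π) x ∈ (⊤ : Opens _)))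
    obtain ⟨b, U, hx, hU⟩ := InvX.exists_frame_of_generated hL' s x (hgen x)
    exact ⟨a, some b, (AmpleEmbed.preimage_chart (i ≫ π) τ₀ a (hl a)).le ha, H23.TrivBasic.le_locus hU hx⟩
  have hT : ProjUP.GeneratedBy M T := VeryAmple.generatedBy_of_locus T fun x => by
    obtain ⟨a, b, h⟩ := hcov x
    exact ⟨e.symm (a, b), (hlocT a b).ge h⟩
  obtain ⟨r, -, τ, hτ⟩ := S3572.result _ (specULiftZIsTerminal.from X) M (InvX.isInvertible_tensorMod hL hL') T hT
  let π' : CohB1.ProjSpaceOver (n * m + n + m) S ⟶ CohB1.ProjSpace (n * m + n + m) Z := pullback.fst _ _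
  let i' : X ⟶ CohB1.ProjSpaceOver (n * m + n + m) S := pullback.lift r f (specULiftZIsTerminal.hom_ext _ _)
  have hfst : i' ≫ π' = r := pullback.lift_fst _ _ _
  have hsnd : i' ≫ CohB1.ProjSpaceOver.toBase (n * m + n + m) S = f := pullback.lift_snd _ _ _
  let 𝒜 := CohB1.polyGrading n Z
  let ℬ := CohB1.polyGrading (n * m + n + m) Z
  let D : Fin (n * m + n + m + 1) → (CohB1.ProjSpaceOver (n * m + n + m) S).Opens := fun p =>
    π' ⁻¹ᵁ Proj.basicOpen ℬ (MvPolynomial.X p)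
  have hpre : ∀ p, i' ⁻¹ᵁ D p = H23.TrivBasic.locus (T p) := fun p => by
    show i' ⁻¹ᵁ (π' ⁻¹ᵁ Proj.basicOpen ℬ (MvPolynomial.X p)) = _
    rw [← Scheme.Hom.comp_preimage, hfst]
    exact AmpleEmbed.preimage_chart r τ p (hτ p)
  have hloc : ∀ p, IsImmersion (i' ∣_ D p) := by
    intro p
    obtain ⟨⟨a, b⟩, rfl⟩ := e.symm.surjective p
    let p := e.symm (a, b)
    let O := i' ⁻¹ᵁ D p
    have hO : O ≤ H23.TrivBasic.locus (l a) ⊓ H23.TrivBasic.locus (s' b) := ((hpre p).trans (hlocT a b)).le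
    have hfa : InvX.IsFrame (AModX.res L (le_top : O ≤ ⊤) (l a)) :=
      H23.TrivBasic.isFrame_res_of_le_locus (hO.trans inf_le_left)
    choose c hc using fun k => hfa.exists_coord (le_refl O) (AModX.res L (le_top : O ≤ ⊤) (l k))
    simp only [AModX.res_self] at hc
    have hrq : Set.range ((D p).ι ≫ π') ⊆ Set.range (Proj.awayι ℬ (MvPolynomial.X p) (ProjPt.X_mem p) one_pos) := by
      rintro _ ⟨z, rfl⟩
      have hz : ((D p).ι ≫ π') z ∈ (Proj.awayι ℬ (MvPolynomial.X p) (ProjPt.X_mem p) one_pos).opensRange := by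
        rw [Proj.opensRange_awayι]; exact z.2
      exact hz
    let qD := IsOpenImmersion.lift (Proj.awayι ℬ (MvPolynomial.X p) (ProjPt.X_mem p) one_pos) _ hrq
    have hqD : qD ≫ Proj.awayι ℬ (MvPolynomial.X p) (ProjPt.X_mem p) one_pos = (D p).ι ≫ π' :=
      IsOpenImmersion.lift_fac _ _ _
    let sd : Fin (n + 1) → Γ((D p).toScheme, ⊤) := fun k => SegreX.coords qD (e.symm (k, b))
    have hsd : IsUnit (sd a) := by
      show IsUnit (SegreX.coords qD p)
      rw [SegreX.coords_self]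
      exact isUnit_one
    let g : (D p).toScheme ⟶ CohB1.ProjSpaceOver n S :=
      pullback.lift (SegreX.ptS sd a hsd) ((D p).ι ≫ CohB1.ProjSpaceOver.toBase _ S) (specULiftZIsTerminal.hom_ext _ _)
    suffices he : (i' ∣_ D p) ≫ g = O.ι ≫ i by
      haveI : IsImmersion ((i' ∣_ D p) ≫ g) := by rw [he]; infer_instance
      exact IsImmersion.of_comp _ g
    apply pullback.hom_ext
    · rw [Category.assoc, Category.assoc, pullback.lift_fst, SegreX.comp_ptS]
      have hrq' : Set.range (O.ι ≫ i ≫ π) ⊆ Set.range (Proj.awayι 𝒜 (MvPolynomial.X a) (ProjPt.X_mem a) one_pos) := by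
        rintro _ ⟨z, rfl⟩
        have hz : (O.ι ≫ i ≫ π) z ∈ (Proj.awayι 𝒜 (MvPolynomial.X a) (ProjPt.X_mem a) one_pos).opensRange := by
          rw [Proj.opensRange_awayι]
          exact (AmpleEmbed.preimage_chart (i ≫ π) τ₀ a (hl a)).ge (hO z.2).1
        exact hz
      let q₀ := IsOpenImmersion.lift (Proj.awayι 𝒜 (MvPolynomial.X a) (ProjPt.X_mem a) one_pos) _ hrq'
      have hq₀ : q₀ ≫ Proj.awayι 𝒜 (MvPolynomial.X a) (ProjPt.X_mem a) one_pos = O.ι ≫ i ≫ π :=
        IsOpenImmersion.lift_fac _ _ _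
      have hq : ((i' ∣_ D p) ≫ qD) ≫ Proj.awayι ℬ (MvPolynomial.X p) (ProjPt.X_mem p) one_pos = O.ι ≫ r := by
        rw [Category.assoc, hqD, morphismRestrict_ι_assoc, hfst]
      have hk : ∀ k, AModX.res M (le_top : O ≤ ⊤) (T (e.symm (k, b))) =
          c k • AModX.res M (le_top : O ≤ ⊤) (T p) := fun k => by
        simp only [T, p, Equiv.apply_symm_apply]
        show AModX.res (CohB1.tensorMod L L') _ _ = _ • AModX.res (CohB1.tensorMod L L') _ _
        rw [InvX.res_tmul, InvX.res_tmul, hc k, InvX.tmul_smul_left]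
      have hU : O ≤ H23.TrivBasic.locus (T p) := (hpre p).le
      have hfp : InvX.IsFrame (AModX.res M (le_top : O ≤ ⊤) (T p)) := H23.TrivBasic.isFrame_res_of_le_locus hU
      choose c' hc' using fun j => hfp.exists_coord (le_refl O) (AModX.res M (le_top : O ≤ ⊤) (T j))
      simp only [AModX.res_self] at hc'
      have hfun : (fun k => (i' ∣_ D p).appTop (sd k)) = SegreX.coords q₀ := funext fun k => by
        rw [← SegreX.coords_comp, coords_of_sections r τ T hτ p hU c' hc' _ hq,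
          coords_of_sections (i ≫ π) τ₀ l hl a (hO.trans inf_le_left) c hc _ hq₀]
        congr 1
        exact hfp.coord_unique le_rfl (by rw [AModX.res_self, ← hc', hk])
      simp only [hfun]
      rw [← SegreX.chart_eq_ptS, hq₀]
    · rw [Category.assoc, Category.assoc, pullback.lift_snd, morphismRestrict_ι_assoc, hsnd]
      exact congrArg (O.ι ≫ ·) hif.symm
  haveI hI : IsImmersion i' := by
    let W : (CohB1.ProjSpaceOver (n * m + n + m) S).Opens := ⨆ p, D p
    have htop : i' ⁻¹ᵁ W = ⊤ := top_le_iff.1 fun x _ => by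
      obtain ⟨a, b, h⟩ := hcov x
      exact Opens.mem_iSup.2 ⟨e.symm (a, b), (hpre _).ge ((hlocT a b).ge h)⟩
    haveI : IsImmersion (i' ∣_ W) := by
      refine IsZariskiLocalAtTarget.of_iSup_eq_top (P := @IsImmersion) (fun p => W.ι ⁻¹ᵁ D p)
        (top_le_iff.1 fun y _ => ?_) fun p => ?_
      · obtain ⟨p, hp⟩ := Opens.mem_iSup.1 (show y.1 ∈ W from y.2)
        exact Opens.mem_iSup.2 ⟨p, hp⟩
      · rw [MorphismProperty.arrow_mk_iso_iff (P := @IsImmersion) (morphismRestrictRestrict i' W (W.ι ⁻¹ᵁ D p)),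
          MorphismProperty.arrow_mk_iso_iff (P := @IsImmersion) (morphismRestrictEq i' (V := D p) (by
            rw [W.ι.image_preimage_eq_opensRange_inf, Scheme.Opens.opensRange_ι]
            exact inf_eq_right.2 (le_iSup D p)))]
        exact hloc p
    haveI : IsIso (i' ⁻¹ᵁ W).ι := by rw [htop]; exact X.topIso.isIso_hom
    have he : i' = inv (i' ⁻¹ᵁ W).ι ≫ (i' ∣_ W) ≫ W.ι := by
      rw [morphismRestrict_ι, IsIso.inv_hom_id_assoc]
    rw [he]
    infer_instance
  exact ⟨_, i', hI, hsnd, ⟨τ.symm ≪≫ (Scheme.Modules.pullbackCongr hfst.symm).app _ ≪≫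
    ((Scheme.Modules.pullbackComp i' π').app _).symm⟩⟩

end Groth.Agent.VeryAmpleX
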