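import Groth.Prelude.Def_RelProj2
import Groth.Agent.SymSh.Spec
import Groth.Agent.RelTwistX.Ample
import Groth.Agent.AmpleX.Comp
import Groth.Agent.AmpleX.QAHom

/-!
# Very ample modules are ample
-/

noncomputable section

universe u

open CategoryTheory CategoryTheory.Limits AlgebraicGeometry TopologicalSpace Opposite
open Groth.Agent.H23.PicMul

set_option backward.isDefEq.respectTransparency false
set_option backward.isDefEq.respectTransparency.types false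
set_option linter.style.haveILetI false

namespace Groth.Agent.VeryAmpleX

open Groth.Agent

variable {S : Scheme.{u}}

theorem isGenDegOne_of_isGrSymAlg {E : S.Modules} (hE : Coh.IsQCoh E) {𝒮 : RelProj.QCGrAlg S}
    {j : E ⟶ 𝒮.toModule} (h : RelProj.IsGrSymAlg E 𝒮 j) : 𝒮.IsGenDegOne := by
  intro U hU
  obtain ⟨e, he, hej⟩ := SymSh.exists_sec hE h.1 hU
  refine top_unique fun x _ => ?_
  rw [← e.symm_apply_apply x]
  generalize e x = y
  induction y using SymmetricAlgebra.induction with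
  | algebraMap r =>
    rw [← he r, e.symm_apply_apply]
    exact Subring.subset_closure (Or.inl (𝒮.str_mem U hU r))
  | ι m =>
    rw [← hej m, e.symm_apply_apply]
    exact Subring.subset_closure (Or.inr (h.2 U hU m))
  | mul a b ha hb => rw [map_mul]; exact mul_mem ha hb
  | add a b ha hb => rw [map_add]; exact add_mem ha hb

section ring

variable {A σ : Type u} [CommRing A] [SetLike σ A] [AddSubgroupClass σ A] (𝒜 : ℕ → σ) [GradedRing 𝒜]

/-- `O(1)` is ample on every quasi-compact union of degree one standard opens. -/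
theorem isAmple_twist_one_finite (hcov : ⨆ a : {a // a ∈ 𝒜 1}, Proj.basicOpen 𝒜 (a : A) = ⊤)
    (T : Finset {a // a ∈ 𝒜 1}) :
    PicF.IsInvertible (GrTwist.twist 𝒜 1) ∧
      CohB1.IsAmple ((Scheme.Modules.pullback (⨆ t : T, Proj.basicOpen 𝒜 ((t : {a // a ∈ 𝒜 1}) : A)).ι).obj
        (GrTwist.twist 𝒜 1)) := by
  have hL : PicF.IsInvertible (GrTwist.twist 𝒜 1) := fun x => by
    obtain ⟨f, hf⟩ := Opens.mem_iSup.1 (hcov.ge (trivial : x ∈ (⊤ : (Proj 𝒜).Opens)))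
    exact ⟨_, hf, GrTwistX.nonempty_iso_restrict _ (RelTwistX.oneFrac 𝒜 f.2)⟩
  refine ⟨hL, ?_⟩
  set W := ⨆ t : T, Proj.basicOpen 𝒜 ((t : {a // a ∈ 𝒜 1}) : A) with hW
  have haff : ∀ f : {a // a ∈ 𝒜 1}, IsAffineOpen (Proj.basicOpen 𝒜 (f : A)) := fun f =>
    Proj.isAffineOpen_basicOpen 𝒜 _ f.2 one_pos
  haveI : CompactSpace W.toScheme := isCompact_iff_compactSpace.mp (by
    rw [hW, Opens.coe_iSup]
    exact isCompact_iUnion fun t => (haff _).isCompact)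
  refine AmpleX.isAmple_pullback_of_isOpenImmersion W.ι hL fun z => ?_
  obtain ⟨t, ht⟩ := Opens.mem_iSup.1 (hW.le z.2)
  refine ⟨1, one_pos, InvX.powHom (InvX.ofSect (RelTwistX.sec1 𝒜 t.1.2)) 1, ?_⟩
  rw [InvX.genLocus_powHom hL _ 0,
    RelTwistX.genLocus_sec1 𝒜 (fun f : {a // a ∈ 𝒜 1} => (f : A)) (fun f => f.2) hcov t.1.2,
    Scheme.Opens.opensRange_ι]
  exact ⟨ht, hW ▸ le_iSup (fun t : T => Proj.basicOpen 𝒜 ((t : {a // a ∈ 𝒜 1}) : A)) t, haff _⟩

end ring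

theorem isRelAmple_of_iso {X : Scheme.{u}} (f : X ⟶ S) {A B : X.Modules} (e : A ≅ B)
    (h : RelAmple.IsRelAmple f A) : RelAmple.IsRelAmple f B :=
  ⟨h.1, fun V => AmpleX.isAmple_of_iso ((Scheme.Modules.restrictFunctor (f ⁻¹ᵁ V.1).ι).mapIso e) (h.2 V)⟩

theorem isRelAmple_pullback_twist {X P : Scheme.{u}} (f : X ⟶ S) [QuasiCompact f] {E : S.Modules}
    (hE : Coh.IsQCoh E) {𝒮 : RelProj.QCGrAlg S} {j : E ⟶ 𝒮.toModule} (hS : RelProj.IsGrSymAlg E 𝒮 j)
    {p : P ⟶ S}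
    {chart : ∀ (U : S.Opens) (hU : IsAffineOpen U), (((p ⁻¹ᵁ U : P.Opens) : Scheme.{u}) ≅ Proj (𝒮.deg U hU))}
    {O1 : P.Modules}
    {lam : ∀ (U : S.Opens) (hU : IsAffineOpen U),
      O1 ⟶ (Scheme.Modules.pushforward (RelProj.emb p chart U hU)).obj (GrTwist.twist (𝒮.deg U hU) 1)}
    (hO1 : RelProj.IsRelTwist 𝒮 p chart 1 O1 lam) (i : X ⟶ P) (hip : i ≫ p = f)
    (hi : Topology.IsEmbedding i.base) :
    RelAmple.IsRelAmple f ((Scheme.Modules.pullback i).obj O1) := by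
  refine AmpleX.isRelAmple_of_ampleOn fun x => ?_
  obtain ⟨_, ⟨U, hU, rfl⟩, hxU, -⟩ := S.isBasis_affineOpens.exists_subset_of_mem_open
    (Set.mem_univ (f x)) isOpen_univ
  have hgen := isGenDegOne_of_isGrSymAlg hE hS
  let 𝒜 := 𝒮.deg U hU
  have hcov : ⨆ a : {a // a ∈ 𝒜 1}, Proj.basicOpen 𝒜 (a : 𝒮.presheaf.obj (op U)) = ⊤ := by
    refine Proj.iSup_basicOpen_eq_top _ _ ?_
    rw [RelTildeX.irrelevant_eq_span_deg_one hgen U hU, Ideal.span_le]
    exact fun a ha => Ideal.subset_span ⟨⟨a, ha⟩, rfl⟩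
  let em := RelProj.emb p chart U hU
  let Z := f ⁻¹ᵁ U
  haveI : CompactSpace Z.toScheme := isCompact_iff_compactSpace.mp (f.isCompact_preimage hU.isCompact)
  have hr : Set.range (Z.ι ≫ i) ⊆ Set.range em := by
    rintro _ ⟨z, rfl⟩
    show (Z.ι ≫ i) z ∈ (em.opensRange : Set P)
    rw [RelTildeX.opensRange_emb]
    show p _ ∈ U
    rw [← Scheme.Hom.comp_apply, Category.assoc, hip]
    exact z.2
  let k := IsOpenImmersion.lift em (Z.ι ≫ i) hr
  have hk : k ≫ em = Z.ι ≫ i := IsOpenImmersion.lift_fac _ _ _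
  obtain ⟨T, hT⟩ := (isCompact_range k.continuous).elim_finite_subcover
    (fun a : {a // a ∈ 𝒜 1} => (Proj.basicOpen 𝒜 (a : 𝒮.presheaf.obj (op U)) : Set (Proj 𝒜)))
    (fun a => (Proj.basicOpen 𝒜 _).2) (fun y _ => by
      rw [← Opens.coe_iSup, hcov]
      trivial)
  obtain ⟨hinv, hW⟩ := isAmple_twist_one_finite 𝒜 hcov T
  let W := ⨆ t : T, Proj.basicOpen 𝒜 ((t : {a // a ∈ 𝒜 1}) : 𝒮.presheaf.obj (op U))
  have hkW : Set.range k ⊆ Set.range W.ι := by
    rw [Scheme.Opens.range_ι]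
    intro y hy
    obtain ⟨t, ht, hyt⟩ := Set.mem_iUnion₂.1 (hT hy)
    exact Opens.mem_iSup.2 ⟨⟨t, ht⟩, hyt⟩
  let k' := IsOpenImmersion.lift W.ι k hkW
  have hk' : k' ≫ W.ι = k := IsOpenImmersion.lift_fac _ _ _
  have hk'e : Topology.IsEmbedding k'.base := by
    have e : k' ≫ W.ι ≫ em = Z.ι ≫ i := by rw [← Category.assoc, hk', hk]
    refine Topology.IsEmbedding.of_comp k'.continuous (W.ι ≫ em).continuous ?_
    have h0 : Topology.IsEmbedding (Z.ι ≫ i).base := hi.comp Z.ι.isOpenEmbedding.isEmbedding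
    rw [← e] at h0
    exact h0
  haveI : W.toScheme.IsSeparated := AmpleX.isSeparated_of_isAmple hW
  haveI : CompactSpace W.toScheme := (AmpleX.isAmple_iff.1 hW).2.1
  let w : W.toScheme ⟶ Spec Γ(W.toScheme, ⊤) := W.toScheme.toSpecΓ
  haveI : QuasiCompact w := inferInstance
  haveI : QuasiCompact k' := inferInstance
  have h1 : RelAmple.IsRelAmple (k' ≫ w) ((Scheme.Modules.pullback k').obj
      ((Scheme.Modules.pullback W.ι).obj (GrTwist.twist 𝒜 1))) :=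
    AmpleX.isRelAmple_pullback_embedding w k' hk'e ((AmpleX.isRelAmple_iff_isAmple w _).2 hW)
  have h2 := (AmpleX.isRelAmple_iff_isAmple (k' ≫ w) _).1 h1
  refine ⟨U, Z.toScheme, Z.ι, inferInstance, hxU, by rw [Scheme.Opens.opensRange_ι], ?_⟩
  refine AmpleX.isAmple_of_iso (cl_eq_iff.1 ?_).some h2
  show PicF.pullCl k' (PicF.pullCl W.ι (PicF.cl (GrTwist.twist 𝒜 1))) = _
  rw [PicClLib.pullCl_comp, hk', ← cl_eq_iff.2 ⟨RelTildeX.twistIso hO1 U hU⟩,
    cl_eq_iff.2 ⟨(Scheme.Modules.restrictFunctorIsoPullback em).app O1⟩,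
    cl_eq_iff.2 ⟨(Scheme.Modules.restrictFunctorIsoPullback Z.ι).app _⟩]
  show PicF.pullCl k (PicF.pullCl em (PicF.cl O1)) = PicF.pullCl Z.ι (PicF.pullCl i (PicF.cl O1))
  rw [PicClLib.pullCl_comp, hk, ← PicClLib.pullCl_comp]

theorem isRelAmple_of_isRelVeryAmple {X : Scheme.{u}} (f : X ⟶ S) [QuasiCompact f] {L : X.Modules}
    (h : RelProj.IsRelVeryAmple f L) : RelAmple.IsRelAmple f L := by
  obtain ⟨E, hE, 𝒮, j, hS, P, p, chart, -, O1, lam, hO1, i, hi, hip, ⟨eL⟩⟩ := h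
  have h1 := isRelAmple_pullback_twist f hE hS hO1 i hip i.isEmbedding
  exact isRelAmple_of_iso f eL.symm h1

end Groth.Agent.VeryAmpleX
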