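import Groth.Agent.VeryAmpleX.ToPn
import Groth.Agent.VeryAmpleX.Basic

/-!
# Very ample modules over an affine base come from projective space
-/

set_option linter.style.haveILetI false
set_option maxHeartbeats 1000000
set_option backward.isDefEq.respectTransparency false
set_option backward.isDefEq.respectTransparency.types false

noncomputable section

universe u

open CategoryTheory CategoryTheory.Limits AlgebraicGeometry TopologicalSpace Opposite HomogeneousLocalization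

namespace Groth.Agent.VeryAmpleX

open Groth.Agent

section ring

variable {A σ : Type u} [CommRing A] [SetLike σ A] [AddSubgroupClass σ A] (𝒜 : ℕ → σ) [GradedRing 𝒜]

theorem closure_away {R : Type u} [CommRing R] (φ : R →+* 𝒜 0)
    (hgen : Subring.closure (Set.range (fun r => (φ r : A)) ∪ (𝒜 1 : Set A)) = ⊤) {a : A} (ha : a ∈ 𝒜 1) :
    Subring.closure (Set.range (fun r => fromZeroRingHom 𝒜 (Submonoid.powers a) (φ r)) ∪
      Set.range (fun c : 𝒜 1 => Away.mk 𝒜 ha 1 (c : A) (by rw [one_smul]; exact c.2))) = ⊤ := by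
  classical
  set T := Subring.closure (Set.range (fun r => fromZeroRingHom 𝒜 (Submonoid.powers a) (φ r)) ∪
      Set.range (fun c : 𝒜 1 => Away.mk 𝒜 ha 1 (c : A) (by rw [one_smul]; exact c.2)))
  refine top_le_iff.1 fun w _ => ?_
  obtain ⟨n, b, hb, rfl⟩ := Away.mk_surjective 𝒜 ha w
  have hP : ∀ x : A, ∀ n, Away.mk 𝒜 ha n (GradedRing.proj 𝒜 (n • 1) x) (Proj16.proj_mem 𝒜 _ x) ∈ T := by
    intro x
    have hx : x ∈ AddSubgroup.closure
        (Submonoid.closure (Set.range (fun r => (φ r : A)) ∪ (𝒜 1 : Set A)) : Set A) :=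
      Subring.mem_closure_iff.1 (hgen ▸ Subring.mem_top x)
    induction hx using AddSubgroup.closure_induction with
    | mem y hy =>
      have key : ∃ k, ∃ hk : y ∈ 𝒜 (k • 1), Away.mk 𝒜 ha k y hk ∈ T := by
        induction hy using Submonoid.closure_induction with
        | mem z hz =>
          rcases hz with ⟨r, rfl⟩ | hz
          · refine ⟨0, by rw [zero_smul]; exact (φ r).2, ?_⟩
            have e : Away.mk 𝒜 ha 0 (φ r : A) (by rw [zero_smul]; exact (φ r).2) =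
                fromZeroRingHom 𝒜 (Submonoid.powers a) (φ r) := val_injective _ (by
              rw [Away.val_mk]
              show _ = (HomogeneousLocalization.mk _).val
              rw [val_mk]
              simp)
            rw [e]
            exact Subring.subset_closure (Or.inl ⟨r, rfl⟩)
          · exact ⟨1, by rw [one_smul]; exact hz, Subring.subset_closure (Or.inr ⟨⟨z, hz⟩, rfl⟩)⟩
        | one =>
          refine ⟨0, by rw [zero_smul]; exact SetLike.one_mem_graded 𝒜, ?_⟩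
          have e : Away.mk 𝒜 ha 0 (1 : A) (by rw [zero_smul]; exact SetLike.one_mem_graded 𝒜) = 1 :=
            val_injective _ (by rw [Away.val_mk, val_one]; simp)
          rw [e]
          exact one_mem T
        | mul y z _ _ ihy ihz =>
          obtain ⟨k, hk, hky⟩ := ihy
          obtain ⟨l, hl, hlz⟩ := ihz
          refine ⟨k + l, by rw [add_smul]; exact SetLike.mul_mem_graded hk hl, ?_⟩
          have e : Away.mk 𝒜 ha (k + l) (y * z) (by rw [add_smul]; exact SetLike.mul_mem_graded hk hl) =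
              Away.mk 𝒜 ha k y hk * Away.mk 𝒜 ha l z hl := val_injective _ (by
            rw [val_mul, Away.val_mk, Away.val_mk, Away.val_mk, Localization.mk_mul]
            congr 1
            exact Subtype.ext (pow_add a k l))
          rw [e]
          exact mul_mem hky hlz
      obtain ⟨k, hk, hkT⟩ := key
      intro n
      by_cases hn : n = k
      · subst hn
        convert hkT using 2
        exact (Proj16.proj_of_mem 𝒜 hk)
      · have e : Away.mk 𝒜 ha n (GradedRing.proj 𝒜 (n • 1) y) (Proj16.proj_mem 𝒜 _ y) = 0 :=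
          val_injective _ (by
            rw [Away.val_mk, val_zero, GradedRing.proj_apply,
              DirectSum.decompose_of_mem_ne 𝒜 hk (by simpa using Ne.symm hn), Localization.mk_zero])
        rw [e]
        exact zero_mem T
    | zero =>
      intro n
      have e : Away.mk 𝒜 ha n (GradedRing.proj 𝒜 (n • 1) 0) (Proj16.proj_mem 𝒜 _ 0) = 0 :=
        val_injective _ (by rw [Away.val_mk, val_zero, map_zero, Localization.mk_zero])
      rw [e]
      exact zero_mem T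
    | add y z _ _ ihy ihz =>
      intro n
      have e : Away.mk 𝒜 ha n (GradedRing.proj 𝒜 (n • 1) (y + z)) (Proj16.proj_mem 𝒜 _ _) =
          Away.mk 𝒜 ha n (GradedRing.proj 𝒜 (n • 1) y) (Proj16.proj_mem 𝒜 _ _) +
            Away.mk 𝒜 ha n (GradedRing.proj 𝒜 (n • 1) z) (Proj16.proj_mem 𝒜 _ _) :=
        val_injective _ (by rw [val_add, Away.val_mk, Away.val_mk, Away.val_mk, map_add, Localization.add_mk_self])
      rw [e]
      exact add_mem (ihy n) (ihz n)
    | neg y _ ihy =>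
      intro n
      have e : Away.mk 𝒜 ha n (GradedRing.proj 𝒜 (n • 1) (-y)) (Proj16.proj_mem 𝒜 _ _) =
          -Away.mk 𝒜 ha n (GradedRing.proj 𝒜 (n • 1) y) (Proj16.proj_mem 𝒜 _ _) :=
        val_injective _ (by rw [val_neg, Away.val_mk, Away.val_mk, map_neg, Localization.neg_mk])
      rw [e]
      exact neg_mem (ihy n)
  convert hP b n using 2
  exact (Proj16.proj_of_mem 𝒜 hb).symm

end ring

variable {S : Scheme.{u}}

theorem closure_str_deg1 {E : S.Modules} (hE : Coh.IsQCoh E) {𝒮 : RelProj.QCGrAlg S}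
    {j : E ⟶ 𝒮.toModule} (h : RelProj.IsGrSymAlg E 𝒮 j) (U : S.Opens) (hU : IsAffineOpen U) :
    Subring.closure (Set.range (fun r => ((𝒮.strZero U hU).hom r : 𝒮.presheaf.obj (op U))) ∪
      (𝒮.deg U hU 1 : Set (𝒮.presheaf.obj (op U)))) = ⊤ := by
  obtain ⟨e, he, hej⟩ := SymSh.exists_sec hE h.1 hU
  refine top_unique fun x _ => ?_
  rw [← e.symm_apply_apply x]
  generalize e x = y
  induction y using SymmetricAlgebra.induction with
  | algebraMap r =>
    rw [← he r, e.symm_apply_apply]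
    exact Subring.subset_closure (Or.inl ⟨r, rfl⟩)
  | ι m =>
    rw [← hej m, e.symm_apply_apply]
    exact Subring.subset_closure (Or.inr (h.2 U hU m))
  | mul a b ha hb => rw [map_mul]; exact mul_mem ha hb
  | add a b ha hb => rw [map_add]; exact add_mem ha hb

theorem isRelVeryAmplePn_chart {E : S.Modules} (hE : Coh.IsQCoh E) {𝒮 : RelProj.QCGrAlg S}
    {j : E ⟶ 𝒮.toModule} (hS : RelProj.IsGrSymAlg E 𝒮 j) (U : S.Opens) (hU : IsAffineOpen U)
    {X T : Scheme.{u}} [IsAffine T] (f : X ⟶ T) [LocallyOfFiniteType f] [QuasiCompact f]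
    (p₁ : Proj (𝒮.deg U hU) ⟶ T) (i₁ : X ⟶ Proj (𝒮.deg U hU)) [IsImmersion i₁] (hip₁ : i₁ ≫ p₁ = f)
    (hbase : ∀ (a : 𝒮.presheaf.obj (op U)), a ∈ 𝒮.deg U hU 1 → ∀ r : Γ(S, U), ∃ c : Γ(T, ⊤),
      (p₁.appLE ⊤ (Proj.basicOpen (𝒮.deg U hU) a) le_top).hom c =
        (Proj.awayToSection (𝒮.deg U hU) a).hom
          (fromZeroRingHom (𝒮.deg U hU) _ ((𝒮.strZero U hU).hom r))) :
    RelAmple.IsRelVeryAmplePn f ((Scheme.Modules.pullback i₁).obj (GrTwist.twist (𝒮.deg U hU) 1)) := by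
  let 𝒜 := 𝒮.deg U hU
  have hgen := isGenDegOne_of_isGrSymAlg hE hS
  have hcov : ⨆ a : {a // a ∈ 𝒜 1}, Proj.basicOpen 𝒜 (a : 𝒮.presheaf.obj (op U)) = ⊤ := by
    refine Proj.iSup_basicOpen_eq_top _ _ ?_
    rw [RelTildeX.irrelevant_eq_span_deg_one hgen U hU, Ideal.span_le]
    exact fun a ha => Ideal.subset_span ⟨⟨a, ha⟩, rfl⟩
  let t : {a // a ∈ 𝒜 1} → Γ(GrTwist.twist 𝒜 1, ⊤) := fun a => RelTwistX.sec1 𝒜 a.2
  have hlocus : ∀ a, H23.TrivBasic.locus (t a) = Proj.basicOpen 𝒜 (a : 𝒮.presheaf.obj (op U)) := fun a =>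
    RelTwistX.genLocus_sec1 𝒜 _ (fun b : {a // a ∈ 𝒜 1} => b.2) hcov a.2
  have hinv : PicF.IsInvertible (GrTwist.twist 𝒜 1) := fun x => by
    obtain ⟨a, ha⟩ := Opens.mem_iSup.1 (hcov.ge (trivial : x ∈ (⊤ : (Proj 𝒜).Opens)))
    exact ⟨_, ha, GrTwistX.nonempty_iso_restrict _ (RelTwistX.oneFrac 𝒜 a.2)⟩
  refine isRelVeryAmplePn_of_charts (f := f) (p := p₁) (i := i₁) t hip₁ hinv
    (fun a => (hlocus a).symm ▸ Proj.isAffineOpen_basicOpen 𝒜 _ a.2 one_pos)
    (fun x => by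
      obtain ⟨a, ha⟩ := Opens.mem_iSup.1 (hcov.ge (trivial : i₁ x ∈ (⊤ : (Proj 𝒜).Opens)))
      exact ⟨a, (hlocus a).ge ha⟩)
    (fun a => ?_)
  let D := Proj.basicOpen 𝒜 (a : 𝒮.presheaf.obj (op U))
  have key : ∀ (W : (Proj 𝒜).Opens) (hW : W = D), Subring.closure
      (Set.range (p₁.appLE ⊤ W le_top).hom ∪ ⋃ m : {a // a ∈ 𝒜 1},
        {c : Γ(Proj 𝒜, W) | AModX.res (GrTwist.twist 𝒜 1) (le_top : W ≤ ⊤) (t m) =
          c • AModX.res (GrTwist.twist 𝒜 1) (le_top : W ≤ ⊤) (t a)}) = ⊤ := by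
    rintro W rfl
    let θ := (Proj.awayToSection 𝒜 (a : 𝒮.presheaf.obj (op U))).hom
    have hθ : Function.Surjective θ := by
      haveI : IsIso (Proj.awayToSection 𝒜 (a : 𝒮.presheaf.obj (op U))) := by
        rw [← Proj.basicOpenIsoAway_hom 𝒜 (a : 𝒮.presheaf.obj (op U)) a.2 one_pos]
        infer_instance
      exact (ConcreteCategory.bijective_of_isIso (Proj.awayToSection 𝒜 (a : 𝒮.presheaf.obj (op U)))).2
    refine top_le_iff.1 fun w _ => ?_
    obtain ⟨v, rfl⟩ := hθ w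
    have hv : v ∈ Subring.closure _ := (closure_away 𝒜 (𝒮.strZero U hU).hom (closure_str_deg1 hE hS U hU) a.2).symm ▸
      Subring.mem_top v
    refine (Subring.closure_le (t := (Subring.closure _).comap θ)).2 ?_ hv
    rintro v (⟨r, rfl⟩ | ⟨c, rfl⟩)
    · exact Subring.subset_closure (Or.inl (hbase a a.2 r))
    · refine Subring.subset_closure (Or.inr (Set.mem_iUnion.2 ⟨c, ?_⟩))
      show AModX.res _ _ (RelTwistX.sec1 𝒜 c.2) = _ • AModX.res _ _ (RelTwistX.sec1 𝒜 a.2)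
      refine RelTwistX.val_ext fun y => ?_
      refine Eq.trans ?_ (GrTwist.coe_smul_val (1 : ℤ) y.1 _ _).symm
      refine (RelTwistX.val_sec1 𝒜 c.2 D y).trans ?_
      show _ = (GrModX.oval 𝒜 (Proj.awayToSection 𝒜 _ (Away.mk 𝒜 a.2 1 (c : 𝒮.presheaf.obj (op U))
        (by rw [one_smul]; exact c.2))) y).val * _
      rw [GrModX.oval_awayToSection]
      refine Eq.trans ?_ (congrArg _ (RelTwistX.val_sec1 𝒜 a.2 D y)).symm
      rw [Localization.mk_mul, Localization.mk_eq_mk_iff, Localization.r_iff_exists]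
      exact ⟨1, by simp only [Submonoid.coe_mul, Submonoid.coe_one, one_mul, mul_one, pow_one]; exact mul_comm _ _⟩
  exact key _ (hlocus a)

theorem toSpecZero_appLE' {U : S.Opens} (hU : IsAffineOpen U) (𝒮 : RelProj.QCGrAlg S) {T : Scheme.{u}}
    (k : Spec Γ(S, U) ⟶ T) (hk : Function.Surjective k.appTop) (a : 𝒮.presheaf.obj (op U))
    (ha : a ∈ 𝒮.deg U hU 1) (r : Γ(S, U)) :
    ∃ c : Γ(T, ⊤), (((Proj.toSpecZero (𝒮.deg U hU) ≫ Spec.map (𝒮.strZero U hU)) ≫ k).appLE ⊤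
        (Proj.basicOpen (𝒮.deg U hU) a) le_top).hom c =
      (Proj.awayToSection (𝒮.deg U hU) a).hom
        (fromZeroRingHom (𝒮.deg U hU) _ ((𝒮.strZero U hU).hom r)) := by
  obtain ⟨c, hc⟩ := hk ((Scheme.ΓSpecIso Γ(S, U)).inv r)
  refine ⟨c, Eq.trans ?_ (toSpecZero_appLE (𝒮.deg U hU) (𝒮.strZero U hU) ha one_pos r)⟩
  rw [← hc]
  exact congr($((Scheme.Hom.comp_appLE (Proj.toSpecZero (𝒮.deg U hU) ≫ Spec.map (𝒮.strZero U hU)) k ⊤
    (Proj.basicOpen (𝒮.deg U hU) a) le_top)) c)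

theorem isRelVeryAmplePn_restrict {X : Scheme.{u}} (f : X ⟶ S) [LocallyOfFiniteType f] [QuasiCompact f]
    {L : X.Modules} (hL : RelProj.IsRelVeryAmple f L) {U : S.Opens} (hU : IsAffineOpen U) :
    RelAmple.IsRelVeryAmplePn (f ∣_ U) (L.restrict (f ⁻¹ᵁ U).ι) := by
  obtain ⟨E, hE, 𝒮, j, hS, P, p, chart, hP, O1, lam, hO1, i, hi, hip, ⟨eL⟩⟩ := hL
  haveI : IsAffine (U : Scheme) := hU
  let em := RelProj.emb p chart U hU
  have hr : Set.range ((f ⁻¹ᵁ U).ι ≫ i) ⊆ Set.range em := by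
    rintro _ ⟨x, rfl⟩
    have hx : i ((f ⁻¹ᵁ U).ι x) ∈ em.opensRange := by
      rw [RelTildeX.opensRange_emb]
      show p (i x.1) ∈ U
      rw [← Scheme.Hom.comp_apply, hip]
      exact x.2
    exact hx
  let i₁ := IsOpenImmersion.lift em ((f ⁻¹ᵁ U).ι ≫ i) hr
  have hi₁ : i₁ ≫ em = (f ⁻¹ᵁ U).ι ≫ i := IsOpenImmersion.lift_fac _ _ _
  haveI : IsImmersion (i₁ ≫ em) := by rw [hi₁]; infer_instance
  haveI : IsImmersion i₁ := IsImmersion.of_comp i₁ em
  let p₁ := (Proj.toSpecZero (𝒮.deg U hU) ≫ Spec.map (𝒮.strZero U hU)) ≫ hU.isoSpec.inv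
  have hp₁ : i₁ ≫ p₁ = f ∣_ U := by
    rw [← cancel_mono U.ι, morphismRestrict_ι]
    refine Eq.trans ?_ (show ((f ⁻¹ᵁ U).ι ≫ i) ≫ p = (f ⁻¹ᵁ U).ι ≫ f by rw [Category.assoc, hip])
    rw [← hi₁]
    simp only [p₁, Category.assoc, em, emb_comp hP U hU]
    rfl
  obtain ⟨n, i', hi', hi's, ⟨e⟩⟩ := isRelVeryAmplePn_chart hE hS U hU (f ∣_ U) p₁ i₁ hp₁
    (toSpecZero_appLE' hU 𝒮 hU.isoSpec.inv (ConcreteCategory.bijective_of_isIso hU.isoSpec.inv.appTop).2)
  refine ⟨n, i', hi', hi's, ⟨?_ ≪≫ e⟩⟩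
  refine (Scheme.Modules.restrictFunctorIsoPullback (f ⁻¹ᵁ U).ι).app L ≪≫
    (Scheme.Modules.pullback (f ⁻¹ᵁ U).ι).mapIso eL ≪≫ (Scheme.Modules.pullbackComp _ i).app O1 ≪≫
    (Scheme.Modules.pullbackCongr hi₁.symm).app O1 ≪≫ ((Scheme.Modules.pullbackComp i₁ em).app O1).symm ≪≫
    (Scheme.Modules.pullback i₁).mapIso
      (((Scheme.Modules.restrictFunctorIsoPullback em).app O1).symm ≪≫ RelTildeX.twistIso hO1 U hU)

theorem isRelVeryAmplePn_of_isRelVeryAmple {X : Scheme.{u}} [IsAffine S] (f : X ⟶ S)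
    [LocallyOfFiniteType f] [QuasiCompact f] {L : X.Modules} (hL : RelProj.IsRelVeryAmple f L) :
    RelAmple.IsRelVeryAmplePn f L := by
  obtain ⟨E, hE, 𝒮, j, hS, P, p, chart, hP, O1, lam, hO1, i, hi, hip, ⟨eL⟩⟩ := hL
  have hU : IsAffineOpen (⊤ : S.Opens) := isAffineOpen_top S
  let em := RelProj.emb p chart ⊤ hU
  haveI : IsIso em := by
    haveI : Epi em.base := (TopCat.epi_iff_surjective _).2 fun z => by
      have hz : z ∈ em.opensRange := by rw [RelTildeX.opensRange_emb]; trivial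
      exact hz
    exact IsOpenImmersion.isIso em
  let i₁ : X ⟶ Proj (𝒮.deg ⊤ hU) := i ≫ inv em
  haveI : IsImmersion i₁ := inferInstance
  have hip₁ : i₁ ≫ (Proj.toSpecZero (𝒮.deg ⊤ hU) ≫ Spec.map (𝒮.strZero ⊤ hU)) ≫ hU.fromSpec = f := by
    rw [← emb_comp hP ⊤ hU]
    simp [i₁, em, hip]
  haveI : IsIso hU.fromSpec := by
    haveI : Epi hU.fromSpec.base := (TopCat.epi_iff_surjective _).2 fun z => by
      have hz : z ∈ hU.fromSpec.opensRange := by rw [hU.opensRange_fromSpec]; trivial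
      exact hz
    exact IsOpenImmersion.isIso hU.fromSpec
  obtain ⟨n, i', hi', hi's, ⟨e⟩⟩ := isRelVeryAmplePn_chart hE hS ⊤ hU f _ i₁ hip₁
    (toSpecZero_appLE' hU 𝒮 hU.fromSpec (ConcreteCategory.bijective_of_isIso hU.fromSpec.appTop).2)
  refine ⟨n, i', hi', hi's, ⟨?_ ≪≫ e⟩⟩
  refine eL ≪≫ (Scheme.Modules.pullbackCongr (show i = i₁ ≫ em by simp [i₁])).app O1 ≪≫
    ((Scheme.Modules.pullbackComp i₁ em).app O1).symm ≪≫ (Scheme.Modules.pullback i₁).mapIso
      (((Scheme.Modules.restrictFunctorIsoPullback em).app O1).symm ≪≫ RelTildeX.twistIso hO1 ⊤ hU)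

end Groth.Agent.VeryAmpleX
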