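import Mathlib.LinearAlgebra.SymmetricAlgebra.Basic
import Mathlib.RingTheory.GradedAlgebra.Basic

/-!
# The grading of a symmetric algebra
-/

noncomputable section

universe u

namespace Groth.Agent.VeryAmpleX

open scoped DirectSum

variable {R A M : Type u} [CommRing R] [CommRing A] [Algebra R A] [AddCommGroup M] [Module R M]

/-- The degree `d` part. -/
def symDeg (f : M →ₗ[R] A) (d : ℕ) : AddSubgroup A := ((LinearMap.range f) ^ d).toAddSubgroup

theorem mem_symDeg (f : M →ₗ[R] A) (d : ℕ) (x : A) : x ∈ symDeg f d ↔ x ∈ (LinearMap.range f) ^ d := Iff.rfl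

theorem algebraMap_mem_symDeg (f : M →ₗ[R] A) (r : R) : algebraMap R A r ∈ symDeg f 0 := by
  rw [mem_symDeg, pow_zero]
  exact Submodule.algebraMap_mem r

theorem apply_mem_symDeg (f : M →ₗ[R] A) (m : M) : f m ∈ symDeg f 1 := by
  rw [mem_symDeg, pow_one]
  exact LinearMap.mem_range_self _ m

/-- The grading. -/
@[implicit_reducible]
def symGraded {f : M →ₗ[R] A} (h : IsSymmetricAlgebra f) : GradedRing (symDeg f) :=
  letI g : M →ₗ[R] ⨁ i : ℕ, ↥(LinearMap.range f ^ i) :=
    DirectSum.lof R ℕ (fun i => ↥(LinearMap.range f ^ i)) 1 ∘ₗ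
      f.codRestrict _ fun m => by simpa only [pow_one] using LinearMap.mem_range_self _ m
  letI G : GradedAlgebra (fun i : ℕ => LinearMap.range f ^ i) :=
    GradedAlgebra.ofAlgHom _ (h.lift g)
      (h.algHom_ext (LinearMap.ext fun m => by
        show DirectSum.coeAlgHom (fun i : ℕ => LinearMap.range f ^ i) (h.lift g (f m)) = f m
        rw [h.lift_eq]
        exact DirectSum.coeAlgHom_of (fun i : ℕ => LinearMap.range f ^ i) 1 _))
      fun i x => by
      obtain ⟨x, hx⟩ := x
      show h.lift g x = _
      induction hx using Submodule.pow_induction_on_left' with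
      | algebraMap r =>
        rw [AlgHom.commutes, DirectSum.algebraMap_apply]; rfl
      | add x y i hx hy ihx ihy =>
        rw [map_add, ihx, ihy, ← map_add]
        rfl
      | mem_mul m hm i x hx ih =>
        obtain ⟨m, rfl⟩ := hm
        rw [map_mul, ih, h.lift_eq]
        refine (DirectSum.of_mul_of _ _).trans ?_
        exact DirectSum.of_eq_of_gradedMonoid_eq (Sigma.subtype_ext (add_comm _ _) rfl)
  { one_mem := G.one_mem
    mul_mem := G.mul_mem
    decompose' := G.decompose'
    left_inv := G.left_inv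
    right_inv := G.right_inv }

end Groth.Agent.VeryAmpleX
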