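import Groth.Prelude.Def_RelProj2
import Groth.Agent.SymSh.Spec
import Groth.Agent.VeryAmpleX.SymGrading

/-!
# The graded symmetric algebra of a quasi-coherent module exists
-/

noncomputable section

universe u

open CategoryTheory CategoryTheory.Limits AlgebraicGeometry TopologicalSpace Opposite

set_option backward.isDefEq.respectTransparency false
set_option backward.isDefEq.respectTransparency.types false
set_option linter.style.haveILetI false

namespace Groth.Agent.VeryAmpleX

open Groth.Agent

variable {S : Scheme.{u}} {E : S.Modules}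

/-- The algebra structure on sections. -/
@[implicit_reducible]
def secAlg (A : RelSpec.QCAlg S) (U : S.Opens) : Algebra Γ(S, U) (A.presheaf.obj (op U)) :=
  (A.str.app (op U)).hom.toAlgebra

/-- A map into an algebra, on sections. -/
def jLin {A : RelSpec.QCAlg S} (j : E ⟶ A.toModule) (U : S.Opens) :
    letI := secAlg A U
    E.val.obj (op U) →ₗ[Γ(S, U)] A.presheaf.obj (op U) :=
  letI := secAlg A U
  { toFun := fun e => (show A.presheaf.obj (op U) from j.val.app (op U) e)
    map_add' := fun a b => map_add (j.val.app (op U)).hom a b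
    map_smul' := fun c a => ((j.val.app (op U)).hom.map_smul c a).trans
      (Algebra.smul_def (R := Γ(S, U)) (A := A.presheaf.obj (op U)) c _).symm }

theorem isSymmetricAlgebra_jLin (hE : Coh.IsQCoh E) {A : RelSpec.QCAlg S} {j : E ⟶ A.toModule}
    (hA : RelSpec.IsSymAlg E A j) {U : S.Opens} (hU : IsAffineOpen U) :
    letI := secAlg A U
    IsSymmetricAlgebra (jLin j U) := by
  letI := secAlg A U
  obtain ⟨e, he, hej⟩ := SymSh.exists_sec hE hA hU
  let e' : A.presheaf.obj (op U) ≃ₐ[Γ(S, U)] SymmetricAlgebra Γ(S, U) (E.val.obj (op U)) :=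
    AlgEquiv.ofRingEquiv (f := e) he
  refine IsSymmetricAlgebra.of_equiv e'.symm (LinearMap.ext fun m => ?_)
  show e.symm (SymmetricAlgebra.ι _ _ m) = _
  rw [← hej m, e.symm_apply_apply]
  rfl

theorem jLin_res {A : RelSpec.QCAlg S} (j : E ⟶ A.toModule) {U V : S.Opens} (i : V ≤ U)
    (m : E.val.obj (op U)) :
    (A.presheaf.map (homOfLE i).op).hom (jLin j U m) = jLin j V (E.val.map (homOfLE i).op m) :=
  (congr($(j.mapPresheaf.naturality (homOfLE i).op) m)).symm

/-- The graded symmetric algebra. -/
def grSym (hE : Coh.IsQCoh E) (A : RelSpec.QCAlg S) (j : E ⟶ A.toModule) (hA : RelSpec.IsSymAlg E A j) :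
    RelProj.QCGrAlg S where
  toQCAlg := A
  deg U _ := letI := secAlg A U; symDeg (jLin j U)
  graded U hU := letI := secAlg A U; symGraded (isSymmetricAlgebra_jLin hE hA hU)
  map_mem := fun {U V} hU hV i {d x} hx => by
    letI := secAlg A U
    letI := secAlg A V
    rw [mem_symDeg] at hx ⊢
    induction hx using Submodule.pow_induction_on_left' with
    | algebraMap r =>
      rw [pow_zero, RingHom.algebraMap_toAlgebra]
      have h := congr($(A.str.naturality (homOfLE i).op) r)
      change _ = (A.presheaf.map (homOfLE i).op).hom ((A.str.app (op U)).hom r) at h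
      rw [← h]
      exact Submodule.algebraMap_mem _
    | add x y n _ _ ihx ihy => rw [map_add]; exact add_mem ihx ihy
    | mem_mul m hm n x _ ih =>
      obtain ⟨m, rfl⟩ := hm
      rw [map_mul, pow_succ']
      refine Submodule.mul_mem_mul ?_ ih
      rw [jLin_res]
      exact LinearMap.mem_range_self _ _
  str_mem U _ r := by
    letI := secAlg A U
    exact algebraMap_mem_symDeg (jLin j U) r

theorem isGrSymAlg_grSym (hE : Coh.IsQCoh E) (A : RelSpec.QCAlg S) (j : E ⟶ A.toModule)
    (hA : RelSpec.IsSymAlg E A j) : RelProj.IsGrSymAlg E (grSym hE A j hA) j :=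
  ⟨hA, fun U _ x => letI := secAlg A U; apply_mem_symDeg (jLin j U) x⟩

theorem exists_isGrSymAlg (hE : Coh.IsQCoh E) :
    ∃ (𝒮 : RelProj.QCGrAlg S) (j : E ⟶ 𝒮.toModule), RelProj.IsGrSymAlg E 𝒮 j :=
  ⟨grSym hE _ _ (SymSh.isSymAlg E hE), _, isGrSymAlg_grSym hE _ _ (SymSh.isSymAlg E hE)⟩

end Groth.Agent.VeryAmpleX
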