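import Groth.Agent.VeryAmpleX.SigIso
import Groth.Agent.VeryAmpleX.Criterion
import Groth.Agent.ExtPowSh.Loc

/-!
# The map from a module to the direct image of the fundamental sheaf of its bundle
-/

noncomputable section

universe u

open CategoryTheory CategoryTheory.Limits AlgebraicGeometry TopologicalSpace Opposite HomogeneousLocalization
open scoped HomogeneousIdeal

set_option backward.isDefEq.respectTransparency false
set_option backward.isDefEq.respectTransparency.types false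
set_option linter.style.haveILetI false
set_option linter.unusedSectionVars false
set_option maxHeartbeats 800000

namespace Groth.Agent.VeryAmpleX.Sig

open Groth.Agent Groth.Agent.VeryAmpleX

variable {S : Scheme.{u}} {E : S.Modules} {𝒮 : RelProj.QCGrAlg S} {j : E ⟶ 𝒮.toModule}

theorem jsec_add {U : S.Opens} (m m' : Γ(E, U)) : jsec j (m + m') = jsec j m + jsec j m' :=
  map_add (j.val.app (op U)).hom m m'

theorem jsec_zero {U : S.Opens} : jsec j (0 : Γ(E, U)) = 0 :=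
  map_zero (j.val.app (op U)).hom

theorem jsec_neg {U : S.Opens} (m : Γ(E, U)) : jsec j (-m) = -jsec j m :=
  map_neg (j.val.app (op U)).hom m

theorem jsec_smul {U : S.Opens} (r : Γ(S, U)) (m : Γ(E, U)) :
    jsec j (r • m) = (𝒮.str.app (op U)).hom r * jsec j m :=
  Scheme.Modules.Hom.app_smul j r m

theorem exists_jsec_eq (hE : Coh.IsQCoh E) (hS : RelProj.IsGrSymAlg E 𝒮 j) {U : S.Opens} (hU : IsAffineOpen U)
    {x : 𝒮.presheaf.obj (op U)} (hx : x ∈ 𝒮.deg U hU 1) : ∃ m : Γ(E, U), jsec j m = x := by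
  classical
  let 𝒜 := 𝒮.deg U hU
  suffices H : ∀ x, ∃ m : Γ(E, U), jsec j m = GradedRing.proj 𝒜 1 x by
    have := H x
    rwa [GradedRing.proj_apply, DirectSum.decompose_of_mem_same 𝒜 hx] at this
  intro x
  have hx : x ∈ AddSubgroup.closure (Submonoid.closure (Set.range (fun r => (𝒮.str.app (op U)).hom r) ∪
      Set.range (jsec j (U := U))) : Set (𝒮.presheaf.obj (op U))) :=
    Subring.mem_closure_iff.1 ((closure_str_jsec hE hS U hU).ge (trivial : x ∈ (⊤ : Subring _)))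
  induction hx using AddSubgroup.closure_induction with
  | mem y hy =>
    have key : ∃ k, y ∈ 𝒜 k ∧ (k = 0 → ∃ r, (𝒮.str.app (op U)).hom r = y) ∧
        (k = 1 → ∃ m : Γ(E, U), jsec j m = y) := by
      induction hy using Submonoid.closure_induction with
      | mem z hz =>
        rcases hz with ⟨r, rfl⟩ | ⟨m, rfl⟩
        · exact ⟨0, 𝒮.str_mem U hU r, fun _ => ⟨r, rfl⟩, fun h => absurd h zero_ne_one⟩
        · exact ⟨1, hS.2 U hU m, fun h => absurd h one_ne_zero, fun _ => ⟨m, rfl⟩⟩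
      | one => exact ⟨0, SetLike.one_mem_graded 𝒜, fun _ => ⟨1, map_one _⟩, fun h => absurd h zero_ne_one⟩
      | mul y z _ _ ihy ihz =>
        obtain ⟨k, hk, hk0, hk1⟩ := ihy
        obtain ⟨l, hl, hl0, hl1⟩ := ihz
        refine ⟨k + l, SetLike.mul_mem_graded hk hl, fun h => ?_, fun h => ?_⟩
        · obtain ⟨r, rfl⟩ := hk0 (by omega)
          obtain ⟨s, rfl⟩ := hl0 (by omega)
          exact ⟨r * s, map_mul _ _ _⟩
        · rcases Nat.add_eq_one_iff.1 h with ⟨h0, h1⟩ | ⟨h1, h0⟩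
          · obtain ⟨r, rfl⟩ := hk0 h0
            obtain ⟨m, rfl⟩ := hl1 h1
            exact ⟨r • m, jsec_smul r m⟩
          · obtain ⟨m, rfl⟩ := hk1 h1
            obtain ⟨r, rfl⟩ := hl0 h0
            exact ⟨r • m, (jsec_smul r m).trans (mul_comm _ _)⟩
    obtain ⟨k, hk, -, hk1⟩ := key
    rcases eq_or_ne k 1 with rfl | hne
    · obtain ⟨m, hm⟩ := hk1 rfl
      exact ⟨m, by rw [hm, GradedRing.proj_apply, DirectSum.decompose_of_mem_same 𝒜 hk]⟩
    · exact ⟨0, by rw [jsec_zero, GradedRing.proj_apply, DirectSum.decompose_of_mem_ne 𝒜 hk hne]⟩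
  | zero => exact ⟨0, by rw [jsec_zero, map_zero]⟩
  | add y z _ _ ihy ihz =>
    obtain ⟨m, hm⟩ := ihy
    obtain ⟨n, hn⟩ := ihz
    exact ⟨m + n, by rw [jsec_add, map_add, hm, hn]⟩
  | neg y _ ihy =>
    obtain ⟨m, hm⟩ := ihy
    exact ⟨-m, by rw [jsec_neg, map_neg, hm]⟩

variable {P : Scheme.{u}} {p : P ⟶ S}
  {chart : ∀ (U : S.Opens) (hU : IsAffineOpen U), (((p ⁻¹ᵁ U : P.Opens) : Scheme.{u}) ≅ Proj (𝒮.deg U hU))}
  {O1 : P.Modules}
  {lam : ∀ (U : S.Opens) (hU : IsAffineOpen U),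
    O1 ⟶ (Scheme.Modules.pushforward (RelProj.emb p chart U hU)).obj (GrTwist.twist (𝒮.deg U hU) 1)}

theorem exists_twistMap (hE : Coh.IsQCoh E) (hS : RelProj.IsGrSymAlg E 𝒮 j) (hP : RelProj.IsRelProj 𝒮 p chart)
    (hO1 : RelProj.IsRelTwist 𝒮 p chart 1 O1 lam) :
    ∃ σ : E ⟶ (Scheme.Modules.pushforward p).obj O1, ∀ (U : S.Opens) (hU : IsAffineOpen U) (e : Γ(E, U)),
      (lam U hU).app (p ⁻¹ᵁ U) (σ.app U e) =
        AModX.res (GrTwist.twist (𝒮.deg U hU) 1) (le_top : RelTwistX.pre p chart U hU (p ⁻¹ᵁ U) ≤ ⊤)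
          (RelTwistX.sec1 (𝒮.deg U hU) (hS.2 U hU e)) := by
  classical
  choose t ht using fun (U : S.affineOpens) (e : Γ(E, U.1)) => (hO1.bijective U.1 U.2 (p ⁻¹ᵁ U.1) le_rfl).2
    (AModX.res (GrTwist.twist (𝒮.deg U.1 U.2) 1)
      (le_top : RelTwistX.pre p chart U.1 U.2 (p ⁻¹ᵁ U.1) ≤ ⊤)
      (RelTwistX.sec1 (𝒮.deg U.1 U.2) (hS.2 U.1 U.2 e)))
  have hval : ∀ (U : S.affineOpens) (e : Γ(E, U.1)) (w : RelTwistX.pre p chart U.1 U.2 (p ⁻¹ᵁ U.1)),
      GrTwist.val (V := RelTwistX.pre p chart U.1 U.2 (p ⁻¹ᵁ U.1)) ((lam U.1 U.2).app (p ⁻¹ᵁ U.1) (t U e)) w =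
        (Localization.mk (jsec j e) ⟨1, fun h => w.1.isPrime.ne_top ((Ideal.eq_top_iff_one _).mpr h)⟩ :
          GrTwist.Loc (𝒮.deg U.1 U.2) w.1) := fun U e w => by
    rw [ht]
    exact RelTwistX.val_sec1 _ _ _ w
  have hadd : ∀ U e e', t U (e + e') = t U e + t U e' := fun U e e' => by
    refine (hO1.bijective U.1 U.2 _ le_rfl).1 (RelTwistX.val_ext fun w => ?_)
    rw [map_add]
    refine (hval U _ w).trans ?_
    show _ = GrTwist.val (V := RelTwistX.pre p chart U.1 U.2 (p ⁻¹ᵁ U.1)) _ w +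
      GrTwist.val (V := RelTwistX.pre p chart U.1 U.2 (p ⁻¹ᵁ U.1)) _ w
    rw [hval, hval, jsec_add, Localization.add_mk_self]
  have hsmul : ∀ (U : S.affineOpens) (r : Γ(S, U.1)) e, t U (r • e) = p.app U.1 r • t U e := fun U r e => by
    refine (hO1.bijective U.1 U.2 _ le_rfl).1 (RelTwistX.val_ext fun w => ?_)
    refine (hval U _ w).trans (Eq.trans ?_ (RelTwistX.val_smul_sc U.2 (lam U.1 U.2) (p.app U.1 r) (t U e) w).symm)
    obtain ⟨g, hg⟩ := Opens.mem_iSup.1 ((iSup_basicOpen_jsec hE hS U.2).ge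
      (trivial : w.1 ∈ (⊤ : (Proj (𝒮.deg U.1 U.2)).Opens)))
    rw [sc_base hP U.2 r (hS.2 U.1 U.2 g) one_pos w hg, hval, jsec_smul, ← Localization.mk_one_eq_algebraMap,
      Localization.mk_mul]
    congr 1
    exact (one_mul _).symm
  obtain ⟨σ, hσ⟩ := ExtPowSh.exists_hom_of_affine (M := E) (N := (Scheme.Modules.pushforward p).obj O1)
    (fun U => { toFun := t U, map_add' := hadd U, map_smul' := hsmul U }) fun U V h e => by
      show AModX.res O1 (p.preimage_mono h) (t U e) = t V (AModX.res E h e)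
      refine AModX.eq_of_locally _ _ fun y hy => ?_
      obtain ⟨D, hD, g, g', hyD⟩ := RelTwistX.exists_good U.2 V.2 (x := p y) (h hy) hy
      refine ⟨p ⁻¹ᵁ D, p.preimage_mono g'.le, hyD, (hO1.bijective D hD _ le_rfl).1 (RelTwistX.val_ext fun w => ?_)⟩
      rw [AModX.res_res, RelTwistX.val_chart_good hP hO1 U.2 hD g _ (t U e) w,
        RelTwistX.val_chart_good hP hO1 V.2 hD g' _ (t V _) w, hval, hval, GrTwist.locMap_mk, GrTwist.locMap_mk]
      refine Localization.mk_eq_mk_iff.2 (Localization.r_iff_exists.2 ⟨1, ?_⟩)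
      simp only [map_one]
      congr 2
      rw [show 𝒮.res U.2 hD g.le (jsec j e) = jsec j (AModX.res E g.le e) from jsec_res g.le e,
        show 𝒮.res V.2 hD g'.le (jsec j (AModX.res E h e)) = _ from jsec_res g'.le _, AModX.res_res]
  refine ⟨σ, fun U hU e => ?_⟩
  rw [show σ.app U e = t ⟨U, hU⟩ e from hσ ⟨U, hU⟩ e]
  exact ht ⟨U, hU⟩ e

end Groth.Agent.VeryAmpleX.Sig
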