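import Groth.Agent.VeryAmpleX.SigTwist
import Groth.Agent.VeryAmpleX.ToPnProj
import Groth.Agent.VeryAmpleX.GrSym
import Groth.Agent.QCoh.Qcqs
import Groth.Agent.ProjUPX.Affine

/-!
# A criterion for relative very ampleness by sections
-/

noncomputable section

universe u

open CategoryTheory CategoryTheory.Limits AlgebraicGeometry TopologicalSpace Opposite HomogeneousLocalization

set_option backward.isDefEq.respectTransparency false
set_option backward.isDefEq.respectTransparency.types false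
set_option linter.style.haveILetI false
set_option linter.unusedSectionVars false
set_option maxHeartbeats 800000

namespace Groth.Agent.VeryAmpleX.Sig

open Groth.Agent Groth.Agent.VeryAmpleX

/-- The map to the direct image of the inverse image. -/
def pullMap {X S P : Scheme.{u}} {p : P ⟶ S} {O1 : P.Modules} {E : S.Modules}
    (σ : E ⟶ (Scheme.Modules.pushforward p).obj O1) (i : X ⟶ P) :
    E ⟶ (Scheme.Modules.pushforward (i ≫ p)).obj ((Scheme.Modules.pullback i).obj O1) :=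
  σ ≫ (Scheme.Modules.pushforward p).map ((Scheme.Modules.pullbackPushforwardAdjunction i).unit.app O1) ≫
    ((Scheme.Modules.pushforwardComp i p).app _).hom

theorem sg_pullMap {X S P : Scheme.{u}} {p : P ⟶ S} {O1 : P.Modules} {E : S.Modules}
    (σ : E ⟶ (Scheme.Modules.pushforward p).obj O1) (i : X ⟶ P) {U : S.Opens} (m : Γ(E, U)) :
    sg (pullMap σ i) m = InvX.pullElt i (sg σ m) :=
  rfl

/-- `σ` is the tautological map in degree one. -/
def IsTwistMap {S P : Scheme.{u}} {E : S.Modules} {𝒮 : RelProj.QCGrAlg S} {j : E ⟶ 𝒮.toModule} {p : P ⟶ S}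
    {chart : ∀ (U : S.Opens) (hU : IsAffineOpen U), (((p ⁻¹ᵁ U : P.Opens) : Scheme.{u}) ≅ Proj (𝒮.deg U hU))}
    {O1 : P.Modules} (hS : RelProj.IsGrSymAlg E 𝒮 j)
    (lam : ∀ (U : S.Opens) (hU : IsAffineOpen U),
      O1 ⟶ (Scheme.Modules.pushforward (RelProj.emb p chart U hU)).obj (GrTwist.twist (𝒮.deg U hU) 1))
    (σ : E ⟶ (Scheme.Modules.pushforward p).obj O1) : Prop :=
  ∀ (U : S.Opens) (hU : IsAffineOpen U) (e : Γ(E, U)),
    (lam U hU).app (p ⁻¹ᵁ U) (σ.app U e) =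
      AModX.res (GrTwist.twist (𝒮.deg U hU) 1) (le_top : RelTwistX.pre p chart U hU (p ⁻¹ᵁ U) ≤ ⊤)
        (RelTwistX.sec1 (𝒮.deg U hU) (hS.2 U hU e))

theorem twist_lam {S P : Scheme.{u}} {𝒮 : RelProj.QCGrAlg S} {p : P ⟶ S}
    {chart : ∀ (U : S.Opens) (hU : IsAffineOpen U), (((p ⁻¹ᵁ U : P.Opens) : Scheme.{u}) ≅ Proj (𝒮.deg U hU))}
    {O1 : P.Modules}
    {lam : ∀ (U : S.Opens) (hU : IsAffineOpen U),
      O1 ⟶ (Scheme.Modules.pushforward (RelProj.emb p chart U hU)).obj (GrTwist.twist (𝒮.deg U hU) 1)}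
    (hO1 : RelProj.IsRelTwist 𝒮 p chart 1 O1 lam) {U : S.Opens} (hU : IsAffineOpen U)
    (hrange : RelProj.emb p chart U hU ''ᵁ ⊤ = p ⁻¹ᵁ U) (v : Γ(GrTwist.twist (𝒮.deg U hU) 1, ⊤)) :
    (lam U hU).app (p ⁻¹ᵁ U) (AModX.res O1 hrange.ge ((RelTildeX.twistIso hO1 U hU).symm.hom.app ⊤ v)) =
      AModX.res (GrTwist.twist (𝒮.deg U hU) 1) (le_top : RelTwistX.pre p chart U hU (p ⁻¹ᵁ U) ≤ ⊤) v := by
  let em := RelProj.emb p chart U hU
  let b := (RelTildeX.twistIso hO1 U hU).symm.hom.app ⊤ v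
  have h1 : (RelTildeX.twistIso hO1 U hU).hom.app ⊤ b = v :=
    congrArg (fun φ => φ.app ⊤ v) (RelTildeX.twistIso hO1 U hU).inv_hom_id
  conv_rhs => rw [← h1]
  have h2 : (RelTildeX.twistIso hO1 U hU).hom.app ⊤ b =
      AModX.res (GrTwist.twist (𝒮.deg U hU) 1) (em.preimage_image_eq ⊤).ge
        ((lam U hU).app (em ''ᵁ ⊤) b) := rfl
  rw [h2, AModX.res_res, AModX.app_res]
  rfl

variable {X S : Scheme.{u}} {f : X ⟶ S} {L : X.Modules} {E : S.Modules}
  {σ : E ⟶ (Scheme.Modules.pushforward f).obj L}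

/-- Sections giving coordinates around every point give very ampleness. -/
theorem isRelVeryAmple_of_immAt (hE : Coh.IsQCoh E) (h : ∀ x, ImmAt σ x) : RelProj.IsRelVeryAmple f L := by
  let hA := SymSh.isSymAlg _ hE
  let 𝒮 := grSym hE _ _ hA
  have hS : RelProj.IsGrSymAlg _ 𝒮 (SymSh.j _ hE) := isGrSymAlg_grSym hE _ _ hA
  obtain ⟨P, p, chart, hP⟩ := Proj16.exists_isRelProj 𝒮
  have hO1 := RelTwistX.isRelTwist hP (n := 1)
  have hcov : ∀ x : X, ∃ (U : S.Opens) (_ : IsAffineOpen U) (a : Γ(E, U)), x ∈ AmpleX.locus (sg σ a) := fun x => by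
    obtain ⟨U, hU, a, g, -, hx, -⟩ := h x
    exact ⟨U, hU, a, X.basicOpen_le g hx⟩
  obtain ⟨r, hr⟩ := exists_toBundle (σ := σ) hE hS hP hcov
  obtain ⟨e⟩ := nonempty_pullback_toBundle hE hS hP hO1 hr hcov
  exact ⟨_, hE, 𝒮, _, hS, P, p, chart, hP, _, _, hO1, r, isImmersion_toBundle hE hS hP hr hcov h,
    toBundle_comp hE hS hP hr hcov, ⟨e.symm⟩⟩

/-- The coordinates may be chosen near `x`. -/
theorem ImmAt.shrink {x : X} (h : ImmAt σ x) {O : X.Opens} (hx : x ∈ O) :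
    ∃ (U : S.Opens) (_ : IsAffineOpen U) (a : Γ(E, U)) (g : Γ(X, AmpleX.locus (sg σ a))),
      g ∈ secFns σ a ∧ x ∈ X.basicOpen g ∧ X.basicOpen g ≤ O ∧ IsAffineOpen (X.basicOpen g) ∧
      ∀ c : Γ(X, X.basicOpen g), ∃ (k : ℕ) (H : Γ(X, AmpleX.locus (sg σ a))), H ∈ secFns σ a ∧
        c * AModX.resR (X.basicOpen_le g) g ^ k = AModX.resR (X.basicOpen_le g) H := by
  obtain ⟨U, hU, a, g, hg, hxg, haff, hs⟩ := h
  obtain ⟨v, hv, hxv⟩ := haff.exists_basicOpen_le (V := O) ⟨x, hx⟩ hxg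
  obtain ⟨k, H, hH, hvH⟩ := hs v
  have hb : X.basicOpen (g * H) = X.basicOpen v := by
    have h1 := congrArg X.basicOpen hvH
    rw [Scheme.basicOpen_mul, AModX.resR, Scheme.basicOpen_res] at h1
    rw [Scheme.basicOpen_mul]
    refine le_antisymm ?_ (le_inf (X.basicOpen_le v) ?_)
    · rw [← h1]; exact inf_le_left
    · refine le_trans ?_ (inf_le_right : X.basicOpen g ⊓ X.basicOpen H ≤ _)
      rw [← h1]
      refine le_inf le_rfl ((X.basicOpen_le v).trans ?_)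
      exact (X.basicOpen_of_isUnit ((AModX.isUnit_resR (X.basicOpen_le g) g le_rfl).pow k)).ge
  refine ⟨U, hU, a, g * H, mul_mem hg hH, hb ▸ hxv, hb ▸ hv, hb ▸ haff.basicOpen v, ?_⟩
  intro c
  have hDv : X.basicOpen (g * H) ≤ X.basicOpen g := hb.le.trans (X.basicOpen_le v)
  have := haff.isLocalization_of_eq_basicOpen v (homOfLE hDv) hb
  letI := (X.presheaf.map (homOfLE hDv).op).hom.toAlgebra
  obtain ⟨⟨c₀, ⟨_, n, rfl⟩⟩, hc⟩ := IsLocalization.surj (Submonoid.powers v) c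
  obtain ⟨l, H₀, hH₀, hc₀⟩ := hs c₀
  refine ⟨n + l, H₀ * g ^ (k * n + n) * H ^ l, mul_mem (mul_mem hH₀ (pow_mem hg _)) (pow_mem hH _), ?_⟩
  let ρ := (X.presheaf.map (homOfLE (X.basicOpen_le (g * H))).op).hom
  have h2 : X.presheaf.map (homOfLE hDv).op v * ρ g ^ k = ρ H := by
    have := congrArg (AModX.resR hDv) hvH
    rw [map_mul, map_pow, AModX.resR_resR, AModX.resR_resR] at this
    exact this
  have h3 : X.presheaf.map (homOfLE hDv).op c₀ * ρ g ^ l = ρ H₀ := by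
    have := congrArg (AModX.resR hDv) hc₀
    rw [map_mul, map_pow, AModX.resR_resR, AModX.resR_resR] at this
    exact this
  have hc' : c * X.presheaf.map (homOfLE hDv).op v ^ n = X.presheaf.map (homOfLE hDv).op c₀ := by
    rw [← map_pow]; exact hc
  show c * ρ (g * H) ^ (n + l) = ρ (H₀ * g ^ (k * n + n) * H ^ l)
  simp only [map_mul, map_pow, ← h3, ← hc', ← h2]
  simp only [mul_pow, ← pow_mul, pow_add, Nat.mul_add]
  ring

/-- Inverse images along immersions over the base. -/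
theorem ImmAt.pullback {P : Scheme.{u}} {p : P ⟶ S} {O1 : P.Modules} {σ : E ⟶ (Scheme.Modules.pushforward p).obj O1}
    (hO1 : PicF.IsInvertible O1)
    (i : X ⟶ P) [IsImmersion i] {x : X} (h : ImmAt σ (i x)) :
    ImmAt (pullMap σ i) x := by
  obtain ⟨U, hU, a, g, hg, hxg, hgO, haff, hs⟩ :=
    h.shrink (O := i.coborderRange) (subset_coborder (Set.mem_range_self x))
  let a' : Γ((Scheme.Modules.pullback i).obj O1, (i ≫ p) ⁻¹ᵁ U) := InvX.pullElt i (sg σ a)
  have hloc : AmpleX.locus a' = i ⁻¹ᵁ AmpleX.locus (sg σ a) := AmpleX.locus_pullElt hO1 i (sg σ a)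
  let φ : Γ(P, AmpleX.locus (sg σ a)) →+* Γ(X, AmpleX.locus a') :=
    (i.appLE (AmpleX.locus (sg σ a)) (AmpleX.locus a') hloc.le).hom
  have hφ : ∀ H ∈ secFns σ a, φ H ∈ secFns (pullMap σ i) a := fun H hH => by
    refine (Subring.closure_le (t := (secFns (pullMap σ i) a).comap φ)).2 ?_ hH
    rintro c (⟨r, rfl⟩ | ⟨m, hm⟩)
    · refine Subring.subset_closure (Or.inl ⟨r, ?_⟩)
      show _ = (p.appLE _ _ _ ≫ i.appLE _ _ _) r
      rw [Scheme.Hom.appLE_comp_appLE]
    · refine Subring.subset_closure (Or.inr ⟨m, ?_⟩)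
      have := congrArg (fun t => AModX.res _ hloc.le (InvX.pullElt i t)) hm
      rw [InvX.pullElt_smul, AModX.res_smul, ← InvX.res_pullElt, ← InvX.res_pullElt, AModX.res_res,
        AModX.res_res] at this
      exact this
  have hb : X.basicOpen (φ g) = i ⁻¹ᵁ P.basicOpen g := by
    rw [Scheme.preimage_basicOpen]
    show X.basicOpen ((i.appLE _ _ _).hom g) = _
    rw [Scheme.Hom.appLE, CommRingCat.comp_apply, Scheme.basicOpen_res, hloc]
    exact inf_eq_right.2 (X.basicOpen_le _)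
  have hO : i.coborderRange.ι ''ᵁ (i.coborderRange.ι ⁻¹ᵁ P.basicOpen g) = P.basicOpen g := by
    rw [Scheme.Hom.image_preimage_eq_opensRange_inf, Scheme.Opens.opensRange_ι]
    exact inf_eq_right.2 hgO
  have hV : IsAffineOpen (i.coborderRange.ι ⁻¹ᵁ P.basicOpen g) :=
    i.coborderRange.ι.isAffineOpen_iff_of_isOpenImmersion.1 (by rw [hO]; exact haff)
  have hpre := i.liftCoborder_preimage (i.coborderRange.ι ⁻¹ᵁ P.basicOpen g)
  have hsurj : Function.Surjective (i.app (P.basicOpen g)) := by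
    have hs := i.liftCoborder.app_surjective _ hV
    rw [liftCoborder_app] at hs
    have : Function.Surjective (i.app (i.coborderRange.ι ''ᵁ (i.coborderRange.ι ⁻¹ᵁ P.basicOpen g))) :=
      fun z => by
        obtain ⟨y, hy⟩ := hs (X.presheaf.map (eqToHom hpre).op z)
        exact ⟨y, (ConcreteCategory.bijective_of_isIso (X.presheaf.map (eqToHom hpre).op)).1 hy⟩
    rwa [hO] at this
  have haff' : IsAffineOpen (X.basicOpen (φ g)) := by
    have := hV.preimage i.liftCoborder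
    rw [hpre, hO] at this
    rwa [hb]
  refine ⟨U, hU, a, φ g, hφ g hg, hb ▸ hxg, haff', fun c => ?_⟩
  obtain ⟨c', hc'⟩ := hsurj (AModX.resR hb.ge c)
  obtain ⟨k, H, hH, e⟩ := hs c'
  refine ⟨k, φ H, hφ H hH, ?_⟩
  have e2 := congrArg (fun t => AModX.resR hb.le (i.app (P.basicOpen g) t)) e
  rw [map_mul, map_pow, map_mul, map_pow, hc', AModX.resR_resR] at e2
  have key : ∀ T : Γ(P, AmpleX.locus (sg σ a)), AModX.resR hb.le (i.app (P.basicOpen g) (AModX.resR (P.basicOpen_le g) T)) =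
      AModX.resR (X.basicOpen_le (φ g)) (φ T) := fun T => by
    show (P.presheaf.map _ ≫ i.app _ ≫ X.presheaf.map _) T = (i.appLE _ _ _ ≫ X.presheaf.map _) T
    rw [Scheme.Hom.appLE_map, Scheme.Hom.naturality_assoc, ← Functor.map_comp]
    rfl
  rw [key, key] at e2
  rw [show AModX.resR _ c = c from AModX.resR_self c] at e2
  exact e2

section twist

variable {𝒮 : RelProj.QCGrAlg S} {j : E ⟶ 𝒮.toModule} {P : Scheme.{u}} {p : P ⟶ S}
  {chart : ∀ (U : S.Opens) (hU : IsAffineOpen U), (((p ⁻¹ᵁ U : P.Opens) : Scheme.{u}) ≅ Proj (𝒮.deg U hU))}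
  {O1 : P.Modules}
  {lam : ∀ (U : S.Opens) (hU : IsAffineOpen U),
    O1 ⟶ (Scheme.Modules.pushforward (RelProj.emb p chart U hU)).obj (GrTwist.twist (𝒮.deg U hU) 1)}

theorem immAt_twist (hE : Coh.IsQCoh E) (hS : RelProj.IsGrSymAlg E 𝒮 j) (hP : RelProj.IsRelProj 𝒮 p chart)
    (hO1 : RelProj.IsRelTwist 𝒮 p chart 1 O1 lam) {σ : E ⟶ (Scheme.Modules.pushforward p).obj O1}
    (hσ : IsTwistMap hS lam σ) (y : P) : ImmAt σ y := by
  obtain ⟨_, ⟨U, hU, rfl⟩, hyU, -⟩ := S.isBasis_affineOpens.exists_subset_of_mem_open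
    (Set.mem_univ (p y)) isOpen_univ
  let 𝒜 := 𝒮.deg U hU
  let em := RelProj.emb p chart U hU
  have hrange : em ''ᵁ ⊤ = p ⁻¹ᵁ U := by
    rw [Scheme.Hom.image_top_eq_opensRange, RelTildeX.opensRange_emb]
  obtain ⟨z, hz⟩ : y ∈ em.opensRange := by rw [RelTildeX.opensRange_emb]; exact hyU
  have hgen := isGenDegOne_of_isGrSymAlg hE hS
  have hcov : ⨆ a : {a // a ∈ 𝒜 1}, Proj.basicOpen 𝒜 (a : 𝒮.presheaf.obj (op U)) = ⊤ := by
    refine Proj.iSup_basicOpen_eq_top _ _ ?_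
    rw [RelTildeX.irrelevant_eq_span_deg_one hgen U hU, Ideal.span_le]
    exact fun a ha => Ideal.subset_span ⟨⟨a, ha⟩, rfl⟩
  obtain ⟨et, het⟩ := Opens.mem_iSup.1 ((iSup_basicOpen_jsec hE hS hU).ge (trivial : z ∈ (⊤ : (Proj 𝒜).Opens)))
  let t : {a // a ∈ 𝒜 1} := ⟨jsec j et, hS.2 U hU et⟩
  have ht : z ∈ Proj.basicOpen 𝒜 (t : 𝒮.presheaf.obj (op U)) := het
  let e := RelTildeX.twistIso hO1 U hU
  let b : {a // a ∈ 𝒜 1} → Γ(O1, em ''ᵁ ⊤) := fun m => e.symm.hom.app ⊤ (RelTwistX.sec1 𝒜 m.2)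
  let a : Γ(O1, p ⁻¹ᵁ U) := sg σ et
  have hb : ∀ (m : Γ(E, U)), sg σ m = AModX.res O1 hrange.ge (b ⟨jsec j m, hS.2 U hU m⟩) := fun m => by
    refine (hO1.bijective U hU _ le_rfl).1 ?_
    rw [show (lam U hU).app (p ⁻¹ᵁ U) (sg σ m) = _ from hσ U hU m]
    exact (twist_lam hO1 hU hrange _).symm
  let D := Proj.basicOpen 𝒜 (t : 𝒮.presheaf.obj (op U))
  have hloc : AmpleX.locus a = em ''ᵁ D := by
    show AmpleX.locus (sg σ et) = _
    rw [hb et, AmpleX.locus_res, inf_eq_left.2 ((AmpleX.locus_le _).trans hrange.le), ← AmpleX.image_locus em (b t),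
      AmpleX.locus_iso e.symm]
    congr 1
    have h1 := RelTwistX.genLocus_sec1 𝒜 _ (fun m : {a // a ∈ 𝒜 1} => m.2) hcov t.2
    rw [AmpleX.genLocus_eq_locus, InvX.one_ofSect] at h1
    exact h1
  let ψ : Γ(Proj 𝒜, D) →+* Γ(P, AmpleX.locus a) :=
    (AModX.resR hloc.le).comp (em.appIso D).inv.hom
  have hψsurj : Function.Surjective ψ := fun c => by
    refine ⟨(em.appIso D).hom (AModX.resR hloc.ge c), ?_⟩
    show AModX.resR hloc.le ((em.appIso D).inv ((em.appIso D).hom _)) = c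
    rw [Iso.hom_inv_id_apply, AModX.resR_resR, AModX.resR_self]
  have htop : secFns σ et = ⊤ := by
    refine top_le_iff.1 fun c _ => ?_
    obtain ⟨w, rfl⟩ := hψsurj c
    haveI : IsIso (Proj.awayToSection 𝒜 (t : 𝒮.presheaf.obj (op U))) := by
      rw [← Proj.basicOpenIsoAway_hom 𝒜 (t : 𝒮.presheaf.obj (op U)) t.2 one_pos]
      infer_instance
    obtain ⟨v, rfl⟩ := (ConcreteCategory.bijective_of_isIso (Proj.awayToSection 𝒜 (t : 𝒮.presheaf.obj (op U)))).2 w
    let θ := (Proj.awayToSection 𝒜 (t : 𝒮.presheaf.obj (op U))).hom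
    have hv : v ∈ Subring.closure _ := (closure_away 𝒜 (𝒮.strZero U hU).hom (closure_str_deg1 hE hS U hU) t.2).symm ▸
      Subring.mem_top v
    refine (Subring.closure_le (t := (secFns σ et).comap (ψ.comp θ))).2 ?_ hv
    rintro v (⟨r, rfl⟩ | ⟨m, rfl⟩)
    · refine Subring.subset_closure (Or.inl ⟨r, ?_⟩)
      have h1 := toSpecZero_appLE 𝒜 (𝒮.strZero U hU) t.2 one_pos r
      show _ = AModX.resR hloc.le ((em.appIso D).inv (θ (fromZeroRingHom 𝒜 _ _)))
      rw [show θ (fromZeroRingHom 𝒜 _ _) = _ from h1.symm]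
      apply (ConcreteCategory.bijective_of_isIso (P.presheaf.map (eqToHom hloc.symm).op)).1
      apply (ConcreteCategory.bijective_of_isIso (em.appIso D).hom).1
      have h2 : ∀ u : Γ(P, em ''ᵁ D), P.presheaf.map (eqToHom hloc.symm).op (AModX.resR hloc.le u) = u := fun u => by
        show AModX.resR hloc.ge (AModX.resR hloc.le u) = u
        rw [AModX.resR_resR, AModX.resR_self]
      rw [h2, Iso.inv_hom_id_apply]
      show (p.appLE _ _ _ ≫ P.presheaf.map _ ≫ (em.appIso D).hom) r = _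
      rw [Scheme.Hom.appLE_map_assoc, Scheme.Hom.appIso_hom', Scheme.Hom.appLE_comp_appLE,
        ← fromSpec_appLE hU hU.fromSpec_preimage_self.ge, ← CommRingCat.comp_apply, Scheme.Hom.appLE_comp_appLE]
      simp only [show em ≫ p = _ from emb_comp hP U hU]
      rfl
    · obtain ⟨em', hem'⟩ := exists_jsec_eq hE hS hU m.2
      have hm' : (⟨jsec j em', hS.2 U hU em'⟩ : {a // a ∈ 𝒜 1}) = ⟨m.1, m.2⟩ := Subtype.ext hem'
      refine Subring.subset_closure (Or.inr ⟨em', ?_⟩)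
      refine (congrArg (AModX.res O1 _) (hb em')).trans ?_
      rw [hm']
      refine Eq.trans ?_ (congrArg (_ • ·) (congrArg (AModX.res O1 _) (hb et))).symm
      let co : Γ(Proj 𝒜, D) := θ (Away.mk 𝒜 t.2 1 (m : 𝒮.presheaf.obj (op U)) (by rw [one_smul]; exact m.2))
      have h1 : AModX.res (GrTwist.twist 𝒜 1) (le_top : D ≤ ⊤) (RelTwistX.sec1 𝒜 m.2) =
          co • AModX.res (GrTwist.twist 𝒜 1) (le_top : D ≤ ⊤) (RelTwistX.sec1 𝒜 t.2) := by
        refine RelTwistX.val_ext fun y => ?_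
        refine Eq.trans ?_ (GrTwist.coe_smul_val (1 : ℤ) y.1 _ _).symm
        refine (RelTwistX.val_sec1 𝒜 m.2 D y).trans ?_
        show _ = (GrModX.oval 𝒜 co y).val * _
        rw [GrModX.oval_awayToSection]
        refine Eq.trans ?_ (congrArg _ (RelTwistX.val_sec1 𝒜 t.2 D y)).symm
        rw [Localization.mk_mul, Localization.mk_eq_mk_iff, Localization.r_iff_exists]
        exact ⟨1, by simp only [Submonoid.coe_mul, Submonoid.coe_one, one_mul, mul_one, pow_one]; exact mul_comm _ _⟩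
      have h3 := congrArg (e.symm.hom.app D) h1
      rw [Scheme.Modules.Hom.app_smul, AModX.app_res, AModX.app_res] at h3
      have h4 : AModX.res O1 (em.image_mono (le_top : D ≤ ⊤)) (b m) =
          (em.appIso D).inv co • AModX.res O1 (em.image_mono (le_top : D ≤ ⊤)) (b t) := h3
      have h5 := congrArg (AModX.res O1 hloc.le) h4
      rw [AModX.res_smul, AModX.res_res, AModX.res_res] at h5
      show _ = AModX.resR hloc.le ((em.appIso D).inv co) • AModX.res O1 _ (AModX.res O1 hrange.ge (b t))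
      rw [AModX.res_res, AModX.res_res]
      exact h5
  refine ⟨U, hU, et, 1, htop.ge trivial, ?_, ?_, fun c => ⟨0, AModX.resR (X := P) ?_ c, htop.ge trivial, ?_⟩⟩
  · rw [P.basicOpen_of_isUnit isUnit_one, hloc, ← hz]
    exact ⟨z, ht, rfl⟩
  · rw [P.basicOpen_of_isUnit isUnit_one, hloc]
    exact (Proj.isAffineOpen_basicOpen 𝒜 _ t.2 one_pos).image_of_isOpenImmersion em
  · rw [P.basicOpen_of_isUnit isUnit_one]
  · rw [pow_zero, mul_one, AModX.resR_resR, AModX.resR_self]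

end twist

end Groth.Agent.VeryAmpleX.Sig
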