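import Groth.Prelude.Def_RelProj2
import Groth.Agent.ExtPowSh.Loc
import Groth.Agent.QCoh.Tilde
import Groth.Agent.QCoh.Extension
import Groth.Agent.QCoh.AlgGen

/-!
# The degree one part of a quasi-coherent graded algebra as a module
-/

noncomputable section

universe u

open CategoryTheory CategoryTheory.Limits AlgebraicGeometry TopologicalSpace Opposite

set_option backward.isDefEq.respectTransparency false
set_option backward.isDefEq.respectTransparency.types false
set_option linter.style.haveILetI false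

namespace Groth.Agent.VeryAmpleX

open Groth.Agent

variable {S : Scheme.{u}}

/-- A section killed by a morphism comes from its kernel. -/
theorem exists_app_kernel_ι {M N : S.Modules} (φ : M ⟶ N) (U : S.Opens) (x : Γ(M, U)) (hx : φ.app U x = 0) :
    ∃ a, (kernel.ι φ).app U a = x := by
  let C := ShortComplex.mk (kernel.ι φ) (cokernel.π (kernel.ι φ)) (cokernel.condition _)
  have hC : C.ShortExact :=
    { exact := ShortComplex.exact_cokernel _, mono_f := inferInstance, epi_g := inferInstance }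
  refine QCoh.exists_app_f_eq hC U x ?_
  refine QCoh.app_injective (Abelian.factorThruCoimage φ) U ?_
  rw [map_zero]
  have h := congrArg (fun t : M ⟶ N => t.app U x) (Abelian.coimage.fac φ)
  exact h.trans hx

variable (𝒮 : RelProj.QCGrAlg S)

theorem decompose_map {U V : S.Opens} (hU : IsAffineOpen U) (hV : IsAffineOpen V) (i : V ≤ U) (n : ℕ)
    (x : 𝒮.presheaf.obj (op U)) :
    (𝒮.presheaf.map (homOfLE i).op).hom (DirectSum.decompose (𝒮.deg U hU) x n : 𝒮.presheaf.obj (op U)) =
      (DirectSum.decompose (𝒮.deg V hV) ((𝒮.presheaf.map (homOfLE i).op).hom x) n : 𝒮.presheaf.obj (op V)) :=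
  GradedRingHom.map_directSumDecompose (𝒜 := 𝒮.deg U hU) (ℬ := 𝒮.deg V hV) (𝒮.res hU hV i)

theorem exists_degProj : ∃ π : 𝒮.toModule ⟶ 𝒮.toModule, ∀ (U : S.Opens) (hU : IsAffineOpen U)
    (x : 𝒮.presheaf.obj (op U)),
      (show 𝒮.presheaf.obj (op U) from π.val.app (op U) x) =
        (DirectSum.decompose (𝒮.deg U hU) x 1 : 𝒮.presheaf.obj (op U)) := by
  obtain ⟨π, hπ⟩ := ExtPowSh.exists_hom_of_affine (M := 𝒮.toModule) (N := 𝒮.toModule)
    (fun U =>
      { toFun := fun x => (DirectSum.decompose (𝒮.deg U.1 U.2) (show 𝒮.presheaf.obj (op U.1) from x) 1 :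
          𝒮.presheaf.obj (op U.1))
        map_add' := fun a b => by
          show (DirectSum.decompose (𝒮.deg U.1 U.2)
            ((show 𝒮.presheaf.obj (op U.1) from a) + (show 𝒮.presheaf.obj (op U.1) from b)) 1 :
              𝒮.presheaf.obj (op U.1)) = (_ : 𝒮.presheaf.obj (op U.1)) + (_ : 𝒮.presheaf.obj (op U.1))
          rw [DirectSum.decompose_add]
          rfl
        map_smul' := fun c a => by
          show (DirectSum.decompose (𝒮.deg U.1 U.2)
            ((𝒮.str.app (op U.1)).hom c * (show 𝒮.presheaf.obj (op U.1) from a)) (0 + 1) :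
              𝒮.presheaf.obj (op U.1)) = (𝒮.str.app (op U.1)).hom c * _
          rw [DirectSum.coe_decompose_mul_add_of_left_mem (𝒮.deg U.1 U.2) (𝒮.str_mem U.1 U.2 c)] })
    (fun U V h s => decompose_map 𝒮 U.2 V.2 h 1 s)
  exact ⟨π, fun U hU x => hπ ⟨U, hU⟩ x⟩

/-- The projection to degree one. -/
def degProj : 𝒮.toModule ⟶ 𝒮.toModule := (exists_degProj 𝒮).choose

/-- The degree one part, as a module. -/
def degOne : S.Modules := kernel (𝟙 𝒮.toModule - degProj 𝒮)

/-- Its inclusion. -/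
def degOneι : degOne 𝒮 ⟶ 𝒮.toModule := kernel.ι _

theorem isQCoh_degOne : Coh.IsQCoh (degOne 𝒮) :=
  QCoh.isQCoh_kernel (QCoh.isQCoh_toModule _) (QCoh.isQCoh_toModule _) _

theorem degOneι_mem (U : S.Opens) (hU : IsAffineOpen U) (x : Γ(degOne 𝒮, U)) :
    (show 𝒮.presheaf.obj (op U) from (degOneι 𝒮).app U x) ∈ 𝒮.deg U hU 1 := by
  have h : (𝟙 𝒮.toModule - degProj 𝒮).app U ((degOneι 𝒮).app U x) = 0 :=
    congr(($(kernel.condition (𝟙 𝒮.toModule - degProj 𝒮))).app U x)
  change (degOneι 𝒮).app U x - (degProj 𝒮).app U ((degOneι 𝒮).app U x) = 0 at h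
  have h2 := sub_eq_zero.1 h
  rw [show (show 𝒮.presheaf.obj (op U) from (degOneι 𝒮).app U x) =
    (show 𝒮.presheaf.obj (op U) from (degProj 𝒮).val.app (op U) ((degOneι 𝒮).app U x)) from h2]
  rw [show degProj 𝒮 = (exists_degProj 𝒮).choose from rfl, (exists_degProj 𝒮).choose_spec U hU]
  exact SetLike.coe_mem _

theorem exists_degOne_eq (U : S.Opens) (hU : IsAffineOpen U) (y : 𝒮.presheaf.obj (op U))
    (hy : y ∈ 𝒮.deg U hU 1) :
    ∃ x : Γ(degOne 𝒮, U), (show 𝒮.presheaf.obj (op U) from (degOneι 𝒮).app U x) = y := by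
  refine exists_app_kernel_ι (𝟙 𝒮.toModule - degProj 𝒮) U (show Γ(𝒮.toModule, U) from y) ?_
  show (show Γ(𝒮.toModule, U) from y) - (degProj 𝒮).app U (show Γ(𝒮.toModule, U) from y) = 0
  rw [sub_eq_zero]
  show y = (show 𝒮.presheaf.obj (op U) from (exists_degProj 𝒮).choose.val.app (op U) y)
  rw [(exists_degProj 𝒮).choose_spec U hU, DirectSum.decompose_of_mem_same _ hy]

end Groth.Agent.VeryAmpleX
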