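import Groth.Agent.VeryAmpleX.ToBundle
import Groth.Agent.VeryAmpleX.BaseFun

/-!
# The projective bundle of an invertible module
-/

noncomputable section

universe u

open CategoryTheory CategoryTheory.Limits AlgebraicGeometry TopologicalSpace Opposite HomogeneousLocalization
open scoped HomogeneousIdeal

set_option backward.isDefEq.respectTransparency false
set_option backward.isDefEq.respectTransparency.types false
set_option linter.style.haveILetI false

namespace Groth.Agent.VeryAmpleX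

open Groth.Agent

variable {Y P : Scheme.{u}} {L : Y.Modules} {A : RelSpec.QCAlg Y} {j : L ⟶ A.toModule}

/-- An affine open on which `L` has a frame. -/
abbrev Triv (L : Y.Modules) : Type u :=
  Σ U : Y.affineOpens, {e : Γ(L, U.1) // InvX.IsFrame e}

theorem exists_triv (hL : PicF.IsInvertible L) (y : Y) : ∃ a : Triv L, y ∈ a.1.1 := by
  obtain ⟨V, hyV, e, he⟩ := InvX.exists_frame hL y
  obtain ⟨W, hW, hyW, hle⟩ := exists_isAffineOpen_mem_and_subset hyV
  exact ⟨⟨⟨W, hW⟩, AModX.res L hle e, he.res hle⟩, hyW⟩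

variable (hE : Coh.IsQCoh L) (hA : RelSpec.IsSymAlg L A j)

/-- The degree one element of a frame. -/
abbrev lineGen (a : Triv L) : (grSym hE A j hA).presheaf.obj (op a.1.1) := jLin j a.1.1 a.2.1

theorem lineGen_mem (a : Triv L) : lineGen hE hA a ∈ (grSym hE A j hA).deg a.1.1 a.1.2 1 :=
  (isGrSymAlg_grSym hE A j hA).2 a.1.1 a.1.2 a.2.1

theorem jLin_smul (U : Y.Opens) (c : Γ(Y, U)) (m : Γ(L, U)) :
    (show (grSym hE A j hA).presheaf.obj (op U) from jLin j U (c • m)) =
      ((grSym hE A j hA).str.app (op U)).hom c * (show (grSym hE A j hA).presheaf.obj (op U) from jLin j U m) :=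
  (j.val.app (op U)).hom.map_smul c m

theorem exists_coord_deg (a : Triv L) (d : ℕ) (x : (grSym hE A j hA).presheaf.obj (op a.1.1))
    (hx : x ∈ (grSym hE A j hA).deg a.1.1 a.1.2 d) :
    ∃ c : Γ(Y, a.1.1), x = ((grSym hE A j hA).str.app (op a.1.1)).hom c * lineGen hE hA a ^ d := by
  letI := secAlg A a.1.1
  change x ∈ (LinearMap.range (jLin j a.1.1)) ^ d at hx
  induction hx using Submodule.pow_induction_on_left' with
  | algebraMap r => exact ⟨r, by rw [pow_zero, mul_one]; rfl⟩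
  | add x y n _ _ ihx ihy =>
    obtain ⟨c, rfl⟩ := ihx
    obtain ⟨c', rfl⟩ := ihy
    exact ⟨c + c', by rw [map_add, add_mul]⟩
  | mem_mul m hm n x _ ih =>
    obtain ⟨m, rfl⟩ := hm
    obtain ⟨c, rfl⟩ := ih
    obtain ⟨c', hc'⟩ := a.2.2.exists_coord le_rfl (show Γ(L, a.1.1) from m)
    rw [AModX.res_self] at hc'
    refine ⟨c' * c, ?_⟩
    have hmj : (show (grSym hE A j hA).presheaf.obj (op a.1.1) from jLin j a.1.1 m) =
        ((grSym hE A j hA).str.app (op a.1.1)).hom c' * lineGen hE hA a :=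
      (congrArg (fun z : Γ(L, a.1.1) => (show (grSym hE A j hA).presheaf.obj (op a.1.1) from jLin j a.1.1 z))
        hc').trans (jLin_smul hE hA a.1.1 c' a.2.1)
    refine Eq.trans (congrArg (fun z => z * (((grSym hE A j hA).str.app (op a.1.1)).hom c * lineGen hE hA a ^ n)) hmj) ?_
    rw [map_mul, pow_succ]
    ring

include hE hA in
theorem exists_retraction (a : Triv L) :
    ∃ F : (grSym hE A j hA).presheaf.obj (op a.1.1) →+* Γ(Y, a.1.1),
      (∀ c, F (((grSym hE A j hA).str.app (op a.1.1)).hom c) = c) ∧ F (lineGen hE hA a) = 1 := by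
  letI := secAlg A a.1.1
  have hco : ∀ m : Γ(L, a.1.1), ∃ c : Γ(Y, a.1.1), m = c • a.2.1 := fun m => by
    obtain ⟨c, hc⟩ := a.2.2.exists_coord le_rfl m
    rw [AModX.res_self] at hc
    exact ⟨c, hc⟩
  choose co hco using hco
  have huniq : ∀ c c' : Γ(Y, a.1.1), c • a.2.1 = c' • a.2.1 → c = c' := fun c c' h =>
    a.2.2.coord_unique le_rfl (by rw [AModX.res_self]; exact h)
  let lin : L.val.obj (op a.1.1) →ₗ[Γ(Y, a.1.1)] Γ(Y, a.1.1) :=
    { toFun := fun m => co m
      map_add' := fun m n => huniq _ _ (by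
        refine (hco (show Γ(L, a.1.1) from m + n)).symm.trans ?_
        rw [add_smul, ← hco, ← hco])
      map_smul' := fun r m => huniq _ _ (by
        refine (hco (show Γ(L, a.1.1) from r • m)).symm.trans ?_
        show _ = (r * co m) • a.2.1
        rw [mul_smul, ← hco]) }
  refine ⟨((isSymmetricAlgebra_jLin hE hA a.1.2).lift lin).toRingHom, fun c => ?_, ?_⟩
  · exact ((isSymmetricAlgebra_jLin hE hA a.1.2).lift lin).commutes c
  · show (isSymmetricAlgebra_jLin hE hA a.1.2).lift lin (jLin j a.1.1 a.2.1) = 1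
    rw [IsSymmetricAlgebra.lift_eq]
    exact huniq _ _ ((hco a.2.1).symm.trans (one_smul _ _).symm)

theorem basicOpen_lineGen (a : Triv L) :
    Proj.basicOpen ((grSym hE A j hA).deg a.1.1 a.1.2) (lineGen hE hA a) = ⊤ := by
  refine top_unique fun y _ hy => y.not_irrelevant_le ?_
  show (((grSym hE A j hA).deg a.1.1 a.1.2)₊).toIdeal ≤ y.asHomogeneousIdeal.toIdeal
  rw [RelTildeX.irrelevant_eq_span_deg_one
    (isGenDegOne_of_isGrSymAlg hE (isGrSymAlg_grSym hE A j hA)) a.1.1 a.1.2, Ideal.span_le]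
  intro x hx
  obtain ⟨c, rfl⟩ := exists_coord_deg hE hA a 1 x hx
  rw [pow_one]
  exact Ideal.mul_mem_left _ _ hy

theorem isIso_toSpecZero (a : Triv L) :
    IsIso (Proj.toSpecZero ((grSym hE A j hA).deg a.1.1 a.1.2) ≫
      Spec.map ((grSym hE A j hA).strZero a.1.1 a.1.2)) := by
  let 𝒜 := (grSym hE A j hA).deg a.1.1 a.1.2
  let g := lineGen hE hA a
  have hg : g ∈ 𝒜 1 := lineGen_mem hE hA a
  haveI : Epi (Proj.awayι 𝒜 g hg one_pos).base := by
    rw [TopCat.epi_iff_surjective]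
    intro y
    have : y ∈ (Proj.awayι 𝒜 g hg one_pos).opensRange := by
      rw [Proj.opensRange_awayι, basicOpen_lineGen hE hA a]
      trivial
    exact this
  haveI : IsIso (Proj.awayι 𝒜 g hg one_pos) := AlgebraicGeometry.IsOpenImmersion.isIso _
  let φ : CommRingCat.of Γ(Y, a.1.1) ⟶ CommRingCat.of (Away 𝒜 g) :=
    (grSym hE A j hA).strZero a.1.1 a.1.2 ≫ CommRingCat.ofHom (fromZeroRingHom 𝒜 _)
  haveI : IsIso φ := by
    rw [ConcreteCategory.isIso_iff_bijective]
    obtain ⟨F, hF, hFg⟩ := exists_retraction hE hA a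
    have hφ : ∀ c, (φ.hom c).val =
        Localization.mk (((grSym hE A j hA).str.app (op a.1.1)).hom c) (1 : Submonoid.powers g) := fun c => rfl
    refine ⟨fun c c' h => ?_, fun x => ?_⟩
    · have h1 := congrArg HomogeneousLocalization.val h
      rw [hφ, hφ, Localization.mk_eq_mk_iff, Localization.r_iff_exists] at h1
      obtain ⟨⟨_, k, rfl⟩, hk⟩ := h1
      have h2 := congrArg F hk
      simpa [map_mul, map_pow, hF, hFg, g] using h2
    · obtain ⟨n, x, hx, rfl⟩ := Away.mk_surjective 𝒜 hg x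
      obtain ⟨c, hc⟩ := exists_coord_deg hE hA a (n • 1) x hx
      refine ⟨c, HomogeneousLocalization.val_injective _ ?_⟩
      rw [hφ, Away.val_mk, Localization.mk_eq_mk_iff, Localization.r_iff_exists]
      refine ⟨1, ?_⟩
      simp [hc, g, mul_comm]
  have h : Proj.awayι 𝒜 g hg one_pos ≫ Proj.toSpecZero 𝒜 ≫ Spec.map ((grSym hE A j hA).strZero a.1.1 a.1.2) =
      Spec.map φ := by
    rw [Proj.awayι_toSpecZero_assoc, ← Spec.map_comp]
  exact IsIso.of_isIso_fac_left h

variable {p : P ⟶ Y}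
  {chart : ∀ (U : Y.Opens) (hU : IsAffineOpen U),
    (((p ⁻¹ᵁ U : P.Opens) : Scheme.{u}) ≅ Proj ((grSym hE A j hA).deg U hU))}
  (hP : RelProj.IsRelProj (grSym hE A j hA) p chart)

include hP

theorem isIso_p (hL : PicF.IsInvertible L) : IsIso p := by
  refine (IsZariskiLocalAtTarget.iff_of_iSup_eq_top (P := MorphismProperty.isomorphisms Scheme.{u})
    (fun a : Triv L => a.1.1) (top_unique fun y _ => Opens.mem_iSup.2 (exists_triv hL y))).2 fun a => ?_
  haveI := isIso_toSpecZero hE hA a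
  haveI : IsIso (Proj16.toOpen (grSym hE A j hA) a.1.1 a.1.2) := by
    rw [Proj16.toOpen, ← Category.assoc]
    infer_instance
  have h : p ∣_ a.1.1 = (chart a.1.1 a.1.2).hom ≫ Proj16.toOpen (grSym hE A j hA) a.1.1 a.1.2 := by
    rw [← cancel_mono a.1.1.ι, morphismRestrict_ι, Category.assoc, Proj16.toOpen_ι]
    exact (hP.chart_over a.1.1 a.1.2).symm
  rw [MorphismProperty.isomorphisms.iff, h]
  infer_instance

theorem nonempty_pullback_iso_twist (hL : PicF.IsInvertible L) {O1 : P.Modules}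
    {lam : ∀ (U : Y.Opens) (hU : IsAffineOpen U), O1 ⟶
      (Scheme.Modules.pushforward (RelProj.emb p chart U hU)).obj (GrTwist.twist ((grSym hE A j hA).deg U hU) 1)}
    (hO1 : RelProj.IsRelTwist (grSym hE A j hA) p chart 1 O1 lam) :
    Nonempty ((Scheme.Modules.pullback p).obj L ≅ O1) := by
  have hnv : ∀ (a : Triv L) (y : Proj ((grSym hE A j hA).deg a.1.1 a.1.2)),
      lineGen hE hA a ∉ y.asHomogeneousIdeal := fun a y => (basicOpen_lineGen hE hA a).ge (Opens.mem_top y)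
  choose s hs hsv using fun a : Triv L => RelTwistX.exists_frame_deg_one hP hO1 a.1.2
    (le_refl (p ⁻¹ᵁ a.1.1)) (lineGen_mem hE hA a) (fun w => hnv a w.1)
  refine RelTwistX.nonempty_pullback_iso p (fun a : Triv L => a.1.1) (exists_triv hL) (fun a => a.2.1)
    (fun a => a.2.2) s hs fun a b c hc => ?_
  refine AModX.eq_of_locally _ _ fun x hx => ?_
  obtain ⟨D, hD, ga, gb, hxD⟩ := RelTwistX.exists_good a.1.2 b.1.2 (x := p x) hx.1 hx.2
  refine ⟨p ⁻¹ᵁ (a.1.1 ⊓ b.1.1) ⊓ p ⁻¹ᵁ D, inf_le_left, ⟨hx, hxD⟩,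
    (hO1.bijective D hD _ inf_le_right).1 (RelTwistX.val_ext fun w => ?_)⟩
  have hna : (grSym hE A j hA).res a.1.2 hD ga.le (lineGen hE hA a) ∉ w.1.asHomogeneousIdeal :=
    hnv a (ProjectiveSpectrum.comap _ (ga.irr a.1.2 hD) w.1)
  have hnb : (grSym hE A j hA).res b.1.2 hD gb.le (lineGen hE hA b) ∉ w.1.asHomogeneousIdeal :=
    hnv b (ProjectiveSpectrum.comap _ (gb.irr b.1.2 hD) w.1)
  have hle : D ≤ a.1.1 ⊓ b.1.1 := le_inf ga.le gb.le
  have hgen : (grSym hE A j hA).res b.1.2 hD gb.le (lineGen hE hA b) =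
      ((grSym hE A j hA).str.app (op D)).hom (AModX.resR hle c) * (grSym hE A j hA).res a.1.2 hD ga.le (lineGen hE hA a) := by
    show (A.presheaf.map (homOfLE gb.le).op).hom (jLin j _ _) =
      _ * (A.presheaf.map (homOfLE ga.le).op).hom (jLin j _ _)
    rw [jLin_res, jLin_res]
    refine Eq.trans ?_ (jLin_smul hE hA D _ _)
    refine congrArg (jLin j D) ?_
    have h := congrArg (AModX.res L hle) hc
    rw [AModX.res_smul, AModX.res_res, AModX.res_res] at h
    exact h
  rw [AModX.res_smul, AModX.res_res, AModX.res_res, RelTwistX.val_smul_sc hD (lam D hD),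
    hsv b D hD gb _ _ w hnb, hsv a D hD ga _ _ w hna]
  have hsc : RelTwistX.sc chart hD (AModX.resR (inf_le_left : p ⁻¹ᵁ (a.1.1 ⊓ b.1.1) ⊓ p ⁻¹ᵁ D ≤ _)
      (p.app (a.1.1 ⊓ b.1.1) c)) w = algebraMap _ _ (((grSym hE A j hA).str.app (op D)).hom (AModX.resR hle c)) := by
    have e : AModX.resR (inf_le_left : p ⁻¹ᵁ (a.1.1 ⊓ b.1.1) ⊓ p ⁻¹ᵁ D ≤ _) (p.app (a.1.1 ⊓ b.1.1) c) =
        AModX.resR (inf_le_right : p ⁻¹ᵁ (a.1.1 ⊓ b.1.1) ⊓ p ⁻¹ᵁ D ≤ p ⁻¹ᵁ D) (p.app D (AModX.resR hle c)) := by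
      show P.presheaf.map _ (p.app _ c) = P.presheaf.map _ (p.app D (Y.presheaf.map (homOfLE hle).op c))
      rw [← CommRingCat.comp_apply (Y.presheaf.map (homOfLE hle).op) (p.app D), p.naturality,
        CommRingCat.comp_apply, ← CommRingCat.comp_apply (P.presheaf.map _) (P.presheaf.map _),
        ← P.presheaf.map_comp]
      rfl
    rw [e, RelTwistX.sc_res hD]
    exact sc_base hP hD _ ((grSym hE A j hA).map_mem a.1.2 hD ga.le (lineGen_mem hE hA a)) one_pos
      ⟨w.1, _⟩ hna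
  rw [hsc, RelTwistX.zVal_congr hgen hnb (hgen ▸ hnb) 1, RelTwistX.zVal, RelTwistX.zVal,
    ← Localization.mk_one_eq_algebraMap, Localization.mk_mul, Localization.mk_eq_mk_iff,
    Localization.r_iff_exists]
  exact ⟨1, by simp [mul_comm]⟩

omit hP

theorem isRelVeryAmple_id (hL : PicF.IsInvertible L) : RelProj.IsRelVeryAmple (𝟙 Y) L := by
  have hE := ProjUPX.isQCoh_of_isInvertible hL
  have hA := SymSh.isSymAlg L hE
  obtain ⟨P, p, chart, hP⟩ := Proj16.exists_isRelProj (grSym hE _ _ hA)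
  haveI := isIso_p hE hA hP hL
  have hO := RelTwistX.isRelTwist (n := (1 : ℤ)) hP
  obtain ⟨e⟩ := nonempty_pullback_iso_twist hE hA hP hL hO
  refine ⟨L, hE, _, _, isGrSymAlg_grSym hE _ _ hA, P, p, chart, hP, _, _, hO, inv p, inferInstance,
    IsIso.inv_hom_id p, ⟨?_⟩⟩
  exact ((Scheme.Modules.pullbackId Y).app L).symm ≪≫
    (Scheme.Modules.pullbackCongr (IsIso.inv_hom_id p)).symm.app L ≪≫
    ((Scheme.Modules.pullbackComp (inv p) p).app L).symm ≪≫ (Scheme.Modules.pullback (inv p)).mapIso e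

end Groth.Agent.VeryAmpleX
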