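import Groth.Agent.VeryAmpleX.CompSect
import Groth.Agent.VeryAmpleX.CriterionPn
import Groth.Agent.AmpleX.Rel

/-!
# Composites of very ample modules
-/

noncomputable section

universe u

open CategoryTheory CategoryTheory.Limits AlgebraicGeometry TopologicalSpace Opposite

set_option backward.isDefEq.respectTransparency false
set_option backward.isDefEq.respectTransparency.types false
set_option linter.style.haveILetI false
set_option linter.unusedSectionVars false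
set_option maxHeartbeats 800000

namespace Groth.Agent.VeryAmpleX

open Groth.Agent
open Groth.Agent.H23.PicMul

variable {X Y Z : Scheme.{u}}

theorem eventually_immAt_comp_affine [QuasiSeparatedSpace X] [CompactSpace X] (f : X ⟶ Y)
    [LocallyOfFiniteType f] (g : Y ⟶ Z) [QuasiCompact (f ≫ g)] {L : X.Modules} (hL : PicF.IsInvertible L)
    {K : Y.Modules} (hK : PicF.IsInvertible K) (hf : ∀ x, ImmAt f L x) (hg : ∀ y, ImmAt g K y) :
    ∃ n₀ : ℕ, ∀ n, n₀ ≤ n → ∀ x : X,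
      ImmAt (f ≫ g) (CohB1.tensorMod L ((Scheme.Modules.pullback f).obj (CohB1.tensorPow K n))) x := by
  let P := (Scheme.Modules.pullback f).obj K
  have hP : PicF.IsInvertible P := PicClLib.isInvertible_pullback f hK
  choose n B U s hxB hBs hB using fun x => ImmAt.exists_comp f g hL hK (hf x) (hg (f x))
  obtain ⟨t, ht⟩ := isCompact_univ.elim_finite_subcover (fun x => (B x : Set X)) (fun x => (B x).2)
    (fun x _ => Set.mem_iUnion.2 ⟨x, hxB x⟩)
  refine ⟨t.sup n + 1, fun m hm x => ?_⟩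
  obtain ⟨z, hz, hxz⟩ := Set.mem_iUnion₂.1 (ht (Set.mem_univ x))
  obtain ⟨k, rfl⟩ := Nat.exists_eq_add_of_le
    (le_trans (Nat.add_le_add_right (Finset.le_sup hz) 1) hm : n z + 1 ≤ m)
  have hxs : x ∈ AmpleX.locus (AmpleX.powElt (s z) k) := by
    refine AmpleX.le_locus _ (AmpleX.locus_le (s z)) ?_ (hBs z hxz)
    rw [AmpleX.res_powElt]
    exact AmpleX.isFrame_powElt (AmpleX.isFrame_res_locus _) k
  have h := (hB z x hxz).tensor
    (InvX.isInvertible_tensorMod (InvX.isInvertible_tensorMod hL (InvX.isInvertible_tensorPow hP _)) hP)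
    (InvX.isInvertible_tensorPow hP k) (AmpleX.powElt (s z) k) hxs
  refine h.of_iso (cl_eq_iff.1 ?_).some
  show _ = PicF.cl (CohB1.tensorMod L _)
  rw [cl_tensor, cl_tensor, cl_tensor, cl_tensor, cl_tensorPow, cl_tensorPow]
  show _ = _ * PicF.pullCl f (PicF.cl (CohB1.tensorPow K (n z + 1 + k)))
  rw [cl_tensorPow, pullCl_pow, pow_add, pow_succ]
  simp only [mul_assoc]
  rfl

/-- For a very ample module relative to `f` and one relative to `g`, high twists are very ample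
relative to the composite. -/
theorem eventually_isRelVeryAmple_comp [CompactSpace Z] (f : X ⟶ Y) [LocallyOfFiniteType f] [QuasiCompact f]
    (g : Y ⟶ Z) [QuasiCompact g] {L : X.Modules} (hLva : RelProj.IsRelVeryAmple f L)
    {K : Y.Modules} (hKva : RelProj.IsRelVeryAmple g K) :
    ∃ n₀ : ℕ, ∀ n, n₀ ≤ n →
      RelProj.IsRelVeryAmple (f ≫ g) (CohB1.tensorMod L ((Scheme.Modules.pullback f).obj (CohB1.tensorPow K n))) := by
  haveI := isSeparated_of_isRelVeryAmple hLva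
  haveI := isSeparated_of_isRelVeryAmple hKva
  have hL := isInvertible_of_isRelVeryAmple hLva
  have hK := isInvertible_of_isRelVeryAmple hKva
  obtain ⟨t, ht⟩ := isCompact_univ.elim_finite_subcover (fun V : Z.affineOpens => (V.1 : Set Z))
    (fun V => V.1.2) (fun z _ => by
      obtain ⟨W, hW, hz, -⟩ := exists_isAffineOpen_mem_and_subset (x := z) (U := (⊤ : Z.Opens)) trivial
      exact Set.mem_iUnion.2 ⟨⟨W, hW⟩, hz⟩)
  have hV : ∀ V : Z.affineOpens, ∃ n₀ : ℕ, ∀ n, n₀ ≤ n → ∀ x,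
      ImmAt ((f ≫ g) ∣_ V.1)
        ((CohB1.tensorMod L ((Scheme.Modules.pullback f).obj (CohB1.tensorPow K n))).restrict
          ((f ≫ g) ⁻¹ᵁ V.1).ι) x := by
    intro V
    haveI : IsAffine V.1.toScheme := V.2
    haveI : CompactSpace ((f ≫ g) ⁻¹ᵁ V.1).toScheme :=
      isCompact_iff_compactSpace.mp ((f ≫ g).isCompact_preimage V.2.isCompact)
    haveI : QuasiSeparatedSpace ((f ≫ g) ⁻¹ᵁ V.1).toScheme :=
      quasiSeparatedSpace_of_quasiSeparated ((f ≫ g) ∣_ V.1)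
    have hcomp : (f ∣_ (g ⁻¹ᵁ V.1)) ≫ (g ∣_ V.1) = (f ≫ g) ∣_ V.1 := (morphismRestrict_comp f g V.1).symm
    haveI : QuasiCompact ((f ∣_ (g ⁻¹ᵁ V.1)) ≫ (g ∣_ V.1)) := by rw [hcomp]; infer_instance
    haveI : CompactSpace (f ⁻¹ᵁ (g ⁻¹ᵁ V.1)).toScheme := ‹CompactSpace ((f ≫ g) ⁻¹ᵁ V.1).toScheme›
    haveI : QuasiSeparatedSpace (f ⁻¹ᵁ (g ⁻¹ᵁ V.1)).toScheme := ‹QuasiSeparatedSpace ((f ≫ g) ⁻¹ᵁ V.1).toScheme›
    obtain ⟨n₀, hn⟩ := eventually_immAt_comp_affine (f ∣_ (g ⁻¹ᵁ V.1)) (g ∣_ V.1)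
      (AmpleX.isInvertible_restrict (f ⁻¹ᵁ (g ⁻¹ᵁ V.1)).ι hL) (AmpleX.isInvertible_restrict (g ⁻¹ᵁ V.1).ι hK)
      (fun x => (immAt_of_isRelVeryAmple hLva _).restrict hL _ x)
      (fun y => (immAt_of_isRelVeryAmple hKva _).restrict hK _ y)
    refine ⟨n₀, fun n h x => ?_⟩
    rw [hcomp] at hn
    refine (hn n h x).of_iso (cl_eq_iff.1 ?_).some
    rw [AmpleX.cl_restrict, cl_tensor, cl_tensor, pullCl_mul, AmpleX.cl_restrict]
    congr 1
    show PicF.pullCl _ (PicF.cl (CohB1.tensorPow (K.restrict _) n)) = PicF.pullCl _ (PicF.pullCl f (PicF.cl _))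
    rw [cl_tensorPow, AmpleX.cl_restrict, cl_tensorPow, pullCl_pow, pullCl_pow, pullCl_pow]
    show PicF.pullCl _ (PicF.pullCl _ _) ^ n = PicF.pullCl (f ⁻¹ᵁ (g ⁻¹ᵁ V.1)).ι (PicF.pullCl f (PicF.cl K)) ^ n
    rw [PicClLib.pullCl_comp, PicClLib.pullCl_comp, morphismRestrict_ι]
  choose n₀ hn₀ using hV
  refine ⟨t.sup n₀, fun n hn => ?_⟩
  refine isRelVeryAmple_of_immAt
    (InvX.isInvertible_tensorMod hL (PicClLib.isInvertible_pullback f (InvX.isInvertible_tensorPow hK n))) ?_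
  refine immAt_of_openCover (fun V : {V // V ∈ t} => V.1.1) (top_le_iff.1 fun z _ => ?_)
    fun V x => hn₀ V.1 n ((Finset.le_sup V.2).trans hn) x
  obtain ⟨V, hV, hz⟩ := Set.mem_iUnion₂.1 (ht (Set.mem_univ z))
  exact Opens.mem_iSup.2 ⟨⟨V, hV⟩, hz⟩

end Groth.Agent.VeryAmpleX
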