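import Groth.Agent.VeryAmpleX.Basic
import Groth.Agent.VeryAmpleX.DegOne
import Groth.Agent.VeryAmpleX.GrSym
import Groth.Agent.Proj16.RelExist
import Groth.Agent.Proj16.RelMap
import Groth.Agent.RelTwistX.Pullback

/-!
# Immersions into a relative Proj give very ample modules
-/

noncomputable section

universe u

open CategoryTheory CategoryTheory.Limits AlgebraicGeometry TopologicalSpace Opposite HomogeneousLocalization
open scoped HomogeneousIdeal
open Groth.Agent.H23.PicMul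

set_option backward.isDefEq.respectTransparency false
set_option backward.isDefEq.respectTransparency.types false
set_option linter.style.haveILetI false

namespace Groth.Agent.VeryAmpleX

open Groth.Agent

section ring

variable {A σ B τ : Type u} [CommRing A] [SetLike σ A] [AddSubgroupClass σ A]
variable [CommRing B] [SetLike τ B] [AddSubgroupClass τ B]
variable {𝒜 : ℕ → σ} [GradedRing 𝒜] {ℬ : ℕ → τ} [GradedRing ℬ]

theorem isClosedImmersion_map_of_posSurj (φ : 𝒜 →+*ᵍ ℬ) (hφ : ℬ₊ ≤ (𝒜₊).map φ)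
    (hs : ∀ b ∈ (ℬ₊).toIdeal, ∃ a, φ a = b) : IsClosedImmersion (Proj.map φ hφ) :=
  Proj16.map_of_away φ hφ fun d s hd hsd => by
    refine IsClosedImmersion.spec_of_surjective _ fun x => ?_
    obtain ⟨n, b, hb, rfl⟩ := x.mk_surjective ℬ (φ.2 hsd)
    have hm : φ s * b ∈ ℬ ((n + 1) • d) := by
      simpa [Nat.succ_mul, add_comm] using SetLike.mul_mem_graded (φ.2 hsd) hb
    obtain ⟨a, ha⟩ := hs _ (HomogeneousIdeal.mem_irrelevant_of_mem _
      (by simp only [smul_eq_mul]; positivity) hm)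
    rw [Proj16.awayMk_succ]
    refine ⟨Away.mk 𝒜 hsd (n + 1) (GradedRing.proj 𝒜 ((n + 1) • d) a) (Proj16.proj_mem 𝒜 _ a), ?_⟩
    show Away.map φ s _ = _
    rw [Away.map_mk]
    refine HomogeneousLocalization.val_injective _ ?_
    rw [Away.val_mk, Away.val_mk]
    refine congrArg (fun t => Localization.mk t _) ?_
    exact (Proj16.proj_map_commutes φ _ a).trans ((congrArg _ ha).trans (Proj16.proj_of_mem ℬ hm))

end ring

variable {Y : Scheme.{u}} (𝒮 : RelProj.QCGrAlg Y)

/-- The symmetric algebra of the degree one part. -/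
def bundleAlg : RelProj.QCGrAlg Y :=
  grSym (isQCoh_degOne 𝒮) _ _ (SymSh.isSymAlg (degOne 𝒮) (isQCoh_degOne 𝒮))

/-- Its generators. -/
def bundleGen : degOne 𝒮 ⟶ (bundleAlg 𝒮).toModule := SymSh.j (degOne 𝒮) (isQCoh_degOne 𝒮)

theorem exists_bundleMap : ∃ ψ : (bundleAlg 𝒮).toQCAlg ⟶ 𝒮.toQCAlg, RelProj.IsGradedHom ψ ∧
    ∀ (U : Y.Opens) (hU : IsAffineOpen U) (b : 𝒮.presheaf.obj (op U)), b ∈ 𝒮.deg U hU 1 →
      ∃ a ∈ (bundleAlg 𝒮).deg U hU 1, (ψ.hom.app (op U)).hom a = b := by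
  let hA := SymSh.isSymAlg (degOne 𝒮) (isQCoh_degOne 𝒮)
  obtain ⟨ψ₀, hψ, -⟩ := hA 𝒮.toQCAlg (degOneι 𝒮)
  let ψ : (bundleAlg 𝒮).toQCAlg ⟶ 𝒮.toQCAlg := ψ₀
  have hgen : ∀ (U : Y.Opens) (m : (degOne 𝒮).val.obj (op U)),
      (ψ.hom.app (op U)).hom (jLin (bundleGen 𝒮) U m) =
        (show 𝒮.presheaf.obj (op U) from (degOneι 𝒮).app U m) := fun U m =>
    congrArg (fun t : degOne 𝒮 ⟶ 𝒮.toModule => t.val.app (op U) m) hψ
  refine ⟨ψ, fun U hU d x hx => ?_, fun U hU b hb => ?_⟩
  · letI := secAlg (bundleAlg 𝒮).toQCAlg U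
    change x ∈ (LinearMap.range (jLin (bundleGen 𝒮) U)) ^ d at hx
    induction hx using Submodule.pow_induction_on_left' with
    | algebraMap r =>
      rw [RingHom.algebraMap_toAlgebra]
      have h := congr($(NatTrans.congr_app ψ.comm (op U)) r)
      exact h ▸ 𝒮.str_mem U hU r
    | add x y n _ _ ihx ihy => rw [map_add]; exact add_mem ihx ihy
    | mem_mul m hm n x _ ih =>
      obtain ⟨m, rfl⟩ := hm
      rw [map_mul, Nat.succ_eq_add_one, add_comm n 1]
      refine SetLike.mul_mem_graded (A := 𝒮.deg U hU) ?_ ih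
      exact (hgen U m) ▸ degOneι_mem 𝒮 U hU m
  · obtain ⟨m, hm⟩ := exists_degOne_eq 𝒮 U hU b hb
    letI := secAlg (bundleAlg 𝒮).toQCAlg U
    exact ⟨jLin (bundleGen 𝒮) U m, apply_mem_symDeg (jLin (bundleGen 𝒮) U) m, (hgen U m).trans hm⟩

variable {𝒮}

theorem isRelVeryAmple_of_relProj {X P : Scheme.{u}} (q : X ⟶ Y) (hgen : 𝒮.IsGenDegOne) {p : P ⟶ Y}
    {chart : ∀ (U : Y.Opens) (hU : IsAffineOpen U), ((p ⁻¹ᵁ U : P.Opens) : Scheme.{u}) ≅ Proj (𝒮.deg U hU)}
    (hP : RelProj.IsRelProj 𝒮 p chart) {O1 : P.Modules}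
    {lam : ∀ (U : Y.Opens) (hU : IsAffineOpen U),
      O1 ⟶ (Scheme.Modules.pushforward (RelProj.emb p chart U hU)).obj (GrTwist.twist (𝒮.deg U hU) 1)}
    (hO1 : RelProj.IsRelTwist 𝒮 p chart 1 O1 lam) {L : X.Modules} (i : X ⟶ P) [IsImmersion i]
    (hi : i ≫ p = q) (e : L ≅ (Scheme.Modules.pullback i).obj O1) : RelProj.IsRelVeryAmple q L := by
  let hA := SymSh.isSymAlg (degOne 𝒮) (isQCoh_degOne 𝒮)
  have hS : RelProj.IsGrSymAlg (degOne 𝒮) (bundleAlg 𝒮) (bundleGen 𝒮) := isGrSymAlg_grSym _ _ _ hA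
  have hgenA := isGenDegOne_of_isGrSymAlg (isQCoh_degOne 𝒮) hS
  obtain ⟨ψ, hψ, hψs⟩ := exists_bundleMap 𝒮
  have hirr : ∀ (U : Y.Opens) (hU : IsAffineOpen U),
      (𝒮.deg U hU)₊ ≤ (((bundleAlg 𝒮).deg U hU)₊).map (RelProj.gradedHomAt ψ hψ U hU) := fun U hU => by
    show ((𝒮.deg U hU)₊).toIdeal ≤ _
    rw [RelTildeX.irrelevant_eq_span_deg_one hgen U hU, Ideal.span_le]
    intro b hb
    obtain ⟨a, ha, rfl⟩ := hψs U hU b hb
    exact Ideal.mem_map_of_mem _ (HomogeneousIdeal.mem_irrelevant_of_mem _ one_pos ha)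
  have hsurj : ∀ (U : Y.Opens) (hU : IsAffineOpen U), ∀ b ∈ ((𝒮.deg U hU)₊).toIdeal,
      ∃ a, RelProj.gradedHomAt ψ hψ U hU a = b := fun U hU => by
    let f : (bundleAlg 𝒮).presheaf.obj (op U) →+* 𝒮.presheaf.obj (op U) := (ψ.hom.app (op U)).hom
    let K : AddSubgroup (𝒮.presheaf.obj (op U)) :=
      (Ideal.span ((bundleAlg 𝒮).deg U hU 1 : Set _)).toAddSubgroup.map f.toAddMonoidHom
    have hK : ∀ x : 𝒮.presheaf.obj (op U), ∀ y ∈ K, x * y ∈ K := fun x => by
      have hx : x ∈ (⊤ : Subring (𝒮.presheaf.obj (op U))) := trivial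
      rw [← hgen U hU] at hx
      induction hx using Subring.closure_induction with
      | mem c hc =>
        rintro _ ⟨z, hz, rfl⟩
        change z ∈ Ideal.span _ at hz
        show c * f z ∈ K
        induction hz using Submodule.span_induction with
        | mem a ha =>
          rcases hc with hc | hc
          · obtain ⟨a', ha', e'⟩ := hψs U hU (c * f a) (by
              have := SetLike.mul_mem_graded (A := 𝒮.deg U hU) hc (hψ U hU 1 a ha)
              rwa [zero_add] at this)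
            exact ⟨a', Ideal.subset_span ha', e'⟩
          · obtain ⟨c', hc', e'⟩ := hψs U hU c hc
            exact ⟨c' * a, Ideal.mul_mem_left _ _ (Ideal.subset_span ha), by
              show f (c' * a) = c * f a
              rw [map_mul, show f c' = c from e']⟩
        | zero => rw [map_zero, mul_zero]; exact zero_mem _
        | add a b _ _ iha ihb => rw [map_add, mul_add]; exact add_mem iha ihb
        | smul r a _ iha =>
          obtain ⟨w, hw, hwe⟩ := iha
          refine ⟨r * w, Ideal.mul_mem_left _ _ hw, ?_⟩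
          show f (r * w) = c * f (r * a)
          rw [map_mul, map_mul, show f w = c * f a from hwe]
          ring
      | zero => intro y _; rw [zero_mul]; exact zero_mem _
      | one => intro y hy; rwa [one_mul]
      | add a b _ _ iha ihb => intro y hy; rw [add_mul]; exact add_mem (iha y hy) (ihb y hy)
      | neg a _ iha => intro y hy; rw [neg_mul]; exact neg_mem (iha y hy)
      | mul a b _ _ iha ihb => intro y hy; rw [mul_assoc]; exact iha _ (ihb y hy)
    intro b hb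
    suffices hbK : b ∈ K by
      obtain ⟨a, -, rfl⟩ := hbK
      exact ⟨a, rfl⟩
    rw [RelTildeX.irrelevant_eq_span_deg_one hgen U hU] at hb
    induction hb using Submodule.span_induction with
    | mem a ha =>
      obtain ⟨a', ha', e'⟩ := hψs U hU a ha
      exact ⟨a', Ideal.subset_span ha', e'⟩
    | zero => exact zero_mem _
    | add a b _ _ iha ihb => exact add_mem iha ihb
    | smul r a _ iha => exact hK r a iha
  obtain ⟨Q, pQ, chartQ, hQ⟩ := Proj16.exists_isRelProj (bundleAlg 𝒮)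
  obtain ⟨h, hh, -⟩ := Proj16.existsUnique_isRelProjMap ψ hψ hirr hQ hP
  haveI : IsClosedImmersion h := Proj16.relProjMap_of_affineOpens hQ hP hh @IsClosedImmersion
    fun U hU => isClosedImmersion_map_of_posSurj _ _ (hsurj U hU)
  have hcomp := Proj16.relProjMap_comp hQ hP hh
  have hO := RelTwistX.isRelTwist (n := (1 : ℤ)) hQ
  obtain ⟨e'⟩ := RelTwistX.nonempty_iso_pullback_twist hh hgenA hQ hP hO hO1
  exact ⟨degOne 𝒮, isQCoh_degOne 𝒮, bundleAlg 𝒮, bundleGen 𝒮, hS, Q, pQ, chartQ, hQ, _, _, hO, i ≫ h,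
    inferInstance, by rw [Category.assoc, hcomp, hi],
    ⟨e ≪≫ (Scheme.Modules.pullback i).mapIso e'.symm ≪≫ (Scheme.Modules.pullbackComp i h).app _⟩⟩

end Groth.Agent.VeryAmpleX
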