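import Groth.Agent.VeryAmpleX.Basic
import Groth.Agent.AmpleX.Sect

/-!
# Very ample modules are generated by sections over the base
-/

noncomputable section

universe u

open CategoryTheory CategoryTheory.Limits AlgebraicGeometry TopologicalSpace Opposite
open Groth.Agent.H23.PicMul

set_option backward.isDefEq.respectTransparency false
set_option backward.isDefEq.respectTransparency.types false
set_option linter.style.haveILetI false

namespace Groth.Agent.VeryAmpleX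

open Groth.Agent

theorem epi_counit_of_sections {X Y : Scheme.{u}} (f : X ⟶ Y) {L : X.Modules}
    (h : ∀ x : X, ∃ (V : Y.Opens) (a : Γ(L, f ⁻¹ᵁ V)), x ∈ AmpleX.locus a) :
    Epi ((Scheme.Modules.pullbackPushforwardAdjunction f).counit.app L) := by
  refine ⟨fun {Z} φ ψ he => ?_⟩
  let adj := Scheme.Modules.pullbackPushforwardAdjunction f
  have hpush : ∀ χ : L ⟶ Z, adj.unit.app _ ≫ (Scheme.Modules.pushforward f).map (adj.counit.app L ≫ χ) =
      (Scheme.Modules.pushforward f).map χ := fun χ => by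
    rw [(Scheme.Modules.pushforward f).map_comp]
    exact adj.right_triangle_components_assoc L _
  have heq : (Scheme.Modules.pushforward f).map φ = (Scheme.Modules.pushforward f).map ψ := by
    rw [← hpush φ, ← hpush ψ]
    exact congrArg (fun χ => adj.unit.app _ ≫ (Scheme.Modules.pushforward f).map χ) he
  choose V a ha using h
  refine InvX.hom_ext_of_frames (fun x => AmpleX.locus (a x)) (fun x => ⟨x, ha x⟩)
    (fun x => AModX.res L (AmpleX.locus_le (a x)) (a x)) (fun x => AmpleX.isFrame_res_locus (a x)) fun x => ?_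
  have h1 : φ.app (f ⁻¹ᵁ V x) (a x) = ψ.app (f ⁻¹ᵁ V x) (a x) := congr(($heq).app (V x) (a x))
  rw [AModX.app_res, AModX.app_res]
  exact congrArg _ h1

theorem exists_section_mem_locus {X S P : Scheme.{u}} {E : S.Modules} (hE : Coh.IsQCoh E) {𝒮 : RelProj.QCGrAlg S}
    {j : E ⟶ 𝒮.toModule} (hS : RelProj.IsGrSymAlg E 𝒮 j) {p : P ⟶ S}
    {chart : ∀ (U : S.Opens) (hU : IsAffineOpen U), (((p ⁻¹ᵁ U : P.Opens) : Scheme.{u}) ≅ Proj (𝒮.deg U hU))}
    {O1 : P.Modules}
    {lam : ∀ (U : S.Opens) (hU : IsAffineOpen U),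
      O1 ⟶ (Scheme.Modules.pushforward (RelProj.emb p chart U hU)).obj (GrTwist.twist (𝒮.deg U hU) 1)}
    (hO1 : RelProj.IsRelTwist 𝒮 p chart 1 O1 lam) (i : X ⟶ P) (x : X) :
    ∃ (V : S.Opens) (a : Γ((Scheme.Modules.pullback i).obj O1, (i ≫ p) ⁻¹ᵁ V)), x ∈ AmpleX.locus a := by
  obtain ⟨_, ⟨U, hU, rfl⟩, hxU, -⟩ := S.isBasis_affineOpens.exists_subset_of_mem_open
    (Set.mem_univ (p (i x))) isOpen_univ
  have hgen := isGenDegOne_of_isGrSymAlg hE hS
  let em := RelProj.emb p chart U hU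
  have hx : i x ∈ em.opensRange := by rw [RelTildeX.opensRange_emb]; exact hxU
  obtain ⟨y, hy⟩ := hx
  have hcov : ⨆ a : {a // a ∈ 𝒮.deg U hU 1},
      Proj.basicOpen (𝒮.deg U hU) (a : 𝒮.presheaf.obj (op U)) = ⊤ := by
    refine Proj.iSup_basicOpen_eq_top _ _ ?_
    rw [RelTildeX.irrelevant_eq_span_deg_one hgen U hU, Ideal.span_le]
    exact fun a ha => Ideal.subset_span ⟨⟨a, ha⟩, rfl⟩
  obtain ⟨t, ht⟩ := Opens.mem_iSup.1 (hcov.ge (trivial : y ∈ (⊤ : (Proj (𝒮.deg U hU)).Opens)))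
  let e := RelTildeX.twistIso hO1 U hU
  let b : Γ(O1.restrict em, ⊤) := e.symm.hom.app ⊤ (RelTwistX.sec1 (𝒮.deg U hU) t.2)
  have hyb : y ∈ AmpleX.locus b := by
    rw [AmpleX.locus_iso]
    exact AmpleX.le_locus _ le_top (RelTwistX.isFrame_sec1 _ t.2) ht
  have hib : i x ∈ AmpleX.locus (M := O1) (U := em ''ᵁ ⊤) b := by
    rw [← AmpleX.image_locus em b, ← hy]
    exact ⟨y, hyb, rfl⟩
  have hle : p ⁻¹ᵁ U ≤ em ''ᵁ ⊤ := by
    rw [Scheme.Hom.image_top_eq_opensRange, RelTildeX.opensRange_emb]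
  refine ⟨U, InvX.pullElt i (AModX.res O1 hle (show Γ(O1, em ''ᵁ ⊤) from b)), ?_⟩
  rw [AmpleX.locus_pullElt (RelTildeX.isInvertible_twist hgen hO1)]
  show i x ∈ AmpleX.locus (AModX.res O1 hle _)
  rw [AmpleX.locus_res]
  exact ⟨hib, hxU⟩

theorem epi_counit_of_isRelVeryAmple {X S : Scheme.{u}} (f : X ⟶ S) {L : X.Modules}
    (h : RelProj.IsRelVeryAmple f L) : Epi ((Scheme.Modules.pullbackPushforwardAdjunction f).counit.app L) := by
  obtain ⟨E, hE, 𝒮, j, hS, P, p, chart, -, O1, lam, hO1, i, -, hip, ⟨eL⟩⟩ := h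
  subst hip
  refine epi_counit_of_sections _ fun x => ?_
  obtain ⟨V, a, ha⟩ := exists_section_mem_locus hE hS hO1 i x
  exact ⟨V, eL.symm.hom.app _ a, by rw [AmpleX.locus_iso]; exact ha⟩

end Groth.Agent.VeryAmpleX
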