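import Mathlib.AlgebraicGeometry.ProjectiveSpectrum.Functor
import Mathlib.AlgebraicGeometry.Morphisms.ClosedImmersion
import Mathlib.RingTheory.Localization.Away.Basic

/-!
# Morphisms into `Proj` from a ring map inverting a homogeneous element
-/

noncomputable section

universe u

open CategoryTheory CategoryTheory.Limits AlgebraicGeometry TopologicalSpace Opposite HomogeneousLocalization
open scoped HomogeneousIdeal

set_option backward.isDefEq.respectTransparency false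
set_option backward.isDefEq.respectTransparency.types false
set_option linter.unusedSectionVars false

namespace Groth.Agent.VeryAmpleX

variable {A σ B τ : Type u} [CommRing A] [SetLike σ A] [AddSubgroupClass σ A] {𝒜 : ℕ → σ} [GradedRing 𝒜]
  [CommRing B] [SetLike τ B] [AddSubgroupClass τ B] {ℬ : ℕ → τ} [GradedRing ℬ]

variable (𝒜) in
/-- The induced map on the degree zero part of the localization. -/
def awayHom {R : Type u} [CommRing R] (h : A →+* R) {f : A} (hu : IsUnit (h f)) : Away 𝒜 f →+* R :=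
  (IsLocalization.Away.lift (S := Localization.Away f) f hu).comp
    (algebraMap (Away 𝒜 f) (Localization.Away f))

section ring

variable {R : Type u} [CommRing R] (h : A →+* R) {f : A} {d : ℕ} (hf : f ∈ 𝒜 d) (hu : IsUnit (h f))

theorem awayHom_mk_mul (n : ℕ) (x : A) (hx : x ∈ 𝒜 (n • d)) :
    awayHom 𝒜 h hu (Away.mk 𝒜 hf n x hx) * h f ^ n = h x := by
  show IsLocalization.Away.lift f hu (Away.mk 𝒜 hf n x hx).val * _ = _
  rw [Away.val_mk, Localization.mk_eq_mk', ← map_pow,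
    ← IsLocalization.Away.lift_eq (S := Localization.Away f) f hu (f ^ n), ← map_mul]
  refine Eq.trans (congrArg _ ?_) (IsLocalization.Away.lift_eq (S := Localization.Away f) f hu x)
  exact IsLocalization.mk'_spec _ x (⟨f ^ n, n, rfl⟩ : Submonoid.powers f)

include hf in
theorem awayHom_ext {g g' : Away 𝒜 f →+* R}
    (e : ∀ (n : ℕ) (x : A) (hx : x ∈ 𝒜 (n • d)), g (Away.mk 𝒜 hf n x hx) = g' (Away.mk 𝒜 hf n x hx)) : g = g' :=
  RingHom.ext fun w => by
    obtain ⟨n, x, hx, rfl⟩ := Away.mk_surjective 𝒜 hf w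
    exact e n x hx

include hf in
theorem eq_awayHom {g : Away 𝒜 f →+* R}
    (e : ∀ (n : ℕ) (x : A) (hx : x ∈ 𝒜 (n • d)), g (Away.mk 𝒜 hf n x hx) * h f ^ n = h x) :
    g = awayHom 𝒜 h hu :=
  awayHom_ext hf fun n x hx => ((hu.pow n).mul_left_inj).1 ((e n x hx).trans (awayHom_mk_mul h hf hu n x hx).symm)

end ring

variable {X : Scheme.{u}} {V : X.Opens}

variable (𝒜) in
/-- The morphism to `Proj` attached to a ring map inverting `f`. -/
def rLoc (h : A →+* Γ(X, V)) {f : A} {d : ℕ} (hf : f ∈ 𝒜 d) (hd : 0 < d) (hu : IsUnit (h f)) :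
    V.toScheme ⟶ Proj 𝒜 :=
  V.toSpecΓ ≫ Spec.map (CommRingCat.ofHom (awayHom 𝒜 h hu)) ≫ Proj.awayι 𝒜 f hf hd

variable (h : A →+* Γ(X, V)) {f g : A} {d e : ℕ} (hf : f ∈ 𝒜 d) (hd : 0 < d) (hu : IsUnit (h f))

theorem rLoc_homOfLE {V' : X.Opens} (i : V' ≤ V) :
    X.homOfLE i ≫ rLoc 𝒜 h hf hd hu =
      rLoc 𝒜 ((X.presheaf.map (homOfLE i).op).hom.comp h) hf hd (hu.map (X.presheaf.map (homOfLE i).op).hom) := by
  rw [rLoc, rLoc, ← reassoc_of% (Scheme.Opens.toSpecΓ_SpecMap_presheaf_map V' V i), ← Spec.map_comp_assoc]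
  congr 3
  refine CommRingCat.hom_ext ?_
  refine eq_awayHom _ hf _ fun n x hx => ?_
  show (X.presheaf.map (homOfLE i).op).hom (awayHom 𝒜 h hu _) * _ = _
  rw [RingHom.comp_apply, RingHom.comp_apply, ← map_pow, ← map_mul, awayHom_mk_mul h hf hu]

theorem rLoc_mul (hg : g ∈ 𝒜 e) (hgu : IsUnit (h g)) {x : A} (hx : x = f * g) (hxd : x ∈ 𝒜 (d + e))
    (hxu : IsUnit (h x)) :
    rLoc 𝒜 h hf hd hu = rLoc 𝒜 h hxd (hd.trans_le (d.le_add_right e)) hxu := by
  rw [rLoc, rLoc, ← Proj.SpecMap_awayMap_awayι 𝒜 hf hd hg hx, ← Spec.map_comp_assoc]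
  congr 3
  refine CommRingCat.hom_ext (eq_awayHom h hf hu fun n y hy => ?_).symm
  show awayHom 𝒜 h hxu (awayMap 𝒜 hg hx (Away.mk 𝒜 hf n y hy)) * _ = _
  rw [HomogeneousLocalization.awayMap_mk, ← (hgu.pow n).mul_left_inj, mul_assoc, ← mul_pow]
  rw [show h f * h g = h x from (congrArg h hx).trans (map_mul h f g) |>.symm]
  rw [awayHom_mk_mul, map_mul, map_pow]

theorem rLoc_indep (hg : g ∈ 𝒜 e) (he : 0 < e) (hgu : IsUnit (h g)) :
    rLoc 𝒜 h hf hd hu = rLoc 𝒜 h hg he hgu := by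
  have hfg : f * g ∈ 𝒜 (d + e) := SetLike.mul_mem_graded hf hg
  have hfgu : IsUnit (h (f * g)) := by rw [map_mul]; exact hu.mul hgu
  rw [rLoc_mul h hf hd hu hg hgu rfl hfg hfgu,
    rLoc_mul h hg he hgu hf hu (mul_comm f g) (by rw [add_comm]; exact hfg) hfgu]
  congr 1
  exact add_comm d e

theorem rLoc_scale (h' : A →+* Γ(X, V)) (hu' : IsUnit (h' f)) (u : Γ(X, V))
    (hs : ∀ n, ∀ x ∈ 𝒜 n, h' x = u ^ n * h x) :
    rLoc 𝒜 h' hf hd hu' = rLoc 𝒜 h hf hd hu := by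
  rw [rLoc, rLoc]
  congr 3
  refine CommRingCat.hom_ext ?_
  refine eq_awayHom _ hf hu fun n x hx => ?_
  show awayHom 𝒜 h' hu' (Away.mk 𝒜 hf n x hx) * _ = _
  have key := awayHom_mk_mul h' hf hu' n x hx
  rw [hs _ f hf, hs _ x hx, mul_pow, ← pow_mul, show d * n = n • d by rw [smul_eq_mul, mul_comm], mul_left_comm] at key
  have hud : IsUnit (u ^ (n • d)) := by
    have := hu'
    rw [hs _ f hf] at this
    rw [smul_eq_mul, mul_comm, pow_mul]
    exact (isUnit_of_mul_isUnit_left this).pow n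
  exact hud.mul_right_inj.1 key

theorem rLoc_map (ψ : 𝒜 →+*ᵍ ℬ) (hψ : ℬ₊ ≤ (𝒜₊).map ψ) (h' : B →+* Γ(X, V)) (hh : ∀ x, h' (ψ x) = h x)
    (hu' : IsUnit (h' (ψ f))) :
    rLoc ℬ h' (ψ.2 hf) hd hu' ≫ Proj.map ψ hψ = rLoc 𝒜 h hf hd hu := by
  rw [rLoc, rLoc, Category.assoc, Category.assoc]
  erw [Proj.awayι_comp_map ψ hψ hd f hf]
  rw [← Spec.map_comp_assoc]
  congr 3
  refine CommRingCat.hom_ext ?_
  refine eq_awayHom _ hf hu fun n x hx => ?_
  show awayHom ℬ h' hu' (Away.map ψ f (Away.mk 𝒜 hf n x hx)) * _ = _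
  rw [Away.map_mk, ← hh, awayHom_mk_mul, hh]

theorem rLoc_preimage_basicOpen (hg : g ∈ 𝒜 e) (he : 0 < e) :
    rLoc 𝒜 h hf hd hu ⁻¹ᵁ Proj.basicOpen 𝒜 g = V.ι ⁻¹ᵁ X.basicOpen (h g) := by
  rw [rLoc, Scheme.Hom.comp_preimage, Scheme.Hom.comp_preimage, Proj.awayι_preimage_basicOpen 𝒜 hf hd hg he]
  show V.toSpecΓ ⁻¹ᵁ (Spec.map _ ⁻¹ᵁ PrimeSpectrum.basicOpen _) = _
  have e1 : Spec.map (CommRingCat.ofHom (awayHom 𝒜 h hu)) ⁻¹ᵁ
      PrimeSpectrum.basicOpen (Away.isLocalizationElem hf hg) =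
        PrimeSpectrum.basicOpen (awayHom 𝒜 h hu (Away.isLocalizationElem hf hg)) := rfl
  rw [e1, Scheme.Opens.toSpecΓ_preimage_basicOpen]
  congr 1
  have hm : g ^ d ∈ 𝒜 (e • d) := by rw [smul_eq_mul, mul_comm]; exact SetLike.pow_mem_graded d hg
  have key : awayHom 𝒜 h hu (Away.isLocalizationElem hf hg) * h f ^ e = h g ^ d := by
    rw [← map_pow h g]; exact awayHom_mk_mul h hf hu e _ hm
  have k2 : X.basicOpen (awayHom 𝒜 h hu (Away.isLocalizationElem hf hg) * h f ^ e) = X.basicOpen (h g ^ d) :=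
    congrArg _ key
  rw [Scheme.basicOpen_mul, X.basicOpen_of_isUnit (hu.pow e), Scheme.basicOpen_pow _ _ hd] at k2
  rw [← k2, inf_eq_left.2 (X.basicOpen_le _)]

theorem rLoc_toSpecZero : rLoc 𝒜 h hf hd hu ≫ Proj.toSpecZero 𝒜 =
    V.toSpecΓ ≫ Spec.map (CommRingCat.ofHom (h.comp (algebraMap (𝒜 0) A))) := by
  rw [rLoc, Category.assoc, Category.assoc, Proj.awayι_toSpecZero, ← Spec.map_comp]
  congr 2
  refine CommRingCat.hom_ext (RingHom.ext fun a => ?_)
  show awayHom 𝒜 h hu (fromZeroRingHom 𝒜 _ a) = h (algebraMap (𝒜 0) A a)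
  show IsLocalization.Away.lift (S := Localization.Away f) f hu
    (algebraMap A (Localization.Away f) (a : A)) = _
  exact IsLocalization.Away.lift_eq f hu _

theorem range_rLoc : Set.range (rLoc 𝒜 h hf hd hu) ⊆ Proj.basicOpen 𝒜 f := by
  rintro _ ⟨z, rfl⟩
  rw [← Proj.opensRange_awayι 𝒜 f hf hd]
  exact ⟨_, rfl⟩

theorem awayHom_comp_isClosedImmersion (hV : IsAffineOpen V) (hs : Function.Surjective (awayHom 𝒜 h hu)) :
    IsClosedImmersion (V.toSpecΓ ≫ Spec.map (CommRingCat.ofHom (awayHom 𝒜 h hu))) := by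
  haveI : IsClosedImmersion (Spec.map (CommRingCat.ofHom (awayHom 𝒜 h hu))) :=
    IsClosedImmersion.spec_of_surjective _ hs
  rw [← hV.isoSpec_hom]
  infer_instance

theorem isClosedImmersion_of_fac {Y P : Scheme.{u}} {r : Y ⟶ P} {W : P.Opens} {U : Y.Opens} (hpre : r ⁻¹ᵁ W = U)
    {Z : Scheme.{u}} (c : U.toScheme ⟶ Z) [IsClosedImmersion c] (j : Z ⟶ P) [IsOpenImmersion j]
    (hj : j.opensRange = W) (e : U.ι ≫ r = c ≫ j) : IsClosedImmersion (r ∣_ W) := by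
  subst hpre
  have hr : Set.range j = Set.range W.ι := by
    rw [Scheme.Opens.range_ι, ← hj]; rfl
  have e' : r ∣_ W = c ≫ (IsOpenImmersion.isoOfRangeEq j W.ι hr).hom := by
    rw [← cancel_mono W.ι, morphismRestrict_ι, Category.assoc, IsOpenImmersion.isoOfRangeEq_hom_fac, e]
  rw [e']
  infer_instance

end Groth.Agent.VeryAmpleX
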