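import Groth.Agent.VeryAmpleX.BundleMor
import Groth.Agent.GrModX.QCohTilde

/-!
# The inverse image of the fundamental sheaf of the bundle of the direct image
-/

noncomputable section

universe u

open CategoryTheory CategoryTheory.Limits AlgebraicGeometry TopologicalSpace Opposite HomogeneousLocalization
open scoped HomogeneousIdeal

set_option backward.isDefEq.respectTransparency false
set_option backward.isDefEq.respectTransparency.types false
set_option linter.style.haveILetI false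
set_option linter.unusedSectionVars false
set_option maxHeartbeats 800000

namespace Groth.Agent.VeryAmpleX

open Groth.Agent

theorem rLoc_appLE {A σ : Type u} [CommRing A] [SetLike σ A] [AddSubgroupClass σ A] {𝒜 : ℕ → σ} [GradedRing 𝒜]
    {X : Scheme.{u}} {V : X.Opens} (h : A →+* Γ(X, V)) {t : A} {d : ℕ} (ht : t ∈ 𝒜 d) (hd : 0 < d)
    (hu : IsUnit (h t)) (e : (⊤ : V.toScheme.Opens) ≤ rLoc 𝒜 h ht hd hu ⁻¹ᵁ Proj.basicOpen 𝒜 t) :
    Proj.awayToSection 𝒜 t ≫ (rLoc 𝒜 h ht hd hu).appLE (Proj.basicOpen 𝒜 t) ⊤ e =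
      CommRingCat.ofHom (awayHom 𝒜 h hu) ≫ V.topIso.inv := by
  let g := V.toSpecΓ ≫ Spec.map (CommRingCat.ofHom (awayHom 𝒜 h hu))
  have hr : rLoc 𝒜 h ht hd hu = g ≫ Proj.awayι 𝒜 t ht hd := (Category.assoc _ _ _).symm
  have e1 : (⊤ : (Spec (CommRingCat.of (Away 𝒜 t))).Opens) ≤
      Proj.awayι 𝒜 t ht hd ⁻¹ᵁ Proj.basicOpen 𝒜 t := by
    rw [← Proj.opensRange_awayι 𝒜 t ht hd, Scheme.Hom.preimage_opensRange]
  have key : (rLoc 𝒜 h ht hd hu).appLE (Proj.basicOpen 𝒜 t) ⊤ e =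
      (Proj.awayι 𝒜 t ht hd).appLE (Proj.basicOpen 𝒜 t) ⊤ e1 ≫ g.appLE ⊤ ⊤ le_top := by
    rw [Scheme.Hom.appLE_comp_appLE]
    simp only [hr]
  rw [key, ← Category.assoc, ProjPt.awayι_appLE 𝒜 ht hd e1,
    show g.appLE ⊤ ⊤ le_top = g.appTop from (g.app_eq_appLE (U := ⊤)).symm]
  show _ ≫ (V.toSpecΓ ≫ Spec.map (CommRingCat.ofHom (awayHom 𝒜 h hu))).appTop = _
  rw [Scheme.Hom.comp_appTop, Scheme.Opens.toSpecΓ_appTop, Scheme.ΓSpecIso_naturality_assoc,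
    Iso.inv_hom_id_assoc]

theorem eq_mk_of_zVal {A σ : Type u} [CommRing A] [SetLike σ A] [AddSubgroupClass σ A] {𝒜 : ℕ → σ} [GradedRing 𝒜]
    {y : ProjectiveSpectrum 𝒜} {a b : A} (ha : a ∉ y.asHomogeneousIdeal) (hb : b ∉ y.asHomogeneousIdeal)
    (v : GrTwist.Loc 𝒜 y) (h : RelTwistX.zVal y b hb 1 = v * RelTwistX.zVal y a ha 1) :
    Localization.mk b ⟨a ^ 1, GrTwistX.notMem_pow ha 1⟩ = v := by
  have e : ∀ (c : A) (hc : c ∉ y.asHomogeneousIdeal), RelTwistX.zVal y c hc 1 =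
      algebraMap A (GrTwist.Loc 𝒜 y) c := fun c hc => by
    rw [← Localization.mk_one_eq_algebraMap, RelTwistX.zVal, Localization.mk_eq_mk_iff, Localization.r_iff_exists]
    exact ⟨1, by simp⟩
  rw [e, e] at h
  rw [Localization.mk_eq_mk', IsLocalization.mk'_eq_iff_eq_mul]
  simp only [pow_one]
  exact h

variable {X S : Scheme.{u}} {f : X ⟶ S} {L : X.Modules} {𝒮 : RelProj.QCGrAlg S}
  {j : (Scheme.Modules.pushforward f).obj L ⟶ 𝒮.toModule}
  (hE : Coh.IsQCoh ((Scheme.Modules.pushforward f).obj L)) (hS : RelProj.IsGrSymAlg _ 𝒮 j)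
  {P : Scheme.{u}} {p : P ⟶ S}
  {chart : ∀ (U : S.Opens) (hU : IsAffineOpen U), (((p ⁻¹ᵁ U : P.Opens) : Scheme.{u}) ≅ Proj (𝒮.deg U hU))}
  (hP : RelProj.IsRelProj 𝒮 p chart) {O1 : P.Modules}
  {lam : ∀ (U : S.Opens) (hU : IsAffineOpen U),
    O1 ⟶ (Scheme.Modules.pushforward (RelProj.emb p chart U hU)).obj (GrTwist.twist (𝒮.deg U hU) 1)}
  (hO1 : RelProj.IsRelTwist 𝒮 p chart 1 O1 lam) {r : X ⟶ P}
  (hr : ∀ (U : S.Opens) (hU : IsAffineOpen U) (a : Γ(L, f ⁻¹ᵁ U)),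
      (AmpleX.locus a).ι ≫ r = chartMor hE hS chart hU a)
  (hcov : ∀ x : X, ∃ (U : S.Opens) (_ : IsAffineOpen U) (a : Γ(L, f ⁻¹ᵁ U)), x ∈ AmpleX.locus a)

include hE hS hP hO1 hr hcov in
theorem nonempty_pullback_toBundle : Nonempty ((Scheme.Modules.pullback r).obj O1 ≅ L) := by
  let ι := Σ U : S.affineOpens, Γ(L, f ⁻¹ᵁ U.1)
  let W : ι → P.Opens := fun q =>
    RelProj.emb p chart q.1.1 q.1.2 ''ᵁ Proj.basicOpen (𝒮.deg q.1.1 q.1.2) (jsec j q.2)
  have hWU : ∀ q, W q ≤ p ⁻¹ᵁ q.1.1 := fun q =>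
    ((RelProj.emb p chart q.1.1 q.1.2).image_le_opensRange _).trans (RelTildeX.opensRange_emb p chart q.1.1 q.1.2).le
  have hnv : ∀ (q : ι) (y : RelTwistX.pre p chart q.1.1 q.1.2 (W q)),
      jsec j q.2 ∉ (y.1 : ProjectiveSpectrum (𝒮.deg q.1.1 q.1.2)).asHomogeneousIdeal := fun q y => by
    obtain ⟨y', hy', hyy⟩ := y.2
    exact ((RelProj.emb p chart q.1.1 q.1.2).isOpenEmbedding.injective hyy) ▸ hy'
  choose e he hev using fun q : ι =>
    RelTwistX.exists_frame_deg_one hP hO1 q.1.2 (hWU q) (jsec_mem hS q.1.2 q.2) (hnv q)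
  have hcovP : ∀ y : P, ∃ q, y ∈ W q := fun y => by
    obtain ⟨_, ⟨U, hU, rfl⟩, hyU, -⟩ := S.isBasis_affineOpens.exists_subset_of_mem_open
      (Set.mem_univ (p y)) isOpen_univ
    have h1 : y ∈ (RelProj.emb p chart U hU).opensRange := by rw [RelTildeX.opensRange_emb]; exact hyU
    obtain ⟨z, hz⟩ := h1
    obtain ⟨m, hm⟩ := Opens.mem_iSup.1 ((iSup_basicOpen_jsec hE hS hU).ge (trivial : z ∈ (⊤ : (Proj (𝒮.deg U hU)).Opens)))
    exact ⟨⟨⟨U, hU⟩, m⟩, z, hm, hz⟩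
  have hpre : ∀ q, r ⁻¹ᵁ W q = AmpleX.locus q.2 := fun q => preimage_gen hE hS hP hr hcov q.1.2 q.2
  have hle : ∀ q, r ⁻¹ᵁ W q ≤ f ⁻¹ᵁ q.1.1 := fun q => (hpre q).le.trans (AmpleX.locus_le _)
  refine RelTwistX.nonempty_pullback_iso r W hcovP e he (fun q => AModX.res L (hle q) q.2)
    (fun q => AmpleX.isFrame_res_of_le q.2 (hpre q).le) fun q q' c hc => ?_
  rw [AModX.res_res, AModX.res_res]
  refine AModX.eq_of_locally _ _ fun z hz => ?_
  have hzU : f z ∈ q.1.1 := hle q hz.1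
  have hzU' : f z ∈ q'.1.1 := hle q' hz.2
  obtain ⟨D, hD, g, g', hzD⟩ := RelTwistX.exists_good q.1.2 q'.1.2 hzU hzU'
  let a' := AModX.res L (f.preimage_mono g.le) q.2
  let b' := AModX.res L (f.preimage_mono g'.le) q'.2
  let em := RelProj.emb p chart D hD
  let T : (Proj (𝒮.deg D hD)).Opens := Proj.basicOpen (𝒮.deg D hD) (jsec j a') ⊓ Proj.basicOpen (𝒮.deg D hD) (jsec j b')
  have hres : ∀ (U : S.Opens) (hU : IsAffineOpen U) (gg : RelTwistX.Good U D) (m : Γ(L, f ⁻¹ᵁ U)),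
      ∀ y ∈ Proj.basicOpen (𝒮.deg D hD) (jsec j (AModX.res L (f.preimage_mono gg.le) m)),
        em y ∈ RelProj.emb p chart U hU ''ᵁ Proj.basicOpen (𝒮.deg U hU) (jsec j m) := fun U hU gg m y hy => by
    refine ⟨ProjectiveSpectrum.comap (𝒮.res hU hD gg.le) (gg.irr hU hD) y, ?_, gg.emb_comap hP hU hD y⟩
    intro hmem
    refine hy ?_
    have : 𝒮.res hU hD gg.le (jsec j m) ∈ (y : ProjectiveSpectrum (𝒮.deg D hD)).asHomogeneousIdeal := hmem
    rwa [show 𝒮.res hU hD gg.le (jsec j m) = _ from jsec_res gg.le m] at this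
  have hTW : em ''ᵁ T ≤ W q ⊓ W q' := by
    rintro _ ⟨y, hy, rfl⟩
    exact ⟨hres q.1.1 q.1.2 g q.2 y hy.1, hres q'.1.1 q'.1.2 g' q'.2 y hy.2⟩
  have hza : z ∈ AmpleX.locus a' := by rw [AmpleX.locus_res]; exact ⟨(hpre q).le hz.1, hzD⟩
  have hzb : z ∈ AmpleX.locus b' := by rw [AmpleX.locus_res]; exact ⟨(hpre q').le hz.2, hzD⟩
  let V : X.Opens := AmpleX.locus a' ⊓ AmpleX.locus b'
  have hTa : r ⁻¹ᵁ (em ''ᵁ Proj.basicOpen (𝒮.deg D hD) (jsec j a')) = AmpleX.locus a' :=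
    preimage_gen hE hS hP hr hcov hD a'
  have hTb : r ⁻¹ᵁ (em ''ᵁ Proj.basicOpen (𝒮.deg D hD) (jsec j b')) = AmpleX.locus b' :=
    preimage_gen hE hS hP hr hcov hD b'
  have hVT : V ≤ r ⁻¹ᵁ (em ''ᵁ T) := fun y hy => by
    obtain ⟨u, hu, hu'⟩ := hTa.ge hy.1
    obtain ⟨v, hv, hv'⟩ := hTb.ge hy.2
    exact ⟨u, ⟨hu, (em.isOpenEmbedding.injective (hu'.trans hv'.symm)) ▸ hv⟩, hu'⟩
  have hVO : V ≤ r ⁻¹ᵁ (W q ⊓ W q') := hVT.trans (r.preimage_mono hTW)
  refine ⟨V, hVO, ⟨hza, hzb⟩, ?_⟩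
  rw [AModX.res_res, AModX.res_smul, AModX.res_res]
  -- the coordinate function
  have hha := (isSymHom_symHom hE hS hD a').res (inf_le_left : V ≤ AmpleX.locus a')
  have hcoord : AModX.resR hVO (r.app (W q ⊓ W q') c) =
      X.presheaf.map (homOfLE (inf_le_left : V ≤ AmpleX.locus a')).op (symHom hE hS hD a' (jsec j b')) := by
    let w : Away (𝒮.deg D hD) (jsec j a') :=
      Away.mk (𝒮.deg D hD) (jsec_mem hS hD a') 1 (jsec j b') (by rw [one_smul]; exact jsec_mem hS hD b')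
    let s := (Proj.awayToSection (𝒮.deg D hD) (jsec j a')).hom w
    have hT1 : T ≤ Proj.basicOpen (𝒮.deg D hD) (jsec j a') := inf_le_left
    have hcT : em.appLE (W q ⊓ W q') T (fun y hy => hTW ⟨y, hy, rfl⟩) c = AModX.resR hT1 s := by
      refine Subtype.ext (funext fun y => HomogeneousLocalization.val_injective _ ?_)
      have hyW : em y.1 ∈ em ''ᵁ T := ⟨y.1, y.2, rfl⟩
      have h1 := congrArg (fun t => GrTwist.val (V := RelTwistX.pre p chart D hD (em ''ᵁ T))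
        ((lam D hD).app (em ''ᵁ T) (AModX.res O1 hTW t)) ⟨y.1, hyW⟩) hc
      rw [AModX.res_smul, AModX.res_res, AModX.res_res, RelTwistX.val_smul_sc,
        hev q' D hD g' _ (hTW.trans inf_le_right) ⟨y.1, hyW⟩ (by
          rw [show 𝒮.res q'.1.2 hD g'.le (jsec j q'.2) = _ from jsec_res g'.le q'.2]; exact y.2.2),
        hev q D hD g _ (hTW.trans inf_le_left) ⟨y.1, hyW⟩ (by
          rw [show 𝒮.res q.1.2 hD g.le (jsec j q.2) = _ from jsec_res g.le q.2]; exact y.2.1),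
        RelTwistX.zVal_congr (show 𝒮.res q'.1.2 hD g'.le (jsec j q'.2) = jsec j b' from jsec_res g'.le q'.2) _ y.2.2,
        RelTwistX.zVal_congr (show 𝒮.res q.1.2 hD g.le (jsec j q.2) = jsec j a' from jsec_res g.le q.2) _ y.2.1] at h1
      have h2 : RelTwistX.sc chart hD (AModX.resR hTW c) ⟨y.1, hyW⟩ =
          ((em.appLE (W q ⊓ W q') T (fun y hy => hTW ⟨y, hy, rfl⟩) c : GrTwist.O (𝒜 := 𝒮.deg D hD) (op T)).1 y).val := by
        rw [RelTwistX.sc_res]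
        rfl
      rw [h2] at h1
      refine (eq_mk_of_zVal y.2.1 y.2.2 _ h1).symm.trans ?_
      exact (GrModX.oval_awayToSection (𝒮.deg D hD) (jsec_mem hS hD a') 1 _ ⟨y.1, y.2.1⟩).symm
    have hu : IsUnit (((X.presheaf.map (homOfLE (inf_le_left : V ≤ AmpleX.locus a')).op).hom.comp
        (symHom hE hS hD a')) (jsec j a')) := by rw [hha.apply_gen]; exact isUnit_one
    let ρ := rLoc (𝒮.deg D hD) ((X.presheaf.map (homOfLE (inf_le_left : V ≤ AmpleX.locus a')).op).hom.comp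
      (symHom hE hS hD a')) (jsec_mem hS hD a') one_pos hu
    have hρ : V.ι ≫ r = ρ ≫ em := by
      rw [← Scheme.homOfLE_ι X (inf_le_left : V ≤ AmpleX.locus a'), Category.assoc, hr, chartMor, ← Category.assoc,
        rLoc_homOfLE]
    have htop : (⊤ : V.toScheme.Opens) ≤ ρ ⁻¹ᵁ T := fun y _ => by
      have h3 : em (ρ y) ∈ em ''ᵁ T := by
        rw [← Scheme.Hom.comp_apply, ← hρ]; exact hVT y.2
      obtain ⟨u, hu, hue⟩ := h3
      exact (show ρ y ∈ T from (em.isOpenEmbedding.injective hue) ▸ hu)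
    have hmk : awayHom (𝒮.deg D hD) ((X.presheaf.map (homOfLE (inf_le_left : V ≤ AmpleX.locus a')).op).hom.comp
        (symHom hE hS hD a')) hu w =
        X.presheaf.map (homOfLE (inf_le_left : V ≤ AmpleX.locus a')).op (symHom hE hS hD a' (jsec j b')) := by
      have := awayHom_mk_mul _ (jsec_mem hS hD a') hu 1 (jsec j b') (by rw [one_smul]; exact jsec_mem hS hD b')
      rwa [hha.apply_gen, one_pow, mul_one] at this
    apply (ConcreteCategory.bijective_of_isIso V.topIso.inv).1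
    have h5 := congr($(rLoc_appLE (𝒜 := 𝒮.deg D hD) _ (jsec_mem hS hD a') one_pos hu (htop.trans (ρ.preimage_mono hT1))) w)
    rw [← hmk]
    refine Eq.trans ?_ (h5.trans rfl)
    rw [show AModX.resR hVO (r.app (W q ⊓ W q') c) = r.appLE (W q ⊓ W q') V hVO c from rfl]
    have h4 : r.appLE (W q ⊓ W q') V hVO ≫ V.topIso.inv =
        em.appLE (W q ⊓ W q') T (fun y hy => hTW ⟨y, hy, rfl⟩) ≫ ρ.appLE T ⊤ htop := by
      rw [Scheme.Hom.appLE_comp_appLE]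
      simp only [← hρ]
      simp [Scheme.Hom.appLE, Scheme.Opens.topIso, ← Functor.map_comp]
      rfl
    refine (congr($h4 c)).trans ?_
    show ρ.appLE T ⊤ htop (em.appLE _ T _ c) = _
    rw [hcT]
    show ((Proj (𝒮.deg D hD)).presheaf.map _ ≫ ρ.appLE T ⊤ htop) s = _
    rw [Scheme.Hom.map_appLE]
    rfl
  rw [hcoord]
  have := hha.2 b'
  rw [AModX.res_res, AModX.res_res] at this
  exact this

end Groth.Agent.VeryAmpleX
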