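import Groth.Agent.VeryAmpleX.CriterionApps
import Groth.Agent.VeryAmple.Main
import Groth.Agent.AmpleFamGen.ExtendOn

/-!
# Coordinates for a composite
-/

noncomputable section

universe u

open CategoryTheory CategoryTheory.Limits AlgebraicGeometry TopologicalSpace Opposite

set_option backward.isDefEq.respectTransparency false
set_option backward.isDefEq.respectTransparency.types false
set_option linter.style.haveILetI false
set_option linter.unusedSectionVars false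
set_option maxHeartbeats 1600000

namespace Groth.Agent.VeryAmpleX

open Groth.Agent
open Groth.Agent.H23.PicMul

theorem isCompact_locus {X : Scheme.{u}} [QuasiSeparatedSpace X] {L : X.Modules} (hL : PicF.IsInvertible L)
    {O : X.Opens} (hO : IsCompact (O : Set X)) (s : Γ(L, O)) : IsCompact (AmpleX.locus s : Set X) := by
  have hloc : ∀ x : O, ∃ (U : X.Opens) (_ : IsAffineOpen U) (_ : x.1 ∈ U) (_ : U ≤ O) (e : Γ(L, U)), InvX.IsFrame e :=
    fun x => by
    obtain ⟨U, hxU, e, he⟩ := InvX.exists_frame hL x.1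
    obtain ⟨W, hW, hxW, hle⟩ := exists_isAffineOpen_mem_and_subset (x := x.1) (U := U ⊓ O) ⟨hxU, x.2⟩
    exact ⟨W, hW, hxW, hle.trans inf_le_right, _, he.res (hle.trans inf_le_left)⟩
  choose U hU hxU hUO e he using hloc
  obtain ⟨S, hS⟩ := hO.elim_finite_subcover (fun x => (U x : Set X)) (fun x => (U x).2)
    (fun x hx => Set.mem_iUnion.2 ⟨⟨x, hx⟩, hxU ⟨x, hx⟩⟩)
  have he' : (AmpleX.locus s : Set X) = ⋃ x ∈ S, ((AmpleX.locus s ⊓ U x : X.Opens) : Set X) := by
    refine Set.Subset.antisymm (fun z hz => ?_) (Set.iUnion₂_subset fun x _ z hz => hz.1)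
    obtain ⟨x, hx, hzx⟩ := Set.mem_iUnion₂.1 (hS (AmpleX.locus_le s hz))
    exact Set.mem_iUnion₂.2 ⟨x, hx, hz, hzx⟩
  rw [he']
  refine S.finite_toSet.isCompact_biUnion fun x _ => ?_
  obtain ⟨g, hg⟩ := (he x).exists_coord le_rfl (AModX.res L (hUO x) s)
  rw [AModX.res_self] at hg
  rw [AmpleX.locus_inf s (hUO x) (he x) hg]
  exact ((hU x).basicOpen g).isCompact

variable {X Y Z : Scheme.{u}}

/-- Near a point, coordinates for `f` and for `g` give coordinates for the composite after a twist. -/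
theorem ImmAt.exists_comp [QuasiSeparatedSpace X] (f : X ⟶ Y) [LocallyOfFiniteType f] (g : Y ⟶ Z)
    [QuasiCompact (f ≫ g)] {L : X.Modules} (hL : PicF.IsInvertible L) {K : Y.Modules} (hK : PicF.IsInvertible K)
    {x : X} (hf : ImmAt f L x) (hg : ImmAt g K (f x)) :
    ∃ (n : ℕ) (B : X.Opens) (U : Z.Opens) (s : Γ((Scheme.Modules.pullback f).obj K, (f ≫ g) ⁻¹ᵁ U)),
      x ∈ B ∧ B ≤ AmpleX.locus s ∧
      ∀ y ∈ B, ImmAt (f ≫ g)
        (CohB1.tensorMod (CohB1.tensorMod L (CohB1.tensorPow ((Scheme.Modules.pullback f).obj K) n))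
          ((Scheme.Modules.pullback f).obj K)) y := by
  classical
  let P := (Scheme.Modules.pullback f).obj K
  have hP : PicF.IsInvertible P := PicClLib.isInvertible_pullback f hK
  obtain ⟨U₀, hU₀, a₀, g₀, -, hxg₀, hc₀⟩ := hf.exists_coords (V := ⊤) trivial
  have hxU₀ : f x ∈ U₀ := AmpleX.locus_le a₀ (X.basicOpen_le g₀ hxg₀)
  obtain ⟨U, hU, b, G, -, hG, hyG, hGU, hGaff, hGs⟩ := hg.base (O := U₀) hxU₀ (V := ⊤) trivial
  let YG : Y.Opens := Y.basicOpen G
  let D : X.Opens := f ⁻¹ᵁ YG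
  let a : Γ(L, D) := AModX.res L (f.preimage_mono hGU) a₀
  have hla₀ : AmpleX.locus a = AmpleX.locus a₀ ⊓ D := AmpleX.locus_res a₀ _
  obtain ⟨ga, hxga, hga, hgaaff, hgas⟩ := hc₀.exists_transfer (f' := f) (L' := L) (U' := YG) (a' := a)
    (hla₀.le.trans inf_le_left) (fun H hH => secFns_res hGU a₀ _ hH) hxg₀
    (hla₀.ge ⟨X.basicOpen_le g₀ hxg₀, hyG⟩)
  -- finitely many sections suffice
  have hbase : X.basicOpen ga ≤ f ⁻¹ᵁ YG := (X.basicOpen_le ga).trans (AmpleX.locus_le a)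
  obtain ⟨gens, hgens⟩ := VeryAmple.exists_generators (S := Y) hgaaff hGaff f hbase
  choose k₁ H₁ hH₁ hk₁ using fun c : Γ(X, X.basicOpen ga) => hgas c
  let C : Set Γ(X, AmpleX.locus a) := Set.range (f.appLE YG (AmpleX.locus a) (AmpleX.locus_le a)).hom
  let N : Γ(L, D) → Set Γ(X, AmpleX.locus a) := fun m =>
    {c | AModX.res L (AmpleX.locus_le a) m = c • AModX.res L (AmpleX.locus_le a) a}
  have hsec : secFns f L a ≤ Subring.closure (C ∪ ⋃ m, N m) := Subring.closure_mono (by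
    rintro c (hc | ⟨m, hm⟩)
    · exact Or.inl hc
    · exact Or.inr (Set.mem_iUnion.2 ⟨m, hm⟩))
  choose! F hF using fun H (hH : H ∈ secFns f L a) => exists_finite_mem_closure C N (hsec hH)
  let F₀ : Finset Γ(L, D) := insert a (F ga ∪ gens.biUnion fun c => F (H₁ c))
  -- sections over the locus of `b`
  let O : X.Opens := f ⁻¹ᵁ (g ⁻¹ᵁ U)
  have hOc : IsCompact (O : Set X) := (f ≫ g).isCompact_preimage hU.isCompact
  let s : Γ(P, O) := InvX.pullElt f b
  have hs : AmpleX.locus s = f ⁻¹ᵁ AmpleX.locus b := AmpleX.locus_pullElt hK f b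
  let T := AmpleX.locus s
  have hTc : IsCompact (T : Set X) := isCompact_locus hP hOc s
  let G0 : Γ(X, T) := (f.appLE (AmpleX.locus b) T hs.le).hom G
  have hbG0 : X.basicOpen G0 = D := by
    show X.basicOpen ((f.appLE _ _ _).hom G) = _
    rw [Scheme.Hom.appLE, CommRingCat.comp_apply, Scheme.basicOpen_res, ← Scheme.preimage_basicOpen]
    exact inf_eq_right.2 ((f.preimage_mono (Y.basicOpen_le G)).trans hs.ge)
  have hDT : D ≤ T := hbG0.ge.trans (X.basicOpen_le _)
  have hext : ∀ m : Γ(L, D), ∃ (j : ℕ) (m' : Γ(L, T)), AModX.res L hDT m' = AModX.resR hDT G0 ^ j • m := by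
    intro m
    obtain ⟨j, t, ht⟩ := QCoh.exists_pow_smul_eq_map_of_isQuasiSeparated (ProjUPX.isQCoh_of_isInvertible hL)
      hTc (IsQuasiSeparated.of_quasiSeparatedSpace _) G0 (AModX.res L hbG0.le m)
    refine ⟨j, t, ?_⟩
    have := congrArg (AModX.res L hbG0.ge)
      (show AModX.res L (X.basicOpen_le G0) t = AModX.resR (X.basicOpen_le G0) G0 ^ j • AModX.res L hbG0.le m from ht)
    rw [AModX.res_res, AModX.res_smul, AModX.res_res, AModX.res_self, map_pow, AModX.resR_resR] at this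
    exact this
  choose j₀ m₀ hm₀ using hext
  let J := F₀.sup j₀
  have hex : ∀ m, ∃ m' : Γ(L, T), m ∈ F₀ → AModX.res L hDT m' = AModX.resR hDT G0 ^ J • m := fun m => by
    refine ⟨G0 ^ (J - j₀ m) • m₀ m, fun hm => ?_⟩
    rw [AModX.res_smul, hm₀, ← mul_smul, map_pow, ← pow_add, Nat.sub_add_cancel (Finset.le_sup hm)]
  choose lift hlift using hex
  choose n₀ hn₀ using fun m : Γ(L, D) => AmpleFamGen.exists_extend_on (ProjUPX.isQCoh_of_isInvertible hL)
    hP hOc s (lift m)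
  let n := F₀.sup n₀
  choose! A hA using fun m (hm : m ∈ F₀) => hn₀ m n (Finset.le_sup hm)
  have haF : a ∈ F₀ := Finset.mem_insert_self _ _
  let M := CohB1.tensorMod (CohB1.tensorMod L (CohB1.tensorPow P n)) P
  have hLn : PicF.IsInvertible (CohB1.tensorMod L (CohB1.tensorPow P n)) :=
    InvX.isInvertible_tensorMod hL (InvX.isInvertible_tensorPow hP n)
  let a' : Γ(M, (f ≫ g) ⁻¹ᵁ U) := InvX.tmul (A a) s
  let Ω := AmpleX.locus a'
  let sn : Γ(CohB1.tensorPow P n, T) := AmpleX.powElt (AModX.res P (AmpleX.locus_le s) s) n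
  have hsn : InvX.IsFrame sn := AmpleX.isFrame_powElt (AmpleX.isFrame_res_locus s) n
  have hΩ : Ω = AmpleX.locus (lift a) := by
    have h1 : AmpleX.locus (AModX.res _ (AmpleX.locus_le s) (A a)) = _ := congrArg AmpleX.locus (hA a haF)
    rw [AmpleX.locus_res, AmpleX.locus_tmul hL (InvX.isInvertible_tensorPow hP n)] at h1
    show AmpleX.locus (InvX.tmul (A a) s) = _
    rw [AmpleX.locus_tmul hLn hP]
    refine h1.trans (inf_eq_left.2 ((AmpleX.locus_le _).trans (AmpleX.le_locus _ le_rfl ?_)))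
    rw [AModX.res_self]
    exact hsn
  have hΩT : Ω ≤ T := hΩ.le.trans (AmpleX.locus_le _)
  have hΩD : Ω ⊓ D = AmpleX.locus a := by
    have h1 := congrArg AmpleX.locus (hlift a haF)
    rw [AmpleX.locus_res, AmpleX.locus_smul hL (AModX.resR hDT G0 ^ J) a] at h1
    rw [hΩ, h1]
    refine inf_eq_left.2 ((AmpleX.locus_le a).trans ?_)
    refine (X.basicOpen_of_isUnit (IsUnit.pow J ?_)).ge
    exact AModX.isUnit_resR hDT G0 hbG0.ge
  have hle : AmpleX.locus a ≤ Ω := hΩD.ge.trans inf_le_left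
  let R := secFns (f ≫ g) M a'
  have hΩO : Ω ≤ O := AmpleX.locus_le a'
  have hfra : InvX.IsFrame (AModX.res L hΩT (lift a)) := AmpleX.isFrame_res_of_le (lift a) hΩ.le
  have hratio : ∀ m ∈ F₀, ∃ c ∈ R, AModX.res L hΩT (lift m) = c • AModX.res L hΩT (lift a) := fun m hm => by
    obtain ⟨c, hc⟩ := hfra.exists_coord le_rfl (AModX.res L hΩT (lift m))
    rw [AModX.res_self] at hc
    refine ⟨c, Subring.subset_closure (Or.inr ⟨InvX.tmul (A m) s, ?_⟩), hc⟩
    have e : ∀ m ∈ F₀, AModX.res (CohB1.tensorMod L (CohB1.tensorPow P n)) hΩO (A m) =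
        InvX.tmul (AModX.res L hΩT (lift m)) (AModX.res _ hΩT sn) := fun m hm => by
      have h1 := congrArg (AModX.res (CohB1.tensorMod L (CohB1.tensorPow P n)) hΩT) (hA m hm)
      rw [AModX.res_res, InvX.res_tmul] at h1
      exact h1
    show AModX.res M _ (InvX.tmul (A m) s) = c • AModX.res M _ (InvX.tmul (A a) s)
    show AModX.res (CohB1.tensorMod _ P) hΩO _ = c • AModX.res (CohB1.tensorMod _ P) hΩO _
    rw [InvX.res_tmul, InvX.res_tmul, e m hm, e a haF, hc, InvX.tmul_smul_left, InvX.tmul_smul_left]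
  let φ : Γ(Y, AmpleX.locus b) →+* Γ(X, Ω) :=
    (f.appLE (AmpleX.locus b) Ω (hΩT.trans hs.le)).hom
  have hφ : ∀ H ∈ secFns g K b, φ H ∈ R := fun H hH => by
    refine (Subring.closure_le (t := R.comap φ)).2 ?_ hH
    rintro c (⟨r, rfl⟩ | ⟨m, hm⟩)
    · refine Subring.subset_closure (Or.inl ⟨r, ?_⟩)
      show _ = (g.appLE _ _ _ ≫ f.appLE _ _ _) r
      rw [Scheme.Hom.appLE_comp_appLE]
    · refine Subring.subset_closure (Or.inr ⟨InvX.tmul (A a) (show Γ(P, O) from InvX.pullElt f m), ?_⟩)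
      have h1 : AModX.res P (hs.ge.trans (AmpleX.locus_le s)) (InvX.pullElt f m) =
          (f.app (AmpleX.locus b)).hom c • AModX.res P (hs.ge.trans (AmpleX.locus_le s)) (InvX.pullElt f b) := by
        have := congrArg (InvX.pullElt f) hm
        rw [InvX.pullElt_smul, ← InvX.res_pullElt, ← InvX.res_pullElt] at this
        exact this
      have h2 := congrArg (AModX.res P (hΩT.trans hs.le)) h1
      rw [AModX.res_smul, AModX.res_res, AModX.res_res] at h2
      show AModX.res (CohB1.tensorMod _ P) hΩO _ = _ • AModX.res (CohB1.tensorMod _ P) hΩO _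
      rw [InvX.res_tmul, InvX.res_tmul]
      exact ((congrArg _ h2).trans (InvX.tmul_smul_right _ _ _))
  let ρ : Γ(X, Ω) →+* Γ(X, AmpleX.locus a) := AModX.resR hle
  let γ := ρ (φ G)
  have hγeq : γ = AModX.resR (hle.trans hΩT) G0 := by
    show (f.appLE _ _ _ ≫ X.presheaf.map _) G = (f.appLE _ _ _ ≫ X.presheaf.map _) G
    rw [Scheme.Hom.appLE_map, Scheme.Hom.appLE_map]
  have hγ : IsUnit γ := hγeq ▸ AModX.isUnit_resR _ G0 ((AmpleX.locus_le a).trans hbG0.ge)
  have hγR : φ G ∈ R := hφ G hG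
  let RG : Subring Γ(X, AmpleX.locus a) :=
    { carrier := {c | ∃ k, ∃ H ∈ R, c * γ ^ k = ρ H}
      mul_mem' := fun {p q} ⟨k, H, hH, e⟩ ⟨l, K', hK', e'⟩ => ⟨k + l, H * K', mul_mem hH hK', by
        rw [map_mul, ← e, ← e', pow_add]; ring⟩
      one_mem' := ⟨0, 1, one_mem _, by rw [pow_zero, mul_one, map_one]⟩
      add_mem' := fun {p q} ⟨k, H, hH, e⟩ ⟨l, K', hK', e'⟩ => ⟨k + l, H * φ G ^ l + K' * φ G ^ k,
        add_mem (mul_mem hH (pow_mem hγR _)) (mul_mem hK' (pow_mem hγR _)), by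
          rw [map_add, map_mul, map_mul, map_pow, map_pow, ← e, ← e', pow_add]; ring⟩
      zero_mem' := ⟨0, 0, zero_mem _, by rw [zero_mul, map_zero]⟩
      neg_mem' := fun {p} ⟨k, H, hH, e⟩ => ⟨k, -H, neg_mem hH, by rw [map_neg, ← e, neg_mul]⟩ }
  have hRGbase : ∀ r, (f.appLE YG (AmpleX.locus a) (AmpleX.locus_le a)).hom r ∈ RG := fun r => by
    obtain ⟨k, H, hH, e⟩ := hGs r
    refine ⟨k, φ H, hφ H hH, ?_⟩
    have e1 := congrArg (f.appLE YG (AmpleX.locus a) (AmpleX.locus_le a)).hom e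
    rw [map_mul, map_pow] at e1
    have key : ∀ u : Γ(Y, AmpleX.locus b),
        (f.appLE YG (AmpleX.locus a) (AmpleX.locus_le a)).hom (AModX.resR (Y.basicOpen_le G) u) = ρ (φ u) := fun u => by
      show (Y.presheaf.map _ ≫ f.appLE _ _ _) u = (f.appLE _ _ _ ≫ X.presheaf.map _) u
      rw [Scheme.Hom.map_appLE, Scheme.Hom.appLE_map]
    rw [key, key] at e1
    exact e1
  have hRG : ∀ F' ⊆ F₀, Subring.closure (C ∪ ⋃ m ∈ F', N m) ≤ RG := fun F' hF' => by
    refine Subring.closure_le.2 ?_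
    rintro c (⟨r, rfl⟩ | hc)
    · exact hRGbase r
    · obtain ⟨m, hm, hcm⟩ := Set.mem_iUnion₂.1 hc
      obtain ⟨c', hc', e⟩ := hratio m (hF' hm)
      refine ⟨0, c', hc', ?_⟩
      rw [pow_zero, mul_one]
      have e1 := congrArg (AModX.res L hle) e
      rw [AModX.res_smul, AModX.res_res, AModX.res_res] at e1
      have e2 : ∀ m ∈ F₀, AModX.res L (hle.trans hΩT) (lift m) =
          γ ^ J • AModX.res L (AmpleX.locus_le a) m := fun m hm => by
        have := congrArg (AModX.res L (AmpleX.locus_le a)) (hlift m hm)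
        rw [AModX.res_res, AModX.res_smul, map_pow, AModX.resR_resR] at this
        rw [hγeq]
        exact this
      rw [e2 m (hF' hm), e2 a haF, hcm, ← mul_smul, ← mul_smul] at e1
      have e3 := (AmpleX.isFrame_res_locus a).coord_unique le_rfl (by rw [AModX.res_self, e1] :
        (γ ^ J * c) • AModX.res L (le_refl _) (AModX.res L (AmpleX.locus_le a) a) =
          (ρ c' * γ ^ J) • AModX.res L (le_refl _) (AModX.res L (AmpleX.locus_le a) a))
      exact (hγ.pow J).mul_left_cancel (e3.trans (mul_comm _ _))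
  have hgaRG : ga ∈ RG := hRG (F ga) (fun m hm => Finset.mem_insert_of_mem (Finset.mem_union_left _ hm)) (hF ga hga)
  obtain ⟨k₀, gh, hgh, egh⟩ := hgaRG
  obtain ⟨g', hg'def⟩ : ∃ g', g' = gh * φ G := ⟨_, rfl⟩
  have hg' : g' ∈ R := hg'def ▸ mul_mem hgh hγR
  have hb' : X.basicOpen g' = X.basicOpen ga := by
    have h1 : X.basicOpen (φ G) = AmpleX.locus a := by
      show X.basicOpen ((f.appLE _ _ _).hom G) = _
      rw [Scheme.Hom.appLE, CommRingCat.comp_apply, Scheme.basicOpen_res, ← Scheme.preimage_basicOpen]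
      exact hΩD
    have h2 : X.basicOpen (ρ gh) = X.basicOpen ga := by
      rw [← egh, Scheme.basicOpen_mul, X.basicOpen_of_isUnit (hγ.pow k₀)]
      exact inf_eq_left.2 (X.basicOpen_le ga)
    rw [hg'def, Scheme.basicOpen_mul, h1, ← h2]
    show _ = X.basicOpen (X.presheaf.map _ gh)
    rw [Scheme.basicOpen_res, inf_comm]
  let ψ : Γ(X, X.basicOpen ga) →+* Γ(X, X.basicOpen g') := AModX.resR hb'.le
  let σ : Γ(X, Ω) →+* Γ(X, X.basicOpen g') := AModX.resR (X.basicOpen_le g')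
  let T₁ : Subring Γ(X, X.basicOpen g') :=
    { carrier := {c | ∃ k, ∃ H ∈ R, c * σ g' ^ k = σ H}
      mul_mem' := fun {p q} ⟨k, H, hH, e⟩ ⟨l, K', hK', e'⟩ => ⟨k + l, H * K', mul_mem hH hK', by
        rw [map_mul, ← e, ← e', pow_add]; ring⟩
      one_mem' := ⟨0, 1, one_mem _, by rw [pow_zero, mul_one, map_one]⟩
      add_mem' := fun {p q} ⟨k, H, hH, e⟩ ⟨l, K', hK', e'⟩ => ⟨k + l, H * g' ^ l + K' * g' ^ k,
        add_mem (mul_mem hH (pow_mem hg' _)) (mul_mem hK' (pow_mem hg' _)), by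
          rw [map_add, map_mul, map_mul, map_pow, map_pow, ← e, ← e', pow_add]; ring⟩
      zero_mem' := ⟨0, 0, zero_mem _, by rw [zero_mul, map_zero]⟩
      neg_mem' := fun {p} ⟨k, H, hH, e⟩ => ⟨k, -H, neg_mem hH, by rw [map_neg, ← e, neg_mul]⟩ }
  let τ : Γ(X, AmpleX.locus a) →+* Γ(X, X.basicOpen g') :=
    AModX.resR (hb'.le.trans (X.basicOpen_le ga))
  have hτ : ∀ u, τ (ρ u) = σ u := fun u => AModX.resR_resR _ _ u
  have hσg' : σ g' = σ gh * σ (φ G) := (congrArg σ hg'def).trans (map_mul σ gh (φ G))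
  have hT₁ : ∀ u ∈ RG, τ u ∈ T₁ := fun u hu => by
    obtain ⟨k, H, hH, e⟩ := hu
    refine ⟨k, H * gh ^ k, mul_mem hH (pow_mem hgh _), ?_⟩
    have e1 := congrArg τ e
    rw [map_mul, map_pow, hτ, hτ] at e1
    rw [hσg', map_mul, map_pow, ← e1]
    ring
  have hga' : τ ga * σ (φ G) ^ k₀ = σ gh := by
    have e1 := congrArg τ egh
    rwa [map_mul, map_pow, hτ, hτ] at e1
  have htop : T₁.comap ψ = ⊤ := by
    refine hgens _ ?_ fun c hc => ?_
    · rintro _ ⟨r, rfl⟩
      show ψ _ ∈ T₁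
      have : ψ ((f.appLE YG (X.basicOpen ga) hbase).hom r) =
          τ ((f.appLE YG (AmpleX.locus a) (AmpleX.locus_le a)).hom r) := by
        show (f.appLE _ _ _ ≫ X.presheaf.map _) r = (f.appLE _ _ _ ≫ X.presheaf.map _) r
        rw [Scheme.Hom.appLE_map, Scheme.Hom.appLE_map]
      rw [this]
      exact hT₁ _ (hRGbase r)
    · show ψ c ∈ T₁
      have hH : H₁ c ∈ RG := hRG (F (H₁ c))
        (fun m hm => Finset.mem_insert_of_mem (Finset.mem_union_right _ (Finset.mem_biUnion.2 ⟨c, hc, hm⟩)))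
        (hF _ (hH₁ c))
      obtain ⟨l, H, hHR, e⟩ := hT₁ _ hH
      have e1 := congrArg ψ (hk₁ c)
      rw [map_mul, map_pow] at e1
      have e2 : ∀ u, ψ (AModX.resR (X.basicOpen_le ga) u) = τ u := fun u => AModX.resR_resR _ _ u
      rw [e2, e2] at e1
      refine ⟨k₁ c + l, H * φ G ^ (k₀ * k₁ c + k₁ c), mul_mem hHR (pow_mem hγR _), ?_⟩
      rw [map_mul, map_pow σ (φ G), ← e, ← e1, hσg', ← hga']
      ring
  refine ⟨n, X.basicOpen g', U, s, hb'.ge hxga, (X.basicOpen_le g').trans hΩT, fun y hy => ?_⟩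
  refine ⟨U, hU, a', g', hg', hy, hb' ▸ hgaaff, fun c => ?_⟩
  obtain ⟨k, H, hH, e⟩ := (htop.ge (Subring.mem_top (AModX.resR hb'.ge c)) : ψ (AModX.resR hb'.ge c) ∈ T₁)
  refine ⟨k, H, hH, ?_⟩
  rw [show c = ψ (AModX.resR hb'.ge c) by rw [AModX.resR_resR, AModX.resR_self]]
  exact e

end Groth.Agent.VeryAmpleX
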