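import Groth.Agent.VeryAmpleX.Criterion
import Groth.Agent.RingPO.Props2

/-!
# Operations on coordinates given by sections
-/

noncomputable section

universe u

open CategoryTheory CategoryTheory.Limits AlgebraicGeometry TopologicalSpace Opposite

set_option backward.isDefEq.respectTransparency false
set_option backward.isDefEq.respectTransparency.types false
set_option linter.style.haveILetI false
set_option linter.unusedSectionVars false
set_option maxHeartbeats 800000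

namespace Groth.Agent.VeryAmpleX

open Groth.Agent

variable {X S : Scheme.{u}} {f : X ⟶ S} {L : X.Modules}

/-- The witness as a bundled statement. -/
def HasCoords (f : X ⟶ S) (L : X.Modules) {U : S.Opens} (a : Γ(L, f ⁻¹ᵁ U)) (g : Γ(X, AmpleX.locus a)) : Prop :=
  g ∈ secFns f L a ∧ IsAffineOpen (X.basicOpen g) ∧
    ∀ c : Γ(X, X.basicOpen g), ∃ (k : ℕ) (H : Γ(X, AmpleX.locus a)), H ∈ secFns f L a ∧
      c * AModX.resR (X.basicOpen_le g) g ^ k = AModX.resR (X.basicOpen_le g) H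

/-- Coordinates pass to a section with smaller locus and more functions. -/
theorem HasCoords.exists_transfer {T : Scheme.{u}} {f' : X ⟶ T} {L' : X.Modules} {U : S.Opens} {a : Γ(L, f ⁻¹ᵁ U)}
    {g : Γ(X, AmpleX.locus a)} (h : HasCoords f L a g) {U' : T.Opens}
    {a' : Γ(L', f' ⁻¹ᵁ U')} (hle : AmpleX.locus a' ≤ AmpleX.locus a)
    (hmap : ∀ H, H ∈ secFns f L a → AModX.resR hle H ∈ secFns f' L' a')
    {x : X} (hxg : x ∈ X.basicOpen g) (hx : x ∈ AmpleX.locus a') :
    ∃ g', x ∈ X.basicOpen g' ∧ HasCoords f' L' a' g' := by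
  obtain ⟨hg, haff, hs⟩ := h
  obtain ⟨v, hv, hxv⟩ := haff.exists_basicOpen_le (V := AmpleX.locus a') ⟨x, hx⟩ hxg
  obtain ⟨k, H, hH, hvH⟩ := hs v
  have hb : X.basicOpen (g * H) = X.basicOpen v := by
    have h1 := congrArg X.basicOpen hvH
    rw [Scheme.basicOpen_mul, AModX.resR, Scheme.basicOpen_res] at h1
    rw [Scheme.basicOpen_mul]
    refine le_antisymm ?_ (le_inf (X.basicOpen_le v) ?_)
    · rw [← h1]; exact inf_le_left
    · refine le_trans ?_ (inf_le_right : X.basicOpen g ⊓ X.basicOpen H ≤ _)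
      rw [← h1]
      refine le_inf le_rfl ((X.basicOpen_le v).trans ?_)
      exact (X.basicOpen_of_isUnit ((AModX.isUnit_resR (X.basicOpen_le g) g le_rfl).pow k)).ge
  let g' := AModX.resR hle (g * H)
  have hbg : X.basicOpen g' = X.basicOpen v := by
    rw [show g' = X.presheaf.map (homOfLE hle).op (g * H) from rfl, Scheme.basicOpen_res, hb]
    exact inf_eq_right.2 hv
  refine ⟨g', hbg ▸ hxv, hmap _ (mul_mem hg hH), hbg ▸ haff.basicOpen v, ?_⟩
  intro c
  have hDv : X.basicOpen g' ≤ X.basicOpen g := hbg.le.trans (X.basicOpen_le v)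
  have := haff.isLocalization_of_eq_basicOpen v (homOfLE hDv) hbg
  letI := (X.presheaf.map (homOfLE hDv).op).hom.toAlgebra
  obtain ⟨⟨c₀, ⟨_, n, rfl⟩⟩, hc⟩ := IsLocalization.surj (Submonoid.powers v) c
  obtain ⟨l, H₀, hH₀, hc₀⟩ := hs c₀
  refine ⟨n + l, AModX.resR hle (H₀ * g ^ (k * n + n) * H ^ l),
    hmap _ (mul_mem (mul_mem hH₀ (pow_mem hg _)) (pow_mem hH _)), ?_⟩
  let ρ := (X.presheaf.map (homOfLE ((X.basicOpen_le g').trans hle)).op).hom
  have h2 : X.presheaf.map (homOfLE hDv).op v * ρ g ^ k = ρ H := by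
    have := congrArg (AModX.resR hDv) hvH
    rw [map_mul, map_pow, AModX.resR_resR, AModX.resR_resR] at this
    exact this
  have h3 : X.presheaf.map (homOfLE hDv).op c₀ * ρ g ^ l = ρ H₀ := by
    have := congrArg (AModX.resR hDv) hc₀
    rw [map_mul, map_pow, AModX.resR_resR, AModX.resR_resR] at this
    exact this
  have hc' : c * X.presheaf.map (homOfLE hDv).op v ^ n = X.presheaf.map (homOfLE hDv).op c₀ := by
    rw [← map_pow]; exact hc
  rw [AModX.resR_resR, AModX.resR_resR]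
  show c * ρ (g * H) ^ (n + l) = ρ (H₀ * g ^ (k * n + n) * H ^ l)
  simp only [map_mul, map_pow, ← h3, ← hc', ← h2]
  simp only [mul_pow, ← pow_mul, pow_add]
  ring

theorem HasCoords.transfer {T : Scheme.{u}} {f' : X ⟶ T} {L' : X.Modules} {U : S.Opens} {a : Γ(L, f ⁻¹ᵁ U)}
    {g : Γ(X, AmpleX.locus a)} (h : HasCoords f L a g) {U' : T.Opens} (hU' : IsAffineOpen U')
    {a' : Γ(L', f' ⁻¹ᵁ U')} (hle : AmpleX.locus a' ≤ AmpleX.locus a)
    (hmap : ∀ H, H ∈ secFns f L a → AModX.resR hle H ∈ secFns f' L' a')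
    {x : X} (hxg : x ∈ X.basicOpen g) (hx : x ∈ AmpleX.locus a') : ImmAt f' L' x := by
  obtain ⟨g', hx', hg', haff, hs⟩ := h.exists_transfer hle hmap hxg hx
  exact ⟨U', hU', a', g', hg', hx', haff, hs⟩

theorem ImmAt.exists_coords {x : X} (h : ImmAt f L x) {V : S.Opens} (hV : f x ∈ V) :
    ∃ (U : S.Opens) (_ : IsAffineOpen U) (a : Γ(L, f ⁻¹ᵁ U)) (g : Γ(X, AmpleX.locus a)),
      U ≤ V ∧ x ∈ X.basicOpen g ∧ HasCoords f L a g := by
  obtain ⟨U, hU, a, g, hUV, hg, hxg, -, haff, hs⟩ := h.base (Opens.mem_top x) hV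
  exact ⟨U, hU, a, g, hUV, hxg, hg, haff, hs⟩

/-- Coordinates relative to the composite give coordinates relative to the first map. -/
theorem ImmAt.of_comp {Z : Scheme.{u}} {q : S ⟶ Z} {x : X} (h : ImmAt (f ≫ q) L x) : ImmAt f L x := by
  obtain ⟨W, hW, a, g, -, hxg, hc⟩ := h.exists_coords (V := ⊤) trivial
  have hxW : f x ∈ q ⁻¹ᵁ W := AmpleX.locus_le a (X.basicOpen_le g hxg)
  obtain ⟨U, hU, hxU, hUW⟩ := exists_isAffineOpen_mem_and_subset (x := f x) (U := q ⁻¹ᵁ W) hxW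
  have hUW' : f ⁻¹ᵁ U ≤ (f ≫ q) ⁻¹ᵁ W := f.preimage_mono hUW
  let a' := AModX.res L hUW' a
  have hla : AmpleX.locus a' = AmpleX.locus a ⊓ f ⁻¹ᵁ U := AmpleX.locus_res a _
  have hle : AmpleX.locus a' ≤ AmpleX.locus a := hla.le.trans inf_le_left
  refine hc.transfer hU (a' := a') hle (fun H hH => ?_) hxg (hla.ge ⟨X.basicOpen_le g hxg, hxU⟩)
  refine (Subring.closure_le (t := (secFns f L a').comap (X.presheaf.map (homOfLE hle).op).hom)).2 ?_ hH
  rintro c (⟨r, rfl⟩ | ⟨m, hm⟩)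
  · refine Subring.subset_closure (Or.inl ⟨(q.appLE W U hUW).hom r, ?_⟩)
    rw [← CommRingCat.comp_apply, ← CommRingCat.comp_apply, Scheme.Hom.appLE_comp_appLE, Scheme.Hom.appLE_map]
  · refine Subring.subset_closure (Or.inr ⟨AModX.res L hUW' m, ?_⟩)
    have := congrArg (AModX.res L hle) hm
    rw [AModX.res_res, AModX.res_smul, AModX.res_res] at this
    rw [AModX.res_res, AModX.res_res]
    exact this

/-- Tensoring with a module having a section generating at `x`. -/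
theorem ImmAt.tensor {M : X.Modules} (hL : PicF.IsInvertible L) (hM : PicF.IsInvertible M) {x : X}
    (h : ImmAt f L x) {V : S.Opens} (b : Γ(M, f ⁻¹ᵁ V)) (hxb : x ∈ AmpleX.locus b) :
    ImmAt f (CohB1.tensorMod L M) x := by
  obtain ⟨U, hU, a, g, hUV, hxg, hc⟩ := h.exists_coords (V := V) (AmpleX.locus_le b hxb)
  let b' := AModX.res M (f.preimage_mono hUV) b
  let a' : Γ(CohB1.tensorMod L M, f ⁻¹ᵁ U) := InvX.tmul a b'
  have hla : AmpleX.locus a' = AmpleX.locus a ⊓ AmpleX.locus b' := AmpleX.locus_tmul hL hM a b'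
  have hle : AmpleX.locus a' ≤ AmpleX.locus a := hla.le.trans inf_le_left
  have hxb' : x ∈ AmpleX.locus b' := by
    rw [AmpleX.locus_res]
    exact ⟨hxb, AmpleX.locus_le a (X.basicOpen_le g hxg)⟩
  refine hc.transfer hU (a' := a') hle (fun H hH => ?_) hxg (hla.ge ⟨X.basicOpen_le g hxg, hxb'⟩)
  refine (Subring.closure_le (t := (secFns f (CohB1.tensorMod L M) a').comap
    (X.presheaf.map (homOfLE hle).op).hom)).2 ?_ hH
  rintro c (⟨r, rfl⟩ | ⟨m, hm⟩)
  · refine Subring.subset_closure (Or.inl ⟨r, ?_⟩)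
    rw [← CommRingCat.comp_apply, Scheme.Hom.appLE_map]
  · refine Subring.subset_closure (Or.inr ⟨InvX.tmul m b', ?_⟩)
    have := congrArg (AModX.res L hle) hm
    rw [AModX.res_res, AModX.res_smul, AModX.res_res] at this
    rw [InvX.res_tmul, InvX.res_tmul, this, InvX.tmul_smul_left]
    rfl

theorem subring_eq_top_of_isPushout {A B C D : CommRingCat.{u}} {a : A ⟶ B} {b : A ⟶ C} {c : B ⟶ D} {d : C ⟶ D}
    (h : IsPushout a b c d) (T : Subring D) (hc : ∀ x, c x ∈ T) (hd : ∀ x, d x ∈ T) : T = ⊤ := by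
  let c' : B ⟶ CommRingCat.of T := CommRingCat.ofHom (c.hom.codRestrict T hc)
  let d' : C ⟶ CommRingCat.of T := CommRingCat.ofHom (d.hom.codRestrict T hd)
  have hw : a ≫ c' = b ≫ d' := CommRingCat.hom_ext (RingHom.ext fun x => Subtype.ext (congr($(h.w) x)))
  let ι : CommRingCat.of T ⟶ D := CommRingCat.ofHom T.subtype
  have : h.desc c' d' hw ≫ ι = 𝟙 D := h.hom_ext (by rw [h.inl_desc_assoc, Category.comp_id]; rfl)
    (by rw [h.inr_desc_assoc, Category.comp_id]; rfl)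
  refine top_le_iff.1 fun z _ => ?_
  have hz := congr($this z)
  rw [show z = _ from hz.symm]
  exact (h.desc c' d' hw z).2

/-- Base change. -/
theorem ImmAt.baseChange {X' S' : Scheme.{u}} {g₀ : S' ⟶ S} {g' : X' ⟶ X} {f' : X' ⟶ S'}
    (hsq : IsPullback g' f' f g₀) (hL : PicF.IsInvertible L) {x : X'} (h : ImmAt f L (g' x)) :
    ImmAt f' ((Scheme.Modules.pullback g').obj L) x := by
  obtain ⟨U, hU, a, g, -, hxg, hg, haff, hs⟩ := h.exists_coords (V := ⊤) trivial
  have hxU : g₀ (f' x) ∈ U := by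
    rw [← Scheme.Hom.comp_apply, ← hsq.w, Scheme.Hom.comp_apply]
    exact AmpleX.locus_le a (X.basicOpen_le g hxg)
  obtain ⟨U', hU', hxU', hUU'⟩ := exists_isAffineOpen_mem_and_subset (x := f' x) (U := g₀ ⁻¹ᵁ U) hxU
  have hpre : f' ⁻¹ᵁ U' ≤ g' ⁻¹ᵁ (f ⁻¹ᵁ U) := by
    rw [← Scheme.Hom.comp_preimage, hsq.w, Scheme.Hom.comp_preimage]
    exact f'.preimage_mono hUU'
  let L' := (Scheme.Modules.pullback g').obj L
  let a' : Γ(L', f' ⁻¹ᵁ U') := AModX.res L' hpre (InvX.pullElt g' a)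
  have hla : AmpleX.locus a' = g' ⁻¹ᵁ AmpleX.locus a ⊓ f' ⁻¹ᵁ U' := by
    rw [AmpleX.locus_res, AmpleX.locus_pullElt hL]
  let φ : Γ(X, AmpleX.locus a) →+* Γ(X', AmpleX.locus a') :=
    (g'.appLE (AmpleX.locus a) (AmpleX.locus a') (hla.le.trans inf_le_left)).hom
  have hφ : ∀ H ∈ secFns f L a, φ H ∈ secFns f' L' a' := fun H hH => by
    refine (Subring.closure_le (t := (secFns f' L' a').comap φ)).2 ?_ hH
    rintro c (⟨r, rfl⟩ | ⟨m, hm⟩)
    · refine Subring.subset_closure (Or.inl ⟨(g₀.appLE U U' hUU').hom r, ?_⟩)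
      show (g₀.appLE _ _ _ ≫ f'.appLE _ _ _) r = (f.appLE _ _ _ ≫ g'.appLE _ _ _) r
      rw [Scheme.Hom.appLE_comp_appLE, Scheme.Hom.appLE_comp_appLE]
      simp only [hsq.w]
    · refine Subring.subset_closure (Or.inr ⟨AModX.res L' hpre (InvX.pullElt g' m), ?_⟩)
      have := congrArg (fun t => AModX.res L' (hla.le.trans inf_le_left) (InvX.pullElt g' t)) hm
      rw [InvX.pullElt_smul, AModX.res_smul, ← InvX.res_pullElt, ← InvX.res_pullElt, AModX.res_res,
        AModX.res_res] at this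
      rw [AModX.res_res, AModX.res_res]
      exact this
  have hb : X'.basicOpen (φ g) = g' ⁻¹ᵁ X.basicOpen g ⊓ f' ⁻¹ᵁ U' := by
    rw [Scheme.preimage_basicOpen]
    show X'.basicOpen ((g'.appLE _ _ _).hom g) = _
    rw [Scheme.Hom.appLE, CommRingCat.comp_apply, Scheme.basicOpen_res, hla]
    refine le_antisymm (le_inf inf_le_right (inf_le_left.trans inf_le_right)) (le_inf (le_inf ?_ inf_le_right) inf_le_left)
    exact inf_le_left.trans (X'.basicOpen_le _)
  have hDU : X.basicOpen g ≤ f ⁻¹ᵁ U := (X.basicOpen_le g).trans (AmpleX.locus_le a)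
  have hres := Scheme.Hom.isPullback_resLE hsq hUU' hDU hb
  haveI : IsAffine (X.basicOpen g).toScheme := haff
  haveI : IsAffine U.toScheme := hU
  haveI : IsAffine U'.toScheme := hU'
  haveI : IsAffine (X'.basicOpen (φ g)).toScheme := IsAffine.of_isIso hres.isoPullback.hom
  haveI : IsAffineHom (f.resLE U (X.basicOpen g) hDU) := inferInstance
  haveI : IsAffineHom (f'.resLE U' (X'.basicOpen (φ g)) (hb.le.trans inf_le_right)) := inferInstance
  have hpo := RingPO.isPushout_appLE_of_isPullback hres.flip (isAffineOpen_top U.toScheme)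
    (isAffineOpen_top U'.toScheme) le_top (isAffineOpen_top (X.basicOpen g).toScheme) rfl
    (isAffineOpen_top (X'.basicOpen (φ g)).toScheme) rfl le_top
  refine ⟨U', hU', a', φ g, hφ g hg, hb.ge ⟨hxg, hxU'⟩, inferInstanceAs (IsAffine _), fun c => ?_⟩
  let G := AModX.resR (X'.basicOpen_le (φ g)) (φ g)
  let T : Subring Γ(X', X'.basicOpen (φ g)) :=
    { carrier := {c | ∃ k, ∃ H ∈ secFns f' L' a', c * G ^ k = AModX.resR (X'.basicOpen_le (φ g)) H}
      mul_mem' := fun {p q} ⟨k, H, hH, e⟩ ⟨l, K, hK, e'⟩ => ⟨k + l, H * K, mul_mem hH hK, by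
        rw [map_mul, ← e, ← e', pow_add]; ring⟩
      one_mem' := ⟨0, 1, one_mem _, by rw [pow_zero, mul_one, map_one]⟩
      add_mem' := fun {p q} ⟨k, H, hH, e⟩ ⟨l, K, hK, e'⟩ => ⟨k + l, H * φ g ^ l + K * φ g ^ k,
        add_mem (mul_mem hH (pow_mem (hφ g hg) _)) (mul_mem hK (pow_mem (hφ g hg) _)), by
          rw [map_add, map_mul, map_mul, map_pow, map_pow, ← e, ← e', pow_add]; ring⟩
      zero_mem' := ⟨0, 0, zero_mem _, by rw [zero_mul, map_zero]⟩
      neg_mem' := fun {p} ⟨k, H, hH, e⟩ => ⟨k, -H, neg_mem hH, by rw [map_neg, ← e, neg_mul]⟩ }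
  suffices hT : T = ⊤ by
    obtain ⟨k, H, hH, e⟩ := (hT.ge (Subring.mem_top c) : c ∈ T)
    exact ⟨k, H, hH, e⟩
  let τ := (X'.basicOpen (φ g)).topIso.inv.hom
  have key : T.map τ = ⊤ := by
    refine subring_eq_top_of_isPushout hpo _ (fun r => ?_) (fun c' => ?_)
    · refine ⟨(f'.appLE U' (X'.basicOpen (φ g)) (hb.le.trans inf_le_right)).hom (U'.topIso.hom r), ?_, ?_⟩
      · refine ⟨0, (f'.appLE U' (AmpleX.locus a') (AmpleX.locus_le a')).hom (U'.topIso.hom r),
          Subring.subset_closure (Or.inl ⟨_, rfl⟩), ?_⟩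
        rw [pow_zero, mul_one]
        show _ = (f'.appLE _ _ _ ≫ X'.presheaf.map _) _
        rw [Scheme.Hom.appLE_map]
      · show (U'.topIso.hom ≫ f'.appLE _ _ _ ≫ (X'.basicOpen (φ g)).topIso.inv) r = _
        congr 2
        simp [Scheme.Opens.topIso, Scheme.Hom.resLE_appLE]
    · obtain ⟨k, H, hH, e⟩ := hs ((X.basicOpen g).topIso.hom c')
      refine ⟨(g'.appLE (X.basicOpen g) (X'.basicOpen (φ g)) (hb.le.trans inf_le_left)).hom
        ((X.basicOpen g).topIso.hom c'), ⟨k, φ H, hφ H hH, ?_⟩, ?_⟩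
      · have key : ∀ u : Γ(X, AmpleX.locus a),
            (g'.appLE (X.basicOpen g) (X'.basicOpen (φ g)) (hb.le.trans inf_le_left)).hom
              (AModX.resR (X.basicOpen_le g) u) = AModX.resR (X'.basicOpen_le (φ g)) (φ u) := fun u => by
          show (X.presheaf.map _ ≫ g'.appLE _ _ _) u = (g'.appLE _ _ _ ≫ X'.presheaf.map _) u
          rw [Scheme.Hom.map_appLE, Scheme.Hom.appLE_map]
        show _ * AModX.resR _ (φ g) ^ k = _
        rw [← key, ← key, ← map_pow, ← map_mul, e]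
      · show ((X.basicOpen g).topIso.hom ≫ g'.appLE _ _ _ ≫ (X'.basicOpen (φ g)).topIso.inv) c' = _
        congr 2
        simp [Scheme.Opens.topIso, Scheme.Hom.resLE_appLE]
  refine top_le_iff.1 fun c _ => ?_
  obtain ⟨c₁, hc₁, e⟩ := key.ge (trivial : τ c ∈ (⊤ : Subring _))
  have e2 : c₁ = c := (ConcreteCategory.bijective_of_isIso (X'.basicOpen (φ g)).topIso.inv).1 e
  exact e2 ▸ hc₁

end Groth.Agent.VeryAmpleX
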