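import Groth.Prelude.Def_RelProj2
import Groth.Agent.VeryAmpleX.AwayMor
import Groth.Agent.VeryAmpleX.Basic
import Groth.Agent.VeryAmpleX.BaseFun
import Groth.Agent.AmpleX.Sect
import Groth.Agent.GrpdLib.LocQuot

/-!
# The morphism to the bundle of the direct image
-/

noncomputable section

universe u

open CategoryTheory CategoryTheory.Limits AlgebraicGeometry TopologicalSpace Opposite HomogeneousLocalization

set_option backward.isDefEq.respectTransparency false
set_option backward.isDefEq.respectTransparency.types false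
set_option linter.style.haveILetI false
set_option linter.unusedSectionVars false

namespace Groth.Agent.VeryAmpleX.Sig

open Groth.Agent Groth.Agent.VeryAmpleX

variable {X S : Scheme.{u}} {f : X ⟶ S} {L : X.Modules} {𝒮 : RelProj.QCGrAlg S}
  {E : S.Modules} {σ : E ⟶ (Scheme.Modules.pushforward f).obj L} {j : E ⟶ 𝒮.toModule}

/-- The image of a section. -/
def sg (σ : E ⟶ (Scheme.Modules.pushforward f).obj L) {U : S.Opens} (m : Γ(E, U)) : Γ(L, f ⁻¹ᵁ U) :=
  σ.app U m

theorem sg_res (σ : E ⟶ (Scheme.Modules.pushforward f).obj L) {U U' : S.Opens} (i : U' ≤ U) (m : Γ(E, U)) :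
    sg σ (AModX.res E i m) = AModX.res L (f.preimage_mono i) (sg σ m) :=
  AModX.app_res σ i m

theorem sg_add (σ : E ⟶ (Scheme.Modules.pushforward f).obj L) {U : S.Opens} (m m' : Γ(E, U)) :
    sg σ (m + m') = sg σ m + sg σ m' :=
  map_add _ m m'

theorem sg_smul (σ : E ⟶ (Scheme.Modules.pushforward f).obj L) {U : S.Opens} (r : Γ(S, U)) (m : Γ(E, U)) :
    sg σ (r • m) = f.app U r • sg σ m :=
  Scheme.Modules.Hom.app_smul σ r m

/-- The generator of a section. -/
def jsec (j : E ⟶ 𝒮.toModule) {U : S.Opens} (m : Γ(E, U)) : 𝒮.presheaf.obj (op U) :=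
  j.val.app (op U) m

theorem jsec_res {U U' : S.Opens} (i : U' ≤ U) (m : Γ(E, U)) :
    (𝒮.presheaf.map (homOfLE i).op).hom (jsec j m) = jsec j (AModX.res E i m) :=
  (congr($(j.mapPresheaf.naturality (homOfLE i).op) m)).symm

theorem jsec_mem (hS : RelProj.IsGrSymAlg _ 𝒮 j) {U : S.Opens} (hU : IsAffineOpen U) (m : Γ(E, U)) :
    jsec j m ∈ 𝒮.deg U hU 1 :=
  hS.2 U hU m

/-- `h` sends a generator to the coordinate of the section in the frame `a`. -/
def IsSymHom (σ : E ⟶ (Scheme.Modules.pushforward f).obj L) (j : E ⟶ 𝒮.toModule) {U : S.Opens} (a : Γ(E, U))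
    {V : X.Opens} (hV : V ≤ AmpleX.locus (sg σ a)) (h : 𝒮.presheaf.obj (op U) →+* Γ(X, V)) : Prop :=
  (∀ r, h ((𝒮.str.app (op U)).hom r) = f.appLE U V (hV.trans (AmpleX.locus_le (sg σ a))) r) ∧
    ∀ m, AModX.res L (hV.trans (AmpleX.locus_le (sg σ a))) (sg σ m) = h (jsec j m) • AModX.res L (hV.trans (AmpleX.locus_le (sg σ a))) (sg σ a)

theorem closure_str_jsec (hE : Coh.IsQCoh E) (hS : RelProj.IsGrSymAlg _ 𝒮 j)
    (U : S.Opens) (hU : IsAffineOpen U) :
    Subring.closure (Set.range (fun r => (𝒮.str.app (op U)).hom r) ∪ Set.range (jsec j (U := U))) = ⊤ := by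
  obtain ⟨e, he, hej⟩ := SymSh.exists_sec hE hS.1 hU
  refine top_unique fun x _ => ?_
  rw [← e.symm_apply_apply x]
  generalize e x = y
  induction y using SymmetricAlgebra.induction with
  | algebraMap r =>
    rw [← he r, e.symm_apply_apply]
    exact Subring.subset_closure (Or.inl ⟨r, rfl⟩)
  | ι m =>
    rw [← hej m, e.symm_apply_apply]
    exact Subring.subset_closure (Or.inr ⟨m, rfl⟩)
  | mul a b ha hb => rw [map_mul]; exact mul_mem ha hb
  | add a b ha hb => rw [map_add]; exact add_mem ha hb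

variable (hE : Coh.IsQCoh E) (hS : RelProj.IsGrSymAlg _ 𝒮 j)

include hE hS in
theorem exists_isSymHom {U : S.Opens} (hU : IsAffineOpen U) (a : Γ(E, U)) {V : X.Opens}
    (hV : V ≤ AmpleX.locus (sg σ a)) : ∃ h, IsSymHom σ j a hV h := by
  obtain ⟨e, he, hej⟩ := SymSh.exists_sec hE hS.1 hU
  let hle : V ≤ f ⁻¹ᵁ U := hV.trans (AmpleX.locus_le (sg σ a))
  letI : Algebra Γ(S, U) Γ(X, V) := (f.appLE U V hle).hom.toAlgebra
  have hfr : InvX.IsFrame (AModX.res L hle (sg σ a)) := AmpleX.isFrame_res_of_le (sg σ a) hV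
  choose co hco using fun m : Γ(E, U) => hfr.exists_coord le_rfl (AModX.res L hle (sg σ m))
  simp only [AModX.res_self] at hco
  have huniq : ∀ {c c' : Γ(X, V)}, c • AModX.res L hle (sg σ a) = c' • AModX.res L hle (sg σ a) → c = c' := fun h' =>
    hfr.coord_unique le_rfl (by simpa only [AModX.res_self] using h')
  let l : E.val.obj (op U) →ₗ[Γ(S, U)] Γ(X, V) :=
    { toFun := co
      map_add' := fun m m' => huniq (by
        rw [add_smul, ← hco, ← hco, ← hco]
        exact (congrArg _ (sg_add σ m m')).trans (map_add _ _ _))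
      map_smul' := fun r m => huniq (by
        show _ = (f.appLE U V hle r * co m) • AModX.res L hle (sg σ a)
        rw [mul_smul, ← hco, ← hco]
        exact (congrArg _ (sg_smul σ r m)).trans (AModX.res_smul hle (f.app U r) (sg σ m))) }
  refine ⟨(SymmetricAlgebra.lift l).toRingHom.comp e.toRingHom, fun r => ?_, fun m => ?_⟩
  · show SymmetricAlgebra.lift l (e _) = _
    rw [he, AlgHom.commutes]
    rfl
  · show _ = SymmetricAlgebra.lift l (e (jsec j m)) • _
    let m' : E.val.obj (op U) := m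
    rw [show e (jsec j m) = SymmetricAlgebra.ι Γ(S, U) _ m' from hej m', SymmetricAlgebra.lift_ι_apply]
    exact hco m

theorem IsSymHom.apply_gen {U : S.Opens} {a : Γ(E, U)} {V : X.Opens} {hV : V ≤ AmpleX.locus (sg σ a)}
    {h : 𝒮.presheaf.obj (op U) →+* Γ(X, V)} (hh : IsSymHom σ j a hV h) : h (jsec j a) = 1 :=
  (AmpleX.isFrame_res_of_le (sg σ a) hV).coord_unique le_rfl (by
    rw [AModX.res_self, one_smul]; exact (hh.2 a).symm)

theorem IsSymHom.res {U : S.Opens} {a : Γ(E, U)} {V V' : X.Opens} {hV : V ≤ AmpleX.locus (sg σ a)}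
    {h : 𝒮.presheaf.obj (op U) →+* Γ(X, V)} (hh : IsSymHom σ j a hV h) (i : V' ≤ V) :
    IsSymHom σ j a (i.trans hV) ((X.presheaf.map (homOfLE i).op).hom.comp h) := by
  refine ⟨fun r => ?_, fun m => ?_⟩
  · show X.presheaf.map (homOfLE i).op (h _) = _
    rw [hh.1, ← CommRingCat.comp_apply, Scheme.Hom.appLE_map]
  · have := congrArg (AModX.res L i) (hh.2 m)
    rw [AModX.res_res, AModX.res_smul, AModX.res_res] at this
    exact this

include hE hS in
theorem IsSymHom.unique {U : S.Opens} (hU : IsAffineOpen U) {a : Γ(E, U)} {V : X.Opens}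
    {hV : V ≤ AmpleX.locus (sg σ a)} {h h' : 𝒮.presheaf.obj (op U) →+* Γ(X, V)} (hh : IsSymHom σ j a hV h)
    (hh' : IsSymHom σ j a hV h') : h = h' := by
  refine RingHom.ext fun x => ?_
  have hx : x ∈ Subring.closure _ := (closure_str_jsec hE hS U hU).ge (trivial : x ∈ (⊤ : Subring _))
  induction hx using Subring.closure_induction with
  | mem y hy =>
    rcases hy with ⟨r, rfl⟩ | ⟨m, rfl⟩
    · exact (hh.1 r).trans (hh'.1 r).symm
    · exact (AmpleX.isFrame_res_of_le (sg σ a) hV).coord_unique le_rfl (by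
        simp only [AModX.res_self]; exact (hh.2 m).symm.trans (hh'.2 m))
  | zero => simp
  | one => simp
  | add p q _ _ hp hq => rw [map_add, map_add, hp, hq]
  | neg p _ hp => rw [map_neg, map_neg, hp]
  | mul p q _ _ hp hq => rw [map_mul, map_mul, hp, hq]

include hE hS in
theorem IsSymHom.scale {U : S.Opens} (hU : IsAffineOpen U) {a b : Γ(E, U)} {V : X.Opens}
    {ha : V ≤ AmpleX.locus (sg σ a)} {hb : V ≤ AmpleX.locus (sg σ b)} {h h' : 𝒮.presheaf.obj (op U) →+* Γ(X, V)}
    (hh : IsSymHom σ j a ha h) (hh' : IsSymHom σ j b hb h') (n : ℕ) (x : 𝒮.presheaf.obj (op U))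
    (hx : x ∈ 𝒮.deg U hU n) : h' x = h' (jsec j a) ^ n * h x := by
  classical
  set w := h' (jsec j a)
  let 𝒜 := 𝒮.deg U hU
  suffices H : ∀ x, ∀ n, h' (GradedRing.proj 𝒜 n x) = w ^ n * h (GradedRing.proj 𝒜 n x) by
    have := H x n
    rwa [GradedRing.proj_apply, DirectSum.decompose_of_mem_same 𝒜 hx] at this
  clear hx x n
  intro x
  have hx : x ∈ AddSubgroup.closure (Submonoid.closure (Set.range (fun r => (𝒮.str.app (op U)).hom r) ∪
      Set.range (jsec j (U := U))) : Set (𝒮.presheaf.obj (op U))) :=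
    Subring.mem_closure_iff.1 ((closure_str_jsec hE hS U hU).ge (trivial : x ∈ (⊤ : Subring _)))
  induction hx using AddSubgroup.closure_induction with
  | mem y hy =>
    have key : ∃ k, y ∈ 𝒜 k ∧ h' y = w ^ k * h y := by
      induction hy using Submonoid.closure_induction with
      | mem z hz =>
        rcases hz with ⟨r, rfl⟩ | ⟨m, rfl⟩
        · exact ⟨0, 𝒮.str_mem U hU r, by rw [pow_zero, one_mul]; exact (hh'.1 r).trans (hh.1 r).symm⟩
        · refine ⟨1, jsec_mem hS hU m, (AmpleX.isFrame_res_of_le (sg σ b) hb).coord_unique le_rfl ?_⟩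
          rw [AModX.res_self, pow_one, mul_comm, mul_smul, ← hh'.2 a, ← hh.2 m, ← hh'.2 m]
      | one => exact ⟨0, SetLike.one_mem_graded 𝒜, by rw [map_one, map_one, pow_zero, mul_one]⟩
      | mul y z _ _ ihy ihz =>
        obtain ⟨k, hk, ey⟩ := ihy
        obtain ⟨l, hl, ez⟩ := ihz
        exact ⟨k + l, SetLike.mul_mem_graded hk hl, by rw [map_mul, map_mul, ey, ez, pow_add]; ring⟩
    obtain ⟨k, hk, e⟩ := key
    intro n
    rcases eq_or_ne k n with rfl | hne
    · rwa [GradedRing.proj_apply, DirectSum.decompose_of_mem_same 𝒜 hk]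
    · rw [GradedRing.proj_apply, DirectSum.decompose_of_mem_ne 𝒜 hk hne, map_zero, map_zero, mul_zero]
  | zero => intro n; rw [map_zero, map_zero, map_zero, mul_zero]
  | add y z _ _ ihy ihz => intro n; rw [map_add, map_add, map_add, ihy, ihz, mul_add]
  | neg y _ ihy => intro n; rw [map_neg, map_neg, map_neg, ihy, mul_neg]

theorem IsSymHom.restrict {U U' : S.Opens} (i : U' ≤ U) {a : Γ(E, U)} {V : X.Opens}
    {hV : V ≤ AmpleX.locus (sg σ a)} {hV' : V ≤ AmpleX.locus (sg σ (AModX.res E i a))}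
    {h' : 𝒮.presheaf.obj (op U') →+* Γ(X, V)} (hh' : IsSymHom σ j (AModX.res E i a) hV' h') :
    IsSymHom σ j a hV (h'.comp (𝒮.presheaf.map (homOfLE i).op).hom) := by
  refine ⟨fun r => ?_, fun m => ?_⟩
  · show h' ((𝒮.presheaf.map (homOfLE i).op).hom ((𝒮.str.app (op U)).hom r)) = _
    rw [show (𝒮.presheaf.map (homOfLE i).op).hom ((𝒮.str.app (op U)).hom r) =
        (𝒮.str.app (op U')).hom (S.presheaf.map (homOfLE i).op r) from
          (congr($(𝒮.str.naturality (homOfLE i).op) r)).symm, hh'.1, ← CommRingCat.comp_apply,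
      Scheme.Hom.map_appLE]
  · show _ = h' ((𝒮.presheaf.map (homOfLE i).op).hom (jsec j m)) • _
    rw [jsec_res]
    have := hh'.2 (AModX.res E i m)
    rw [sg_res, sg_res, AModX.res_res, AModX.res_res] at this
    exact this

/-- The chosen coordinate homomorphism. -/
def symHom {U : S.Opens} (hU : IsAffineOpen U) (a : Γ(E, U)) :
    𝒮.presheaf.obj (op U) →+* Γ(X, AmpleX.locus (sg σ a)) :=
  (exists_isSymHom hE hS hU a le_rfl).choose

theorem isSymHom_symHom {U : S.Opens} (hU : IsAffineOpen U) (a : Γ(E, U)) :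
    IsSymHom σ j a le_rfl (symHom hE hS hU a) :=
  (exists_isSymHom hE hS hU a le_rfl).choose_spec

variable {P : Scheme.{u}} {p : P ⟶ S}
  (chart : ∀ (U : S.Opens) (hU : IsAffineOpen U), (((p ⁻¹ᵁ U : P.Opens) : Scheme.{u}) ≅ Proj (𝒮.deg U hU)))

/-- The morphism to the bundle where `a` is a frame. -/
def chartMor {U : S.Opens} (hU : IsAffineOpen U) (a : Γ(E, U)) : (AmpleX.locus (sg σ a)).toScheme ⟶ P :=
  rLoc (𝒮.deg U hU) (symHom hE hS hU a) (jsec_mem hS hU a) one_pos
    (by rw [show symHom hE hS hU a (jsec j a) = 1 from (isSymHom_symHom hE hS hU a).apply_gen]; exact isUnit_one) ≫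
  RelProj.emb p chart U hU

variable {chart} (hP : RelProj.IsRelProj 𝒮 p chart)

include hP in
theorem chartMor_eq_of_good {U D : S.Opens} (hU : IsAffineOpen U) (hD : IsAffineOpen D) (g : RelTwistX.Good U D)
    (a : Γ(E, U)) {V : X.Opens} (hV : V ≤ AmpleX.locus (sg σ a))
    (hV' : V ≤ AmpleX.locus (sg σ (AModX.res E g.le a))) :
    X.homOfLE hV ≫ chartMor hE hS chart hU a =
      X.homOfLE hV' ≫ chartMor hE hS chart hD (AModX.res E g.le a) := by
  let a' := AModX.res E g.le a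
  rw [chartMor, chartMor, ← Category.assoc, ← Category.assoc, rLoc_homOfLE, rLoc_homOfLE, ← g.map_emb hP hU hD,
    ← Category.assoc]
  congr 1
  have key := ((isSymHom_symHom hE hS hD a').res hV').restrict g.le (hV := hV)
  have e := ((isSymHom_symHom hE hS hU a).res hV).unique hE hS hU key
  have e2 : 𝒮.res hU hD g.le (jsec j a) = jsec j a' := jsec_res g.le a
  have hu : IsUnit (((X.presheaf.map (homOfLE hV').op).hom.comp (symHom hE hS hD a'))
      (𝒮.res hU hD g.le (jsec j a))) := by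
    rw [e2, RingHom.comp_apply, show symHom hE hS hD a' (jsec j a') = 1 from (isSymHom_symHom hE hS hD a').apply_gen,
      map_one]
    exact isUnit_one
  rw [← rLoc_map _ (jsec_mem hS hU a) one_pos _ (𝒮.res hU hD g.le) (g.irr hU hD)
    ((X.presheaf.map (homOfLE hV').op).hom.comp (symHom hE hS hD a'))
    (fun x => (RingHom.congr_fun e x).symm) hu]
  congr 1
  exact rLoc_indep _ _ _ _ _ _ _

include hE hS in
theorem chartMor_agree_same {U : S.Opens} (hU : IsAffineOpen U) (a b : Γ(E, U)) {V : X.Opens}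
    (ha : V ≤ AmpleX.locus (sg σ a)) (hb : V ≤ AmpleX.locus (sg σ b)) :
    X.homOfLE ha ≫ chartMor hE hS chart hU a = X.homOfLE hb ≫ chartMor hE hS chart hU b := by
  rw [chartMor, chartMor, ← Category.assoc, ← Category.assoc, rLoc_homOfLE, rLoc_homOfLE]
  congr 1
  have h1 := (isSymHom_symHom hE hS hU a).res ha
  have h2 := (isSymHom_symHom hE hS hU b).res hb
  have hs := fun n x hx => h1.scale hE hS hU h2 n x hx
  have hub : IsUnit (((X.presheaf.map (homOfLE hb).op).hom.comp (symHom hE hS hU b)) (jsec j b)) := by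
    rw [show _ = (1 : Γ(X, V)) from h2.apply_gen]; exact isUnit_one
  have hua : IsUnit (((X.presheaf.map (homOfLE ha).op).hom.comp (symHom hE hS hU a)) (jsec j b)) := by
    have := hs 1 _ (jsec_mem hS hU b)
    rw [pow_one] at this
    rw [this] at hub
    exact isUnit_of_mul_isUnit_right hub
  rw [rLoc_scale _ (jsec_mem hS hU b) one_pos hua _ hub _ hs]
  exact rLoc_indep _ _ _ _ _ _ _

include hP in
theorem chartMor_agree {U U' : S.Opens} (hU : IsAffineOpen U) (hU' : IsAffineOpen U') (a : Γ(E, U))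
    (b : Γ(E, U')) :
    X.homOfLE (inf_le_left : AmpleX.locus (sg σ a) ⊓ AmpleX.locus (sg σ b) ≤ _) ≫ chartMor hE hS chart hU a =
      X.homOfLE inf_le_right ≫ chartMor hE hS chart hU' b := by
  let O : X.Opens := AmpleX.locus (sg σ a) ⊓ AmpleX.locus (sg σ b)
  refine Scheme.hom_ext_of_forall _ _ fun z => ?_
  have hzU : f z.1 ∈ U := AmpleX.locus_le (sg σ a) z.2.1
  have hzU' : f z.1 ∈ U' := AmpleX.locus_le (sg σ b) z.2.2
  obtain ⟨D, hD, g, g', hzD⟩ := RelTwistX.exists_good hU hU' hzU hzU'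
  refine ⟨O.ι ⁻¹ᵁ (f ⁻¹ᵁ D), hzD, ?_⟩
  let V : X.Opens := O ⊓ f ⁻¹ᵁ D
  have hr : Set.range ((O.ι ⁻¹ᵁ (f ⁻¹ᵁ D)).ι ≫ O.ι) ⊆ Set.range V.ι := by
    rintro _ ⟨y, rfl⟩
    rw [Scheme.Opens.range_ι]
    exact ⟨y.1.2, y.2⟩
  let k := IsOpenImmersion.lift V.ι _ hr
  have hk : ∀ (T : X.Opens) (hT : O ≤ T), (O.ι ⁻¹ᵁ (f ⁻¹ᵁ D)).ι ≫ X.homOfLE hT =
      k ≫ X.homOfLE ((inf_le_left : V ≤ O).trans hT) := fun T hT => by
    rw [← cancel_mono T.ι, Category.assoc, Category.assoc, Scheme.homOfLE_ι, Scheme.homOfLE_ι]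
    exact (IsOpenImmersion.lift_fac _ _ _).symm
  rw [reassoc_of% (hk _ inf_le_left), reassoc_of% (hk _ inf_le_right)]
  have hVa : V ≤ AmpleX.locus (sg σ (AModX.res E g.le a)) := by
    rw [sg_res, AmpleX.locus_res]; exact le_inf (inf_le_left.trans inf_le_left) inf_le_right
  have hVb : V ≤ AmpleX.locus (sg σ (AModX.res E g'.le b)) := by
    rw [sg_res, AmpleX.locus_res]; exact le_inf (inf_le_left.trans inf_le_right) inf_le_right
  rw [chartMor_eq_of_good hE hS hP hU hD g a _ hVa, chartMor_eq_of_good hE hS hP hU' hD g' b _ hVb,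
    chartMor_agree_same hE hS hD _ _ hVa hVb]

include hP in
theorem exists_toBundle
    (hcov : ∀ x : X, ∃ (U : S.Opens) (_ : IsAffineOpen U) (a : Γ(E, U)), x ∈ AmpleX.locus (sg σ a)) :
    ∃ r : X ⟶ P, ∀ (U : S.Opens) (hU : IsAffineOpen U) (a : Γ(E, U)),
      (AmpleX.locus (sg σ a)).ι ≫ r = chartMor hE hS chart hU a := by
  obtain ⟨r, hr⟩ := GrpdLib.exists_glue (I := Σ U : S.affineOpens, Γ(E, U.1))
    (fun q => AmpleX.locus (sg σ q.2)) (top_le_iff.1 fun x _ => by
      obtain ⟨U, hU, a, ha⟩ := hcov x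
      exact Opens.mem_iSup.2 ⟨⟨⟨U, hU⟩, a⟩, ha⟩)
    (fun q => chartMor hE hS chart q.1.2 q.2) fun q q' => chartMor_agree hE hS hP q.1.2 q'.1.2 q.2 q'.2
  exact ⟨r, fun U hU a => hr ⟨⟨U, hU⟩, a⟩⟩

end Groth.Agent.VeryAmpleX.Sig
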