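import Groth.Agent.VeryAmpleX.SigMor
import Groth.Agent.VeryAmpleX.BundleIso
import Groth.Agent.GrModX.QCohTilde

/-!
# The inverse image of the fundamental sheaf of the bundle of the direct image
-/

noncomputable section

universe u

open CategoryTheory CategoryTheory.Limits AlgebraicGeometry TopologicalSpace Opposite HomogeneousLocalization
open scoped HomogeneousIdeal

set_option backward.isDefEq.respectTransparency false
set_option backward.isDefEq.respectTransparency.types false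
set_option linter.style.haveILetI false
set_option linter.unusedSectionVars false
set_option maxHeartbeats 800000

namespace Groth.Agent.VeryAmpleX.Sig

open Groth.Agent Groth.Agent.VeryAmpleX

variable {X S : Scheme.{u}} {f : X ⟶ S} {L : X.Modules} {𝒮 : RelProj.QCGrAlg S}
  {E : S.Modules} {σ : E ⟶ (Scheme.Modules.pushforward f).obj L} {j : E ⟶ 𝒮.toModule}
  (hE : Coh.IsQCoh E) (hS : RelProj.IsGrSymAlg _ 𝒮 j)
  {P : Scheme.{u}} {p : P ⟶ S}
  {chart : ∀ (U : S.Opens) (hU : IsAffineOpen U), (((p ⁻¹ᵁ U : P.Opens) : Scheme.{u}) ≅ Proj (𝒮.deg U hU))}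
  (hP : RelProj.IsRelProj 𝒮 p chart) {O1 : P.Modules}
  {lam : ∀ (U : S.Opens) (hU : IsAffineOpen U),
    O1 ⟶ (Scheme.Modules.pushforward (RelProj.emb p chart U hU)).obj (GrTwist.twist (𝒮.deg U hU) 1)}
  (hO1 : RelProj.IsRelTwist 𝒮 p chart 1 O1 lam) {r : X ⟶ P}
  (hr : ∀ (U : S.Opens) (hU : IsAffineOpen U) (a : Γ(E, U)),
      (AmpleX.locus (sg σ a)).ι ≫ r = chartMor (σ := σ) hE hS chart hU a)
  (hcov : ∀ x : X, ∃ (U : S.Opens) (_ : IsAffineOpen U) (a : Γ(E, U)), x ∈ AmpleX.locus (sg σ a))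

include hE hS hP hO1 hr hcov in
theorem nonempty_pullback_toBundle : Nonempty ((Scheme.Modules.pullback r).obj O1 ≅ L) := by
  let ι := Σ U : S.affineOpens, Γ(E, U.1)
  let W : ι → P.Opens := fun q =>
    RelProj.emb p chart q.1.1 q.1.2 ''ᵁ Proj.basicOpen (𝒮.deg q.1.1 q.1.2) (jsec j q.2)
  have hWU : ∀ q, W q ≤ p ⁻¹ᵁ q.1.1 := fun q =>
    ((RelProj.emb p chart q.1.1 q.1.2).image_le_opensRange _).trans (RelTildeX.opensRange_emb p chart q.1.1 q.1.2).le
  have hnv : ∀ (q : ι) (y : RelTwistX.pre p chart q.1.1 q.1.2 (W q)),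
      jsec j q.2 ∉ (y.1 : ProjectiveSpectrum (𝒮.deg q.1.1 q.1.2)).asHomogeneousIdeal := fun q y => by
    obtain ⟨y', hy', hyy⟩ := y.2
    exact ((RelProj.emb p chart q.1.1 q.1.2).isOpenEmbedding.injective hyy) ▸ hy'
  choose e he hev using fun q : ι =>
    RelTwistX.exists_frame_deg_one hP hO1 q.1.2 (hWU q) (jsec_mem hS q.1.2 q.2) (hnv q)
  have hcovP : ∀ y : P, ∃ q, y ∈ W q := fun y => by
    obtain ⟨_, ⟨U, hU, rfl⟩, hyU, -⟩ := S.isBasis_affineOpens.exists_subset_of_mem_open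
      (Set.mem_univ (p y)) isOpen_univ
    have h1 : y ∈ (RelProj.emb p chart U hU).opensRange := by rw [RelTildeX.opensRange_emb]; exact hyU
    obtain ⟨z, hz⟩ := h1
    obtain ⟨m, hm⟩ := Opens.mem_iSup.1 ((iSup_basicOpen_jsec hE hS hU).ge (trivial : z ∈ (⊤ : (Proj (𝒮.deg U hU)).Opens)))
    exact ⟨⟨⟨U, hU⟩, m⟩, z, hm, hz⟩
  have hpre : ∀ q, r ⁻¹ᵁ W q = AmpleX.locus (sg σ q.2) := fun q => preimage_gen hE hS hP hr hcov q.1.2 q.2
  have hle : ∀ q, r ⁻¹ᵁ W q ≤ f ⁻¹ᵁ q.1.1 := fun q => (hpre q).le.trans (AmpleX.locus_le _)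
  refine RelTwistX.nonempty_pullback_iso r W hcovP e he (fun q => AModX.res L (hle q) (sg σ q.2))
    (fun q => AmpleX.isFrame_res_of_le (sg σ q.2) (hpre q).le) fun q q' c hc => ?_
  rw [AModX.res_res, AModX.res_res]
  refine AModX.eq_of_locally _ _ fun z hz => ?_
  have hzU : f z ∈ q.1.1 := hle q hz.1
  have hzU' : f z ∈ q'.1.1 := hle q' hz.2
  obtain ⟨D, hD, g, g', hzD⟩ := RelTwistX.exists_good q.1.2 q'.1.2 hzU hzU'
  let a' := AModX.res E g.le q.2
  let b' := AModX.res E g'.le q'.2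
  let em := RelProj.emb p chart D hD
  let T : (Proj (𝒮.deg D hD)).Opens := Proj.basicOpen (𝒮.deg D hD) (jsec j a') ⊓ Proj.basicOpen (𝒮.deg D hD) (jsec j b')
  have hres : ∀ (U : S.Opens) (hU : IsAffineOpen U) (gg : RelTwistX.Good U D) (m : Γ(E, U)),
      ∀ y ∈ Proj.basicOpen (𝒮.deg D hD) (jsec j (AModX.res E gg.le m)),
        em y ∈ RelProj.emb p chart U hU ''ᵁ Proj.basicOpen (𝒮.deg U hU) (jsec j m) := fun U hU gg m y hy => by
    refine ⟨ProjectiveSpectrum.comap (𝒮.res hU hD gg.le) (gg.irr hU hD) y, ?_, gg.emb_comap hP hU hD y⟩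
    intro hmem
    refine hy ?_
    have : 𝒮.res hU hD gg.le (jsec j m) ∈ (y : ProjectiveSpectrum (𝒮.deg D hD)).asHomogeneousIdeal := hmem
    rwa [show 𝒮.res hU hD gg.le (jsec j m) = _ from jsec_res gg.le m] at this
  have hTW : em ''ᵁ T ≤ W q ⊓ W q' := by
    rintro _ ⟨y, hy, rfl⟩
    exact ⟨hres q.1.1 q.1.2 g q.2 y hy.1, hres q'.1.1 q'.1.2 g' q'.2 y hy.2⟩
  have hza : z ∈ AmpleX.locus (sg σ a') := by rw [sg_res, AmpleX.locus_res]; exact ⟨(hpre q).le hz.1, hzD⟩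
  have hzb : z ∈ AmpleX.locus (sg σ b') := by rw [sg_res, AmpleX.locus_res]; exact ⟨(hpre q').le hz.2, hzD⟩
  let V : X.Opens := AmpleX.locus (sg σ a') ⊓ AmpleX.locus (sg σ b')
  have hTa : r ⁻¹ᵁ (em ''ᵁ Proj.basicOpen (𝒮.deg D hD) (jsec j a')) = AmpleX.locus (sg σ a') :=
    preimage_gen hE hS hP hr hcov hD a'
  have hTb : r ⁻¹ᵁ (em ''ᵁ Proj.basicOpen (𝒮.deg D hD) (jsec j b')) = AmpleX.locus (sg σ b') :=
    preimage_gen hE hS hP hr hcov hD b'
  have hVT : V ≤ r ⁻¹ᵁ (em ''ᵁ T) := fun y hy => by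
    obtain ⟨u, hu, hu'⟩ := hTa.ge hy.1
    obtain ⟨v, hv, hv'⟩ := hTb.ge hy.2
    exact ⟨u, ⟨hu, (em.isOpenEmbedding.injective (hu'.trans hv'.symm)) ▸ hv⟩, hu'⟩
  have hVO : V ≤ r ⁻¹ᵁ (W q ⊓ W q') := hVT.trans (r.preimage_mono hTW)
  refine ⟨V, hVO, ⟨hza, hzb⟩, ?_⟩
  rw [AModX.res_res, AModX.res_smul, AModX.res_res]
  -- the coordinate function
  have hha := (isSymHom_symHom (σ := σ) hE hS hD a').res (inf_le_left : V ≤ AmpleX.locus (sg σ a'))
  have hcoord : AModX.resR hVO (r.app (W q ⊓ W q') c) =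
      X.presheaf.map (homOfLE (inf_le_left : V ≤ AmpleX.locus (sg σ a'))).op (symHom (σ := σ) hE hS hD a' (jsec j b')) := by
    let w : Away (𝒮.deg D hD) (jsec j a') :=
      Away.mk (𝒮.deg D hD) (jsec_mem hS hD a') 1 (jsec j b') (by rw [one_smul]; exact jsec_mem hS hD b')
    let s := (Proj.awayToSection (𝒮.deg D hD) (jsec j a')).hom w
    have hT1 : T ≤ Proj.basicOpen (𝒮.deg D hD) (jsec j a') := inf_le_left
    have hcT : em.appLE (W q ⊓ W q') T (fun y hy => hTW ⟨y, hy, rfl⟩) c = AModX.resR hT1 s := by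
      refine Subtype.ext (funext fun y => HomogeneousLocalization.val_injective _ ?_)
      have hyW : em y.1 ∈ em ''ᵁ T := ⟨y.1, y.2, rfl⟩
      have h1 := congrArg (fun t => GrTwist.val (V := RelTwistX.pre p chart D hD (em ''ᵁ T))
        ((lam D hD).app (em ''ᵁ T) (AModX.res O1 hTW t)) ⟨y.1, hyW⟩) hc
      rw [AModX.res_smul, AModX.res_res, AModX.res_res, RelTwistX.val_smul_sc,
        hev q' D hD g' _ (hTW.trans inf_le_right) ⟨y.1, hyW⟩ (by
          rw [show 𝒮.res q'.1.2 hD g'.le (jsec j q'.2) = _ from jsec_res g'.le q'.2]; exact y.2.2),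
        hev q D hD g _ (hTW.trans inf_le_left) ⟨y.1, hyW⟩ (by
          rw [show 𝒮.res q.1.2 hD g.le (jsec j q.2) = _ from jsec_res g.le q.2]; exact y.2.1),
        RelTwistX.zVal_congr (show 𝒮.res q'.1.2 hD g'.le (jsec j q'.2) = jsec j b' from jsec_res g'.le q'.2) _ y.2.2,
        RelTwistX.zVal_congr (show 𝒮.res q.1.2 hD g.le (jsec j q.2) = jsec j a' from jsec_res g.le q.2) _ y.2.1] at h1
      have h2 : RelTwistX.sc chart hD (AModX.resR hTW c) ⟨y.1, hyW⟩ =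
          ((em.appLE (W q ⊓ W q') T (fun y hy => hTW ⟨y, hy, rfl⟩) c : GrTwist.O (𝒜 := 𝒮.deg D hD) (op T)).1 y).val := by
        rw [RelTwistX.sc_res]
        rfl
      rw [h2] at h1
      refine (eq_mk_of_zVal y.2.1 y.2.2 _ h1).symm.trans ?_
      exact (GrModX.oval_awayToSection (𝒮.deg D hD) (jsec_mem hS hD a') 1 _ ⟨y.1, y.2.1⟩).symm
    have hu : IsUnit (((X.presheaf.map (homOfLE (inf_le_left : V ≤ AmpleX.locus (sg σ a'))).op).hom.comp
        (symHom (σ := σ) hE hS hD a')) (jsec j a')) := by rw [hha.apply_gen]; exact isUnit_one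
    let ρ := rLoc (𝒮.deg D hD) ((X.presheaf.map (homOfLE (inf_le_left : V ≤ AmpleX.locus (sg σ a'))).op).hom.comp
      (symHom (σ := σ) hE hS hD a')) (jsec_mem hS hD a') one_pos hu
    have hρ : V.ι ≫ r = ρ ≫ em := by
      rw [← Scheme.homOfLE_ι X (inf_le_left : V ≤ AmpleX.locus (sg σ a')), Category.assoc, hr, chartMor, ← Category.assoc,
        rLoc_homOfLE]
    have htop : (⊤ : V.toScheme.Opens) ≤ ρ ⁻¹ᵁ T := fun y _ => by
      have h3 : em (ρ y) ∈ em ''ᵁ T := by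
        rw [← Scheme.Hom.comp_apply, ← hρ]; exact hVT y.2
      obtain ⟨u, hu, hue⟩ := h3
      exact (show ρ y ∈ T from (em.isOpenEmbedding.injective hue) ▸ hu)
    have hmk : awayHom (𝒮.deg D hD) ((X.presheaf.map (homOfLE (inf_le_left : V ≤ AmpleX.locus (sg σ a'))).op).hom.comp
        (symHom (σ := σ) hE hS hD a')) hu w =
        X.presheaf.map (homOfLE (inf_le_left : V ≤ AmpleX.locus (sg σ a'))).op (symHom (σ := σ) hE hS hD a' (jsec j b')) := by
      have := awayHom_mk_mul _ (jsec_mem hS hD a') hu 1 (jsec j b') (by rw [one_smul]; exact jsec_mem hS hD b')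
      rwa [hha.apply_gen, one_pow, mul_one] at this
    apply (ConcreteCategory.bijective_of_isIso V.topIso.inv).1
    have h5 := congr($(rLoc_appLE (𝒜 := 𝒮.deg D hD) _ (jsec_mem hS hD a') one_pos hu (htop.trans (ρ.preimage_mono hT1))) w)
    rw [← hmk]
    refine Eq.trans ?_ (h5.trans rfl)
    rw [show AModX.resR hVO (r.app (W q ⊓ W q') c) = r.appLE (W q ⊓ W q') V hVO c from rfl]
    have h4 : r.appLE (W q ⊓ W q') V hVO ≫ V.topIso.inv =
        em.appLE (W q ⊓ W q') T (fun y hy => hTW ⟨y, hy, rfl⟩) ≫ ρ.appLE T ⊤ htop := by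
      rw [Scheme.Hom.appLE_comp_appLE]
      simp only [← hρ]
      simp [Scheme.Hom.appLE, Scheme.Opens.topIso, ← Functor.map_comp]
      rfl
    refine (congr($h4 c)).trans ?_
    show ρ.appLE T ⊤ htop (em.appLE _ T _ c) = _
    rw [hcT]
    show ((Proj (𝒮.deg D hD)).presheaf.map _ ≫ ρ.appLE T ⊤ htop) s = _
    rw [Scheme.Hom.map_appLE]
    rfl
  rw [hcoord]
  have := hha.2 b'
  have ea : ∀ {U : S.Opens} (i : D ≤ U) (m : Γ(E, U)) (h1 : V ≤ f ⁻¹ᵁ D) (h2 : V ≤ f ⁻¹ᵁ U),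
      AModX.res L h1 (sg σ (AModX.res E i m)) = AModX.res L h2 (sg σ m) := fun i m h1 h2 => by
    rw [sg_res, AModX.res_res]
  exact (ea g'.le q'.2 _ _).symm.trans (this.trans (congrArg (_ • ·) (ea g.le q.2 _ _)))

end Groth.Agent.VeryAmpleX.Sig
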