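import Groth.Agent.VeryAmpleX.SigHom
import Groth.Agent.VeryAmpleX.BundleMor
import Groth.Agent.RelTwistX.Pullback
import Groth.Agent.Proj16.RelExist
import Groth.Agent.ProjPt.Sections
import Groth.Agent.VeryAmple.Main

/-!
# The morphism to the bundle of the direct image is an immersion
-/

noncomputable section

universe u

open CategoryTheory CategoryTheory.Limits AlgebraicGeometry TopologicalSpace Opposite HomogeneousLocalization
open scoped HomogeneousIdeal

set_option backward.isDefEq.respectTransparency false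
set_option backward.isDefEq.respectTransparency.types false
set_option linter.style.haveILetI false
set_option linter.unusedSectionVars false
set_option maxHeartbeats 800000

namespace Groth.Agent.VeryAmpleX.Sig

open Groth.Agent Groth.Agent.VeryAmpleX

variable {X S : Scheme.{u}}

/-- Functions on the locus of the image of `a` from the base and ratios with it. -/
def secFns {f : X ⟶ S} {L : X.Modules} {E : S.Modules} (σ : E ⟶ (Scheme.Modules.pushforward f).obj L) {U : S.Opens}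
    (a : Γ(E, U)) : Subring Γ(X, AmpleX.locus (sg σ a)) :=
  Subring.closure (Set.range (f.appLE U (AmpleX.locus (sg σ a)) (AmpleX.locus_le (sg σ a))).hom ∪
    {c | ∃ m : Γ(E, U), AModX.res L (AmpleX.locus_le (sg σ a)) (sg σ m) = c • AModX.res L (AmpleX.locus_le (sg σ a)) (sg σ a)})

/-- The images of the sections of `E` give affine coordinates around `x`. -/
def ImmAt {f : X ⟶ S} {L : X.Modules} {E : S.Modules} (σ : E ⟶ (Scheme.Modules.pushforward f).obj L) (x : X) : Prop :=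
  ∃ (U : S.Opens) (_ : IsAffineOpen U) (a : Γ(E, U)) (g : Γ(X, AmpleX.locus (sg σ a))),
    g ∈ secFns σ a ∧ x ∈ X.basicOpen g ∧ IsAffineOpen (X.basicOpen g) ∧
    ∀ c : Γ(X, X.basicOpen g), ∃ (k : ℕ) (H : Γ(X, AmpleX.locus (sg σ a))), H ∈ secFns σ a ∧
      c * AModX.resR (X.basicOpen_le g) g ^ k = AModX.resR (X.basicOpen_le g) H

variable {f : X ⟶ S} {L : X.Modules} {𝒮 : RelProj.QCGrAlg S}
  {E : S.Modules} {σ : E ⟶ (Scheme.Modules.pushforward f).obj L} {j : E ⟶ 𝒮.toModule}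

section
variable (hE : Coh.IsQCoh E) (hS : RelProj.IsGrSymAlg _ 𝒮 j)

include hE hS in
theorem exists_homog {U : S.Opens} (hU : IsAffineOpen U) (a : Γ(E, U)) {H : Γ(X, AmpleX.locus (sg σ a))}
    (hH : H ∈ secFns σ a) : ∃ (N : ℕ) (F : 𝒮.presheaf.obj (op U)), F ∈ 𝒮.deg U hU N ∧
      symHom (σ := σ) hE hS hU a F = H := by
  let h := symHom (σ := σ) hE hS hU a
  have hh := isSymHom_symHom (σ := σ) hE hS hU a
  let 𝒜 := 𝒮.deg U hU
  have hja : ∀ n, jsec j a ^ n ∈ 𝒜 n := fun n => by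
    simpa using SetLike.pow_mem_graded n (jsec_mem hS hU a)
  induction hH using Subring.closure_induction with
  | mem y hy =>
    rcases hy with ⟨r, rfl⟩ | ⟨m, hm⟩
    · exact ⟨0, _, 𝒮.str_mem U hU r, hh.1 r⟩
    · exact ⟨1, _, jsec_mem hS hU m,
        (AmpleX.isFrame_res_of_le (sg σ a) le_rfl).coord_unique le_rfl (by
          simp only [AModX.res_self]; exact (hh.2 m).symm.trans hm)⟩
  | zero => exact ⟨0, 0, zero_mem _, map_zero _⟩
  | one => exact ⟨0, 1, SetLike.one_mem_graded 𝒜, map_one _⟩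
  | add p q _ _ ihp ihq =>
    obtain ⟨N, F, hF, rfl⟩ := ihp
    obtain ⟨M, G, hG, rfl⟩ := ihq
    refine ⟨N + M, F * jsec j a ^ M + G * jsec j a ^ N, add_mem (SetLike.mul_mem_graded hF (hja M))
      (by rw [add_comm N M]; exact SetLike.mul_mem_graded hG (hja N)), ?_⟩
    rw [map_add, map_mul, map_mul, map_pow, map_pow, hh.apply_gen, one_pow, one_pow, mul_one, mul_one]
  | neg p _ ihp => obtain ⟨N, F, hF, rfl⟩ := ihp; exact ⟨N, -F, neg_mem hF, map_neg _ _⟩
  | mul p q _ _ ihp ihq =>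
    obtain ⟨N, F, hF, rfl⟩ := ihp
    obtain ⟨M, G, hG, rfl⟩ := ihq
    exact ⟨N + M, F * G, SetLike.mul_mem_graded hF hG, map_mul _ _ _⟩

include hE hS in
theorem iSup_basicOpen_jsec {U : S.Opens} (hU : IsAffineOpen U) :
    ⨆ m : Γ(E, U), Proj.basicOpen (𝒮.deg U hU) (jsec j m) = ⊤ := by
  classical
  refine Proj.iSup_basicOpen_eq_top _ _ ?_
  rw [RelTildeX.irrelevant_eq_span_deg_one (isGenDegOne_of_isGrSymAlg hE hS) U hU, Ideal.span_le]
  let I : Ideal (𝒮.presheaf.obj (op U)) := Ideal.span (Set.range (jsec j (U := U)))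
  have hI : I.IsHomogeneous (𝒮.deg U hU) :=
    Ideal.homogeneous_span _ _ (by rintro _ ⟨m, rfl⟩; exact ⟨1, jsec_mem hS hU m⟩)
  have key : ∀ x : 𝒮.presheaf.obj (op U), ∃ r : Γ(S, U), x - (𝒮.str.app (op U)).hom r ∈ I := fun x => by
    have hx : x ∈ Subring.closure _ := (closure_str_jsec hE hS U hU).ge (trivial : x ∈ (⊤ : Subring _))
    induction hx using Subring.closure_induction with
    | mem y hy =>
      rcases hy with ⟨r, rfl⟩ | ⟨m, rfl⟩
      · exact ⟨r, by rw [sub_self]; exact zero_mem I⟩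
      · exact ⟨0, by rw [map_zero, sub_zero]; exact Ideal.subset_span ⟨m, rfl⟩⟩
    | zero => exact ⟨0, by rw [map_zero, sub_zero]; exact zero_mem I⟩
    | one => exact ⟨1, by rw [map_one, sub_self]; exact zero_mem I⟩
    | add p q _ _ hp hq =>
      obtain ⟨r, hr⟩ := hp; obtain ⟨s, hs⟩ := hq
      exact ⟨r + s, by rw [map_add, add_sub_add_comm]; exact add_mem hr hs⟩
    | neg p _ hp =>
      obtain ⟨r, hr⟩ := hp
      exact ⟨-r, by rw [map_neg, ← neg_sub']; exact neg_mem hr⟩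
    | mul p q _ _ hp hq =>
      obtain ⟨r, hr⟩ := hp; obtain ⟨s, hs⟩ := hq
      refine ⟨r * s, ?_⟩
      have e : p * q - (𝒮.str.app (op U)).hom (r * s) = p * (q - (𝒮.str.app (op U)).hom s) +
          (p - (𝒮.str.app (op U)).hom r) * (𝒮.str.app (op U)).hom s := by rw [map_mul]; ring
      rw [e]
      exact add_mem (I.mul_mem_left _ hs) (I.mul_mem_right _ hr)
  intro x hx
  obtain ⟨r, hr⟩ := key x
  have := hI 1 hr
  rwa [DirectSum.decompose_sub, DirectSum.sub_apply, AddSubgroupClass.coe_sub,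
    DirectSum.decompose_of_mem_same _ hx, DirectSum.decompose_of_mem_ne _ (𝒮.str_mem U hU r) zero_ne_one,
    sub_zero] at this

variable {P : Scheme.{u}} {p : P ⟶ S}
  {chart : ∀ (U : S.Opens) (hU : IsAffineOpen U), (((p ⁻¹ᵁ U : P.Opens) : Scheme.{u}) ≅ Proj (𝒮.deg U hU))}
  (hP : RelProj.IsRelProj 𝒮 p chart) {r : X ⟶ P}
  (hr : ∀ (U : S.Opens) (hU : IsAffineOpen U) (a : Γ(E, U)),
      (AmpleX.locus (sg σ a)).ι ≫ r = chartMor (σ := σ) hE hS chart hU a)
  (hcov : ∀ x : X, ∃ (U : S.Opens) (_ : IsAffineOpen U) (a : Γ(E, U)), x ∈ AmpleX.locus (sg σ a))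

include hP hr hcov in
theorem toBundle_comp : r ≫ p = f := by
  refine Scheme.hom_ext_of_forall _ _ fun x => ?_
  obtain ⟨U, hU, a, ha⟩ := hcov x
  refine ⟨AmpleX.locus (sg σ a), ha, ?_⟩
  rw [← Category.assoc, hr U hU a, chartMor, Category.assoc, emb_comp hP U hU, Category.assoc,
    reassoc_of% (rLoc_toSpecZero (𝒜 := 𝒮.deg U hU) (symHom (σ := σ) hE hS hU a) (jsec_mem hS hU a) one_pos _),
    ← Spec.map_comp_assoc]
  refine Eq.trans ?_ (toSpecΓ_map_fromSpec f hU (AmpleX.locus_le (sg σ a)))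
  congr 3
  refine CommRingCat.hom_ext (RingHom.ext fun c => ?_)
  exact (isSymHom_symHom (σ := σ) hE hS hU a).1 c

include hP hr hcov in
theorem preimage_gen {U : S.Opens} (hU : IsAffineOpen U) (a : Γ(E, U)) :
    r ⁻¹ᵁ (RelProj.emb p chart U hU ''ᵁ Proj.basicOpen (𝒮.deg U hU) (jsec j a)) = AmpleX.locus (sg σ a) := by
  refine le_antisymm (fun x hx => ?_) fun x hx => ?_
  · obtain ⟨y, hy, hyx⟩ := hx
    have hxU : f x ∈ U := by
      have h1 : r x ∈ (RelProj.emb p chart U hU).opensRange := ⟨y, hyx⟩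
      rw [RelTildeX.opensRange_emb] at h1
      rwa [← toBundle_comp hE hS hP hr hcov, Scheme.Hom.comp_apply]
    obtain ⟨U', hU', b, hb⟩ := hcov x
    obtain ⟨D, hD, g, g', hxD⟩ := RelTwistX.exists_good hU hU' hxU (AmpleX.locus_le (sg σ b) hb : f x ∈ U')
    let a' := AModX.res E g.le a
    let b' := AModX.res E g'.le b
    have hb' : x ∈ AmpleX.locus (sg σ b') := by rw [sg_res, AmpleX.locus_res]; exact ⟨hb, hxD⟩
    let z : AmpleX.locus (sg σ b') := ⟨x, hb'⟩
    let w := rLoc (𝒮.deg D hD) (symHom (σ := σ) hE hS hD b') (jsec_mem hS hD b') one_pos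
      (by rw [show symHom (σ := σ) hE hS hD b' (jsec j b') = 1 from (isSymHom_symHom (σ := σ) hE hS hD b').apply_gen]; exact isUnit_one) z
    have hw : RelProj.emb p chart D hD w = r x := by
      have := congr($(hr D hD b') z)
      exact this.symm
    have hcom := g.emb_comap hP hU hD w
    have hy' : ProjectiveSpectrum.comap (𝒮.res hU hD g.le) (g.irr hU hD) w = y :=
      (RelProj.emb p chart U hU).isOpenEmbedding.injective (hcom.trans (hw.trans hyx.symm))
    have hwa : w ∈ Proj.basicOpen (𝒮.deg D hD) (jsec j a') := by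
      intro hmem
      rw [← hy'] at hy
      refine hy ?_
      show 𝒮.res hU hD g.le (jsec j a) ∈ (w : ProjectiveSpectrum (𝒮.deg D hD)).asHomogeneousIdeal
      rw [show 𝒮.res hU hD g.le (jsec j a) = jsec j a' from jsec_res g.le a]
      exact hmem
    have hz : z ∈ (AmpleX.locus (sg σ b')).ι ⁻¹ᵁ X.basicOpen (symHom (σ := σ) hE hS hD b' (jsec j a')) := by
      rw [← rLoc_preimage_basicOpen _ (jsec_mem hS hD b') one_pos _ (jsec_mem hS hD a') one_pos]
      exact hwa
    have hfr := AmpleX.isFrame_res_of_le (sg σ b') (le_refl (AmpleX.locus (sg σ b')))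
    have hloc := AmpleX.locus_inf (sg σ a') (AmpleX.locus_le (sg σ b')) hfr ((isSymHom_symHom (σ := σ) hE hS hD b').2 a')
    have h2 : x ∈ AmpleX.locus (sg σ a') ⊓ AmpleX.locus (sg σ b') := hloc.ge hz
    have h3 := h2.1
    rw [sg_res, AmpleX.locus_res] at h3
    exact h3.1
  · let z : AmpleX.locus (sg σ a) := ⟨x, hx⟩
    have := congr($(hr U hU a) z)
    exact ⟨_, range_rLoc _ _ _ _ ⟨z, rfl⟩, this.symm⟩

include hP hr hcov in
theorem isImmersion_toBundle (h : ∀ x, ImmAt σ x) : IsImmersion r := by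
  choose U hU a g hg hxg haff hsurj using h
  choose N F hF hFg using fun x => exists_homog hE hS (hU x) (a x) (hg x)
  let φ : ∀ x, 𝒮.presheaf.obj (op (U x)) := fun x => F x * jsec j (a x)
  have hφ : ∀ x, φ x ∈ 𝒮.deg (U x) (hU x) (N x + 1) := fun x =>
    SetLike.mul_mem_graded (hF x) (jsec_mem hS (hU x) (a x))
  have hφg : ∀ x, symHom (σ := σ) hE hS (hU x) (a x) (φ x) = g x := fun x => by
    show symHom (σ := σ) hE hS (hU x) (a x) (F x * _) = _
    rw [map_mul, (isSymHom_symHom (σ := σ) hE hS (hU x) (a x)).apply_gen, mul_one, hFg]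
  let W : X → P.Opens := fun x => RelProj.emb p chart (U x) (hU x) ''ᵁ Proj.basicOpen (𝒮.deg (U x) (hU x)) (φ x)
  have hpre : ∀ x, r ⁻¹ᵁ W x = X.basicOpen (g x) := fun x => by
    have hle : r ⁻¹ᵁ W x ≤ AmpleX.locus (sg σ (a x)) := by
      rw [← preimage_gen hE hS hP hr hcov (hU x) (a x)]
      refine r.preimage_mono (Scheme.Hom.image_mono _ ?_)
      show Proj.basicOpen _ (F x * jsec j (a x)) ≤ _
      rw [Proj.basicOpen_mul]
      exact inf_le_right
    have e : (AmpleX.locus (sg σ (a x))).ι ⁻¹ᵁ (r ⁻¹ᵁ W x) = (AmpleX.locus (sg σ (a x))).ι ⁻¹ᵁ X.basicOpen (g x) := by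
      rw [← Scheme.Hom.comp_preimage, hr (U x) (hU x), chartMor, Scheme.Hom.comp_preimage, Scheme.Hom.preimage_image_eq,
        rLoc_preimage_basicOpen _ _ _ _ (hφ x) (Nat.succ_pos _), hφg]
    refine Opens.ext (Set.ext fun y => ⟨fun hy => ?_, fun hy => ?_⟩)
    · exact (show (⟨y, hle hy⟩ : AmpleX.locus (sg σ (a x))) ∈ (AmpleX.locus (sg σ (a x))).ι ⁻¹ᵁ X.basicOpen (g x) from e.le hy)
    · exact (show (⟨y, X.basicOpen_le _ hy⟩ : AmpleX.locus (sg σ (a x))) ∈ (AmpleX.locus (sg σ (a x))).ι ⁻¹ᵁ (r ⁻¹ᵁ W x) from e.ge hy)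
  refine VeryAmple.isImmersion_of_cover r W (fun x => ⟨x, (hpre x).ge (hxg x)⟩) fun x => ?_
  let V := X.basicOpen (g x)
  let hVle : V ≤ AmpleX.locus (sg σ (a x)) := X.basicOpen_le _
  let h' := (X.presheaf.map (homOfLE hVle).op).hom.comp (symHom (σ := σ) hE hS (hU x) (a x))
  have hu : IsUnit (h' (φ x)) := by
    show IsUnit (X.presheaf.map (homOfLE hVle).op (symHom (σ := σ) hE hS (hU x) (a x) (φ x)))
    rw [hφg]
    exact RingedSpace.isUnit_res_basicOpen _ (g x)
  have hs : Function.Surjective (awayHom (𝒮.deg (U x) (hU x)) h' hu) := fun c => by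
    obtain ⟨k, H, hH, hc⟩ := hsurj x c
    obtain ⟨M, G, hG, rfl⟩ := exists_homog hE hS (hU x) (a x) hH
    have hy : G * F x ^ M * jsec j (a x) ^ (k * (N x + 1)) ∈ 𝒮.deg (U x) (hU x) ((k + M) • (N x + 1)) := by
      have := SetLike.mul_mem_graded (SetLike.mul_mem_graded hG (SetLike.pow_mem_graded M (hF x)))
        (SetLike.pow_mem_graded (k * (N x + 1)) (jsec_mem hS (hU x) (a x)))
      convert this using 2
      simp only [smul_eq_mul]
      ring
    refine ⟨Away.mk _ (hφ x) (k + M) _ hy, ((hu.pow (k + M)).mul_left_inj).1 ?_⟩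
    rw [awayHom_mk_mul h' (hφ x) hu]
    show X.presheaf.map (homOfLE hVle).op (symHom (σ := σ) hE hS (hU x) (a x) (G * F x ^ M * _)) =
      c * X.presheaf.map (homOfLE hVle).op (symHom (σ := σ) hE hS (hU x) (a x) (φ x)) ^ (k + M)
    rw [hφg, map_mul (symHom (σ := σ) hE hS (hU x) (a x)), map_mul (symHom (σ := σ) hE hS (hU x) (a x)),
      map_pow (symHom (σ := σ) hE hS (hU x) (a x)), map_pow (symHom (σ := σ) hE hS (hU x) (a x)), hFg,
      (isSymHom_symHom (σ := σ) hE hS (hU x) (a x)).apply_gen, one_pow, mul_one, map_mul, map_pow, pow_add, ← mul_assoc]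
    exact congrArg (· * _) hc.symm
  haveI := awayHom_comp_isClosedImmersion h' hu (haff x) hs
  refine isClosedImmersion_of_fac (hpre x) (V.toSpecΓ ≫ Spec.map (CommRingCat.ofHom (awayHom _ h' hu)))
    (Proj.awayι _ (φ x) (hφ x) (Nat.succ_pos _) ≫ RelProj.emb p chart (U x) (hU x)) ?_ ?_
  · refine (Scheme.Hom.opensRange_comp _ _).trans ?_
    rw [Proj.opensRange_awayι]
  · rw [← Scheme.homOfLE_ι X hVle, Category.assoc, hr, chartMor, ← Category.assoc, rLoc_homOfLE,
      rLoc_indep _ _ _ _ (hφ x) (Nat.succ_pos _) hu, rLoc, Category.assoc, Category.assoc, Category.assoc]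

end

end Groth.Agent.VeryAmpleX.Sig
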