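import Groth.Agent.VeryAmpleX.SigCriterion
import Groth.Agent.VeryAmpleX.CriterionOps
import Groth.Agent.KFlatLib.Scheme.PullTensor
import Groth.Agent.KFlatLib.Scheme.QCohTensor

/-!
# Operations on very ample modules relative to arbitrary morphisms
-/

noncomputable section

universe u

open CategoryTheory CategoryTheory.Limits AlgebraicGeometry TopologicalSpace Opposite

set_option backward.isDefEq.respectTransparency false
set_option backward.isDefEq.respectTransparency.types false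
set_option linter.style.haveILetI false
set_option linter.unusedSectionVars false
set_option maxHeartbeats 800000

namespace Groth.Agent.VeryAmpleX.Sig

open Groth.Agent Groth.Agent.VeryAmpleX

variable {X S : Scheme.{u}} {f : X ⟶ S} {L : X.Modules} {E : S.Modules}
  {σ : E ⟶ (Scheme.Modules.pushforward f).obj L}

/-- `g` and the functions in `R` give affine coordinates. -/
def CoordsIn {Ω : X.Opens} (R : Subring Γ(X, Ω)) (g : Γ(X, Ω)) : Prop :=
  g ∈ R ∧ IsAffineOpen (X.basicOpen g) ∧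
    ∀ c : Γ(X, X.basicOpen g), ∃ (k : ℕ) (H : Γ(X, Ω)), H ∈ R ∧
      c * AModX.resR (X.basicOpen_le g) g ^ k = AModX.resR (X.basicOpen_le g) H

/-- Coordinates pass to a smaller open with more functions. -/
theorem CoordsIn.transfer {Ω Ω' : X.Opens} {R : Subring Γ(X, Ω)} {g : Γ(X, Ω)} (h : CoordsIn R g)
    {R' : Subring Γ(X, Ω')} (hle : Ω' ≤ Ω) (hmap : ∀ H, H ∈ R → AModX.resR hle H ∈ R')
    {x : X} (hxg : x ∈ X.basicOpen g) (hx : x ∈ Ω') :
    ∃ g', x ∈ X.basicOpen g' ∧ CoordsIn R' g' := by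
  obtain ⟨hg, haff, hs⟩ := h
  obtain ⟨v, hv, hxv⟩ := haff.exists_basicOpen_le (V := Ω') ⟨x, hx⟩ hxg
  obtain ⟨k, H, hH, hvH⟩ := hs v
  have hb : X.basicOpen (g * H) = X.basicOpen v := by
    have h1 := congrArg X.basicOpen hvH
    rw [Scheme.basicOpen_mul, AModX.resR, Scheme.basicOpen_res] at h1
    rw [Scheme.basicOpen_mul]
    refine le_antisymm ?_ (le_inf (X.basicOpen_le v) ?_)
    · rw [← h1]; exact inf_le_left
    · refine le_trans ?_ (inf_le_right : X.basicOpen g ⊓ X.basicOpen H ≤ _)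
      rw [← h1]
      refine le_inf le_rfl ((X.basicOpen_le v).trans ?_)
      exact (X.basicOpen_of_isUnit ((AModX.isUnit_resR (X.basicOpen_le g) g le_rfl).pow k)).ge
  let g' := AModX.resR hle (g * H)
  have hbg : X.basicOpen g' = X.basicOpen v := by
    rw [show g' = X.presheaf.map (homOfLE hle).op (g * H) from rfl, Scheme.basicOpen_res, hb]
    exact inf_eq_right.2 hv
  refine ⟨g', hbg ▸ hxv, hmap _ (mul_mem hg hH), hbg ▸ haff.basicOpen v, ?_⟩
  intro c
  have hDv : X.basicOpen g' ≤ X.basicOpen g := hbg.le.trans (X.basicOpen_le v)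
  have := haff.isLocalization_of_eq_basicOpen v (homOfLE hDv) hbg
  letI := (X.presheaf.map (homOfLE hDv).op).hom.toAlgebra
  obtain ⟨⟨c₀, ⟨_, n, rfl⟩⟩, hc⟩ := IsLocalization.surj (Submonoid.powers v) c
  obtain ⟨l, H₀, hH₀, hc₀⟩ := hs c₀
  refine ⟨n + l, AModX.resR hle (H₀ * g ^ (k * n + n) * H ^ l),
    hmap _ (mul_mem (mul_mem hH₀ (pow_mem hg _)) (pow_mem hH _)), ?_⟩
  let ρ := (X.presheaf.map (homOfLE ((X.basicOpen_le g').trans hle)).op).hom
  have h2 : X.presheaf.map (homOfLE hDv).op v * ρ g ^ k = ρ H := by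
    have := congrArg (AModX.resR hDv) hvH
    rw [map_mul, map_pow, AModX.resR_resR, AModX.resR_resR] at this
    exact this
  have h3 : X.presheaf.map (homOfLE hDv).op c₀ * ρ g ^ l = ρ H₀ := by
    have := congrArg (AModX.resR hDv) hc₀
    rw [map_mul, map_pow, AModX.resR_resR, AModX.resR_resR] at this
    exact this
  have hc' : c * X.presheaf.map (homOfLE hDv).op v ^ n = X.presheaf.map (homOfLE hDv).op c₀ := by
    rw [← map_pow]; exact hc
  rw [AModX.resR_resR, AModX.resR_resR]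
  show c * ρ (g * H) ^ (n + l) = ρ (H₀ * g ^ (k * n + n) * H ^ l)
  simp only [map_mul, map_pow, ← h3, ← hc', ← h2]
  simp only [mul_pow, ← pow_mul, pow_add]
  ring

theorem ImmAt.exists_coords {x : X} (h : ImmAt σ x) :
    ∃ (U : S.Opens) (_ : IsAffineOpen U) (a : Γ(E, U)) (g : Γ(X, AmpleX.locus (sg σ a))),
      x ∈ X.basicOpen g ∧ CoordsIn (secFns σ a) g := by
  obtain ⟨U, hU, a, g, hg, hxg, haff, hs⟩ := h
  exact ⟨U, hU, a, g, hxg, hg, haff, hs⟩

theorem immAt_of_coords {x : X} {U : S.Opens} (hU : IsAffineOpen U) {a : Γ(E, U)}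
    {g : Γ(X, AmpleX.locus (sg σ a))} (hxg : x ∈ X.basicOpen g) (h : CoordsIn (secFns σ a) g) : ImmAt σ x :=
  ⟨U, hU, a, g, h.1, hxg, h.2.1, h.2.2⟩

/-- Passing to coordinates over a smaller open and for another map, given where the generators go. -/
theorem CoordsIn.immAt {T : Scheme.{u}} {f' : X ⟶ T} {L' : X.Modules} {E' : T.Modules}
    {σ' : E' ⟶ (Scheme.Modules.pushforward f').obj L'} {Ω : X.Opens} {R : Subring Γ(X, Ω)} {g : Γ(X, Ω)}
    (h : CoordsIn R g) {U' : T.Opens} (hU' : IsAffineOpen U') {a' : Γ(E', U')}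
    (hle : AmpleX.locus (sg σ' a') ≤ Ω) (hmap : ∀ H, H ∈ R → AModX.resR hle H ∈ secFns σ' a')
    {x : X} (hxg : x ∈ X.basicOpen g) (hx : x ∈ AmpleX.locus (sg σ' a')) : ImmAt σ' x := by
  obtain ⟨g', hx', hc⟩ := h.transfer hle hmap hxg hx
  exact immAt_of_coords hU' hx' hc

theorem ImmAt.mapIso {M : X.Modules} (e : L ≅ M) {x : X} (h : ImmAt σ x) :
    ImmAt (σ ≫ (Scheme.Modules.pushforward f).map e.hom) x := by
  obtain ⟨U, hU, a, g, hxg, hc⟩ := h.exists_coords
  have hsg : ∀ m : Γ(E, U), sg (σ ≫ (Scheme.Modules.pushforward f).map e.hom) m = e.hom.app _ (sg σ m) :=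
    fun m => rfl
  have hloc : AmpleX.locus (sg (σ ≫ (Scheme.Modules.pushforward f).map e.hom) a) = AmpleX.locus (sg σ a) := by
    rw [hsg, AmpleX.locus_iso]
  refine hc.immAt hU hloc.le (fun H hH => ?_) hxg (hloc.ge (X.basicOpen_le g hxg))
  refine (Subring.closure_le (t := (secFns _ a).comap (AModX.resR hloc.le))).2 ?_ hH
  rintro c (⟨r, rfl⟩ | ⟨m, hm⟩)
  · refine Subring.subset_closure (Or.inl ⟨r, ?_⟩)
    show _ = (f.appLE _ _ _ ≫ X.presheaf.map _) r
    rw [Scheme.Hom.appLE_map]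
  · refine Subring.subset_closure (Or.inr ⟨m, ?_⟩)
    have := congrArg (fun t => AModX.res M hloc.le (e.hom.app (AmpleX.locus (sg σ a)) t)) hm
    rw [Scheme.Modules.Hom.app_smul, AModX.res_smul, AModX.app_res, AModX.app_res, AModX.res_res, AModX.res_res] at this
    exact this

/-- A very ample module comes with a map giving coordinates everywhere. -/
theorem exists_map_of_isRelVeryAmple (h : RelProj.IsRelVeryAmple f L) :
    ∃ (E : S.Modules) (_ : Coh.IsQCoh E) (σ : E ⟶ (Scheme.Modules.pushforward f).obj L), ∀ x, ImmAt σ x := by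
  obtain ⟨E, hE, 𝒮, j, hS, P, p, chart, hP, O1, lam, hO1, i, hi, hip, ⟨e⟩⟩ := h
  subst hip
  haveI := hi
  obtain ⟨σ₀, hσ₀⟩ := exists_twistMap hE hS hP hO1
  exact ⟨E, hE, _, fun x => (ImmAt.pullback
    (RelTildeX.isInvertible_twist (isGenDegOne_of_isGrSymAlg hE hS) hO1) i (immAt_twist hE hS hP hO1 hσ₀ (i x))).mapIso e.symm⟩

/-- Transpose for a composite. -/
def compMap {Z : Scheme.{u}} {g : S ⟶ Z} {E₀ : Z.Modules}
    (σ₀ : E₀ ⟶ (Scheme.Modules.pushforward (f ≫ g)).obj L) :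
    (Scheme.Modules.pullback g).obj E₀ ⟶ (Scheme.Modules.pushforward f).obj L :=
  ((Scheme.Modules.pullbackPushforwardAdjunction g).homEquiv _ _).symm
    (σ₀ ≫ ((Scheme.Modules.pushforwardComp f g).app L).inv)

theorem sg_compMap {Z : Scheme.{u}} {g : S ⟶ Z} {E₀ : Z.Modules}
    (σ₀ : E₀ ⟶ (Scheme.Modules.pushforward (f ≫ g)).obj L) {W : Z.Opens} (e : Γ(E₀, W)) :
    sg (compMap σ₀) (InvX.pullElt g e) = sg σ₀ e := by
  have h := ((Scheme.Modules.pullbackPushforwardAdjunction g).homEquiv _ _).apply_symm_apply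
    (σ₀ ≫ ((Scheme.Modules.pushforwardComp f g).app L).inv)
  rw [Adjunction.homEquiv_unit] at h
  exact congr(($h).app W e)

/-- Coordinates relative to a composite give coordinates relative to the first map. -/
theorem ImmAt.of_comp {Z : Scheme.{u}} {g : S ⟶ Z} {E₀ : Z.Modules}
    {σ₀ : E₀ ⟶ (Scheme.Modules.pushforward (f ≫ g)).obj L} {x : X} (h : ImmAt σ₀ x) : ImmAt (compMap σ₀) x := by
  obtain ⟨W, hW, a, c₀, hxg, hc⟩ := h.exists_coords
  have hxW : f x ∈ g ⁻¹ᵁ W := AmpleX.locus_le (sg σ₀ a) (X.basicOpen_le c₀ hxg)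
  obtain ⟨U, hU, hxU, hUW⟩ := exists_isAffineOpen_mem_and_subset (x := f x) (U := g ⁻¹ᵁ W) hxW
  let N := (Scheme.Modules.pullback g).obj E₀
  let a' : Γ(N, U) := AModX.res N hUW (InvX.pullElt g a)
  have hsg : ∀ m : Γ(E₀, W), sg (compMap σ₀) (AModX.res N hUW (InvX.pullElt g m)) =
      AModX.res L (f.preimage_mono hUW) (sg σ₀ m) := fun m => by rw [sg_res, sg_compMap]
  have hla : AmpleX.locus (sg (compMap σ₀) a') = AmpleX.locus (sg σ₀ a) ⊓ f ⁻¹ᵁ U := by
    rw [hsg]; exact AmpleX.locus_res _ _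
  have hle : AmpleX.locus (sg (compMap σ₀) a') ≤ AmpleX.locus (sg σ₀ a) := hla.le.trans inf_le_left
  refine hc.immAt hU hle (fun H hH => ?_) hxg (hla.ge ⟨X.basicOpen_le c₀ hxg, hxU⟩)
  refine (Subring.closure_le (t := (secFns (compMap σ₀) a').comap (AModX.resR hle))).2 ?_ hH
  rintro c (⟨r, rfl⟩ | ⟨m, hm⟩)
  · refine Subring.subset_closure (Or.inl ⟨(g.appLE W U hUW).hom r, ?_⟩)
    show (g.appLE _ _ _ ≫ f.appLE _ _ _) r = ((f ≫ g).appLE _ _ _ ≫ X.presheaf.map _) r
    rw [Scheme.Hom.appLE_comp_appLE, Scheme.Hom.appLE_map]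
  · refine Subring.subset_closure (Or.inr ⟨AModX.res N hUW (InvX.pullElt g m), ?_⟩)
    have h1 := congrArg (AModX.res L hle) hm
    rw [AModX.res_res, AModX.res_smul, AModX.res_res] at h1
    refine (congrArg (AModX.res L _) (hsg m)).trans ?_
    refine Eq.trans ?_ (congrArg (_ • ·) (congrArg (AModX.res L _) (hsg a))).symm
    rw [AModX.res_res, AModX.res_res]
    exact h1

variable {X' S' : Scheme.{u}} {g₀ : S' ⟶ S} {g' : X' ⟶ X} {f' : X' ⟶ S'}

/-- Transpose for a base change. -/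
def bcMap (hw : g' ≫ f = f' ≫ g₀) (σ : E ⟶ (Scheme.Modules.pushforward f).obj L) :
    (Scheme.Modules.pullback g₀).obj E ⟶
      (Scheme.Modules.pushforward f').obj ((Scheme.Modules.pullback g').obj L) :=
  ((Scheme.Modules.pullbackPushforwardAdjunction g₀).homEquiv _ _).symm
    (σ ≫ (Scheme.Modules.pushforward f).map ((Scheme.Modules.pullbackPushforwardAdjunction g').unit.app L) ≫
      ((Scheme.Modules.pushforwardComp g' f).app _).hom ≫ ((Scheme.Modules.pushforwardCongr hw).app _).hom ≫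
      ((Scheme.Modules.pushforwardComp f' g₀).app _).inv)

theorem sg_bcMap (hw : g' ≫ f = f' ≫ g₀) {U : S.Opens} (e : Γ(E, U)) (hle : f' ⁻¹ᵁ (g₀ ⁻¹ᵁ U) ≤ g' ⁻¹ᵁ (f ⁻¹ᵁ U)) :
    sg (bcMap hw σ) (InvX.pullElt g₀ e) =
      AModX.res ((Scheme.Modules.pullback g').obj L) hle (InvX.pullElt g' (sg σ e)) := by
  have h := ((Scheme.Modules.pullbackPushforwardAdjunction g₀).homEquiv _ _).apply_symm_apply
    (σ ≫ (Scheme.Modules.pushforward f).map ((Scheme.Modules.pullbackPushforwardAdjunction g').unit.app L) ≫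
      ((Scheme.Modules.pushforwardComp g' f).app _).hom ≫ ((Scheme.Modules.pushforwardCongr hw).app _).hom ≫
      ((Scheme.Modules.pushforwardComp f' g₀).app _).inv)
  rw [Adjunction.homEquiv_unit] at h
  exact congr(($h).app U e)

/-- Base change. -/
theorem ImmAt.baseChange (hsq : IsPullback g' f' f g₀) (hL : PicF.IsInvertible L) {x : X'}
    (h : ImmAt σ (g' x)) : ImmAt (bcMap hsq.w σ) x := by
  obtain ⟨U, hU, a, g, hxg, hg, haff, hs⟩ := h.exists_coords
  have hxU : g₀ (f' x) ∈ U := by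
    rw [← Scheme.Hom.comp_apply, ← hsq.w, Scheme.Hom.comp_apply]
    exact AmpleX.locus_le (sg σ a) (X.basicOpen_le g hxg)
  obtain ⟨U', hU', hxU', hUU'⟩ := exists_isAffineOpen_mem_and_subset (x := f' x) (U := g₀ ⁻¹ᵁ U) hxU
  have hpre0 : f' ⁻¹ᵁ (g₀ ⁻¹ᵁ U) ≤ g' ⁻¹ᵁ (f ⁻¹ᵁ U) := by
    rw [← Scheme.Hom.comp_preimage, ← Scheme.Hom.comp_preimage, hsq.w]
  have hpre : f' ⁻¹ᵁ U' ≤ g' ⁻¹ᵁ (f ⁻¹ᵁ U) := (f'.preimage_mono hUU').trans hpre0
  let L' := (Scheme.Modules.pullback g').obj L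
  let N := (Scheme.Modules.pullback g₀).obj E
  let e' : Γ(N, U') := AModX.res N hUU' (InvX.pullElt g₀ a)
  have hsg : ∀ m : Γ(E, U), sg (bcMap hsq.w σ) (AModX.res N hUU' (InvX.pullElt g₀ m)) =
      AModX.res L' hpre (InvX.pullElt g' (sg σ m)) := fun m => by
    rw [sg_res, sg_bcMap hsq.w m hpre0, AModX.res_res]
  let a' : Γ(L', f' ⁻¹ᵁ U') := sg (bcMap hsq.w σ) e'
  have hla : AmpleX.locus a' = g' ⁻¹ᵁ AmpleX.locus (sg σ a) ⊓ f' ⁻¹ᵁ U' := by
    show AmpleX.locus (sg (bcMap hsq.w σ) e') = _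
    rw [hsg, AmpleX.locus_res, AmpleX.locus_pullElt hL]
  let φ : Γ(X, AmpleX.locus (sg σ a)) →+* Γ(X', AmpleX.locus a') :=
    (g'.appLE (AmpleX.locus (sg σ a)) (AmpleX.locus a') (hla.le.trans inf_le_left)).hom
  let R := secFns (bcMap hsq.w σ) e'
  have hφ : ∀ H ∈ secFns σ a, φ H ∈ R := fun H hH => by
    refine (Subring.closure_le (t := R.comap φ)).2 ?_ hH
    rintro c (⟨r, rfl⟩ | ⟨m, hm⟩)
    · refine Subring.subset_closure (Or.inl ⟨(g₀.appLE U U' hUU').hom r, ?_⟩)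
      show (g₀.appLE _ _ _ ≫ f'.appLE _ _ _) r = (f.appLE _ _ _ ≫ g'.appLE _ _ _) r
      rw [Scheme.Hom.appLE_comp_appLE, Scheme.Hom.appLE_comp_appLE]
      simp only [hsq.w]
    · refine Subring.subset_closure (Or.inr ⟨AModX.res N hUU' (InvX.pullElt g₀ m), ?_⟩)
      have := congrArg (fun t => AModX.res L' (hla.le.trans inf_le_left) (InvX.pullElt g' t)) hm
      rw [InvX.pullElt_smul, AModX.res_smul, ← InvX.res_pullElt, ← InvX.res_pullElt, AModX.res_res,
        AModX.res_res] at this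
      refine (congrArg (AModX.res L' _) (hsg m)).trans ?_
      refine Eq.trans ?_ (congrArg (_ • ·) (congrArg (AModX.res L' _) (hsg a))).symm
      rw [AModX.res_res, AModX.res_res]
      exact this
  have hb : X'.basicOpen (φ g) = g' ⁻¹ᵁ X.basicOpen g ⊓ f' ⁻¹ᵁ U' := by
    rw [Scheme.preimage_basicOpen]
    show X'.basicOpen ((g'.appLE _ _ _).hom g) = _
    rw [Scheme.Hom.appLE, CommRingCat.comp_apply, Scheme.basicOpen_res, hla]
    refine le_antisymm (le_inf inf_le_right (inf_le_left.trans inf_le_right)) (le_inf (le_inf ?_ inf_le_right) inf_le_left)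
    exact inf_le_left.trans (X'.basicOpen_le _)
  have hDU : X.basicOpen g ≤ f ⁻¹ᵁ U := (X.basicOpen_le g).trans (AmpleX.locus_le (sg σ a))
  have hres := Scheme.Hom.isPullback_resLE hsq hUU' hDU hb
  haveI : IsAffine (X.basicOpen g).toScheme := haff
  haveI : IsAffine U.toScheme := hU
  haveI : IsAffine U'.toScheme := hU'
  haveI : IsAffine (X'.basicOpen (φ g)).toScheme := IsAffine.of_isIso hres.isoPullback.hom
  haveI : IsAffineHom (f.resLE U (X.basicOpen g) hDU) := inferInstance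
  haveI : IsAffineHom (f'.resLE U' (X'.basicOpen (φ g)) (hb.le.trans inf_le_right)) := inferInstance
  have hpo := RingPO.isPushout_appLE_of_isPullback hres.flip (isAffineOpen_top U.toScheme)
    (isAffineOpen_top U'.toScheme) le_top (isAffineOpen_top (X.basicOpen g).toScheme) rfl
    (isAffineOpen_top (X'.basicOpen (φ g)).toScheme) rfl le_top
  refine ⟨U', hU', e', φ g, hφ g hg, hb.ge ⟨hxg, hxU'⟩, inferInstanceAs (IsAffine _), fun c => ?_⟩
  let G := AModX.resR (X'.basicOpen_le (φ g)) (φ g)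
  let T : Subring Γ(X', X'.basicOpen (φ g)) :=
    { carrier := {c | ∃ k, ∃ H ∈ R, c * G ^ k = AModX.resR (X'.basicOpen_le (φ g)) H}
      mul_mem' := fun {p q} ⟨k, H, hH, e⟩ ⟨l, K, hK, e'⟩ => ⟨k + l, H * K, mul_mem hH hK, by
        rw [map_mul, ← e, ← e', pow_add]; ring⟩
      one_mem' := ⟨0, 1, one_mem _, by rw [pow_zero, mul_one, map_one]⟩
      add_mem' := fun {p q} ⟨k, H, hH, e⟩ ⟨l, K, hK, e'⟩ => ⟨k + l, H * φ g ^ l + K * φ g ^ k,
        add_mem (mul_mem hH (pow_mem (hφ g hg) _)) (mul_mem hK (pow_mem (hφ g hg) _)), by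
          rw [map_add, map_mul, map_mul, map_pow, map_pow, ← e, ← e', pow_add]; ring⟩
      zero_mem' := ⟨0, 0, zero_mem _, by rw [zero_mul, map_zero]⟩
      neg_mem' := fun {p} ⟨k, H, hH, e⟩ => ⟨k, -H, neg_mem hH, by rw [map_neg, ← e, neg_mul]⟩ }
  suffices hT : T = ⊤ by
    obtain ⟨k, H, hH, e⟩ := (hT.ge (Subring.mem_top c) : c ∈ T)
    exact ⟨k, H, hH, e⟩
  let τ := (X'.basicOpen (φ g)).topIso.inv.hom
  have key : T.map τ = ⊤ := by
    refine subring_eq_top_of_isPushout hpo _ (fun r => ?_) (fun c' => ?_)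
    · refine ⟨(f'.appLE U' (X'.basicOpen (φ g)) (hb.le.trans inf_le_right)).hom (U'.topIso.hom r), ?_, ?_⟩
      · refine ⟨0, (f'.appLE U' (AmpleX.locus a') (AmpleX.locus_le a')).hom (U'.topIso.hom r),
          Subring.subset_closure (Or.inl ⟨_, rfl⟩), ?_⟩
        rw [pow_zero, mul_one]
        show _ = (f'.appLE _ _ _ ≫ X'.presheaf.map _) _
        rw [Scheme.Hom.appLE_map]
      · show (U'.topIso.hom ≫ f'.appLE _ _ _ ≫ (X'.basicOpen (φ g)).topIso.inv) r = _
        congr 2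
        simp [Scheme.Opens.topIso, Scheme.Hom.resLE_appLE]
    · obtain ⟨k, H, hH, e⟩ := hs ((X.basicOpen g).topIso.hom c')
      refine ⟨(g'.appLE (X.basicOpen g) (X'.basicOpen (φ g)) (hb.le.trans inf_le_left)).hom
        ((X.basicOpen g).topIso.hom c'), ⟨k, φ H, hφ H hH, ?_⟩, ?_⟩
      · have key : ∀ u : Γ(X, AmpleX.locus (sg σ a)),
            (g'.appLE (X.basicOpen g) (X'.basicOpen (φ g)) (hb.le.trans inf_le_left)).hom
              (AModX.resR (X.basicOpen_le g) u) = AModX.resR (X'.basicOpen_le (φ g)) (φ u) := fun u => by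
          show (X.presheaf.map _ ≫ g'.appLE _ _ _) u = (g'.appLE _ _ _ ≫ X'.presheaf.map _) u
          rw [Scheme.Hom.map_appLE, Scheme.Hom.appLE_map]
        show _ * AModX.resR _ (φ g) ^ k = _
        rw [← key, ← key, ← map_pow, ← map_mul, e]
      · show ((X.basicOpen g).topIso.hom ≫ g'.appLE _ _ _ ≫ (X'.basicOpen (φ g)).topIso.inv) c' = _
        congr 2
        simp [Scheme.Opens.topIso, Scheme.Hom.resLE_appLE]
  refine top_le_iff.1 fun c _ => ?_
  obtain ⟨c₁, hc₁, e⟩ := key.ge (trivial : τ c ∈ (⊤ : Subring _))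
  have e2 : c₁ = c := (ConcreteCategory.bijective_of_isIso (X'.basicOpen (φ g)).topIso.inv).1 e
  exact e2 ▸ hc₁

variable {L' : X.Modules} {E' : S.Modules}

/-- The product of two maps. -/
def tensMap (σ : E ⟶ (Scheme.Modules.pushforward f).obj L) (σ' : E' ⟶ (Scheme.Modules.pushforward f).obj L') :
    CohB1.tensorMod E E' ⟶ (Scheme.Modules.pushforward f).obj (CohB1.tensorMod L L') :=
  let τ := ((Scheme.Modules.pullbackPushforwardAdjunction f).homEquiv E L).symm σ
  let τ' := ((Scheme.Modules.pullbackPushforwardAdjunction f).homEquiv E' L').symm σ'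
  (Scheme.Modules.pullbackPushforwardAdjunction f).homEquiv _ _
    (KFlatLib.pullTensorHom f E E' ≫ (DCoh.tensorBi.map τ).app _ ≫ (DCoh.tensorBi.obj L).map τ')

theorem sg_transpose {X S : Scheme.{u}} {f : X ⟶ S} {L : X.Modules} {E : S.Modules}
    (σ : E ⟶ (Scheme.Modules.pushforward f).obj L) {U : S.Opens} (e : Γ(E, U)) :
    (((Scheme.Modules.pullbackPushforwardAdjunction f).homEquiv E L).symm σ).app (f ⁻¹ᵁ U) (InvX.pullElt f e) =
      sg σ e := by
  have h := ((Scheme.Modules.pullbackPushforwardAdjunction f).homEquiv E L).apply_symm_apply σ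
  rw [Adjunction.homEquiv_unit] at h
  exact congr(($h).app U e)

theorem sg_tensMap (σ : E ⟶ (Scheme.Modules.pushforward f).obj L) (σ' : E' ⟶ (Scheme.Modules.pushforward f).obj L')
    {U : S.Opens} (e : Γ(E, U)) (e' : Γ(E', U)) :
    sg (tensMap σ σ') (InvX.tmul e e') = InvX.tmul (sg σ e) (sg σ' e') := by
  rw [← sg_transpose σ e, ← sg_transpose σ' e']
  let τ := ((Scheme.Modules.pullbackPushforwardAdjunction f).homEquiv E L).symm σ
  let τ' := ((Scheme.Modules.pullbackPushforwardAdjunction f).homEquiv E' L').symm σ'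
  show (DCoh.toP.map ((DCoh.tensorBi.obj L).map τ')).app (op (f ⁻¹ᵁ U))
      ((DCoh.toP.map ((DCoh.tensorBi.map τ).app _)).app (op (f ⁻¹ᵁ U))
        ((DCoh.toP.map (KFlatLib.pullTensorHom f E E')).app (op (f ⁻¹ᵁ U))
          (KFlatLib.pb f (KFlatLib.tmSh E E' e e')))) = _
  rw [KFlatLib.pullTensorHom_pb, KFlatLib.tmSh_naturality_left, KFlatLib.tmSh_naturality_right]
  rfl

/-- Tensoring with a module having a section from the base generating at `x`. -/
theorem ImmAt.tensor (hL : PicF.IsInvertible L) (hL' : PicF.IsInvertible L')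
    {σ' : E' ⟶ (Scheme.Modules.pushforward f).obj L'} {x : X} (h : ImmAt σ x) {V : S.Opens} (b : Γ(E', V))
    (hxb : x ∈ AmpleX.locus (sg σ' b)) : ImmAt (tensMap σ σ') x := by
  obtain ⟨U₀, hU₀, a₀, g, hxg, hc⟩ := h.exists_coords
  obtain ⟨U, hU, hxU, hUV⟩ := exists_isAffineOpen_mem_and_subset (x := f x) (U := U₀ ⊓ V)
    ⟨AmpleX.locus_le (sg σ a₀) (X.basicOpen_le g hxg), AmpleX.locus_le (sg σ' b) hxb⟩
  have hU0 : U ≤ U₀ := hUV.trans inf_le_left
  let a := AModX.res E hU0 a₀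
  let b' := AModX.res E' (hUV.trans inf_le_right) b
  let a' : Γ(CohB1.tensorMod E E', U) := InvX.tmul a b'
  have hla : AmpleX.locus (sg (tensMap σ σ') a') = AmpleX.locus (sg σ a) ⊓ AmpleX.locus (sg σ' b') := by
    rw [sg_tensMap, AmpleX.locus_tmul hL hL']
  have hlea : AmpleX.locus (sg σ a) ≤ AmpleX.locus (sg σ a₀) := by
    rw [sg_res, AmpleX.locus_res]; exact inf_le_left
  have hle : AmpleX.locus (sg (tensMap σ σ') a') ≤ AmpleX.locus (sg σ a₀) := (hla.le.trans inf_le_left).trans hlea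
  refine hc.immAt hU hle (fun H hH => ?_) hxg (hla.ge ⟨?_, ?_⟩)
  rotate_left
  · show x ∈ AmpleX.locus (sg σ a)
    rw [sg_res, AmpleX.locus_res]; exact ⟨X.basicOpen_le g hxg, hxU⟩
  · show x ∈ AmpleX.locus (sg σ' b')
    rw [sg_res, AmpleX.locus_res]; exact ⟨hxb, hxU⟩
  refine (Subring.closure_le (t := (secFns (tensMap σ σ') a').comap (AModX.resR hle))).2 ?_ hH
  rintro c (⟨r, rfl⟩ | ⟨m, hm⟩)
  · refine Subring.subset_closure (Or.inl ⟨S.presheaf.map (homOfLE hU0).op r, ?_⟩)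
    show (S.presheaf.map _ ≫ f.appLE _ _ _) r = (f.appLE _ _ _ ≫ X.presheaf.map _) r
    rw [Scheme.Hom.map_appLE, Scheme.Hom.appLE_map]
  · refine Subring.subset_closure (Or.inr ⟨InvX.tmul (AModX.res E hU0 m) b', ?_⟩)
    have hΩU : AmpleX.locus (sg (tensMap σ σ') a') ≤ f ⁻¹ᵁ U := AmpleX.locus_le _
    have h1 : AModX.res L hΩU (sg σ (AModX.res E hU0 m)) = AModX.resR hle c • AModX.res L hΩU (sg σ a) := by
      have := congrArg (AModX.res L hle) hm
      rw [AModX.res_res, AModX.res_smul, AModX.res_res] at this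
      rw [sg_res, sg_res, AModX.res_res, AModX.res_res]
      exact this
    show AModX.res _ hΩU _ = _ • AModX.res _ hΩU _
    refine (congrArg (AModX.res _ hΩU) (sg_tensMap σ σ' _ _)).trans ?_
    refine Eq.trans ?_ (congrArg (_ • ·) (congrArg (AModX.res _ hΩU) (sg_tensMap σ σ' a b'))).symm
    rw [InvX.res_tmul, InvX.res_tmul, h1, InvX.tmul_smul_left]

/-- Sections from the base of a quotient of an inverse image generate. -/
theorem exists_mem_locus_of_epi (hL : PicF.IsInvertible L)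
    (φ : (Scheme.Modules.pullback f).obj E ⟶ L) [Epi φ] (x : X) :
    ∃ (V : S.Opens) (e : Γ(E, V)),
      x ∈ AmpleX.locus (sg ((Scheme.Modules.pullbackPushforwardAdjunction f).homEquiv _ _ φ) e) := by
  by_contra! hno
  let σ₀ := (Scheme.Modules.pullbackPushforwardAdjunction f).homEquiv _ _ φ
  let ξ := X.fromSpecResidueField x
  let N := (Scheme.Modules.pullback ξ).obj L
  have hN : PicF.IsInvertible N := PicClLib.isInvertible_pullback ξ hL
  let u := (Scheme.Modules.pullbackPushforwardAdjunction ξ).unit.app L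
  haveI : IsReduced (Spec (X.residueField x)) := inferInstance
  have h0 : ∀ (U : S.Opens) (e : Γ(E, U)), InvX.pullElt ξ (sg σ₀ e) = 0 := fun U e => by
    have hl : AmpleX.locus (InvX.pullElt ξ (sg σ₀ e)) = ⊥ := by
      rw [AmpleX.locus_pullElt hL]
      refine bot_unique fun t ht => ?_
      have := X.fromSpecResidueField_apply x t
      exact hno U e (this ▸ ht)
    refine AModX.eq_of_locally _ _ fun t ht => ?_
    obtain ⟨W, htW, ε, hε⟩ := InvX.exists_frame hN t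
    have hε' := hε.res (inf_le_left : W ⊓ ξ ⁻¹ᵁ (f ⁻¹ᵁ U) ≤ W)
    obtain ⟨d, hd⟩ := hε'.exists_coord le_rfl
      (AModX.res N (inf_le_right : W ⊓ ξ ⁻¹ᵁ (f ⁻¹ᵁ U) ≤ ξ ⁻¹ᵁ (f ⁻¹ᵁ U)) (InvX.pullElt ξ (sg σ₀ e)))
    rw [AModX.res_self] at hd
    refine ⟨W ⊓ ξ ⁻¹ᵁ (f ⁻¹ᵁ U), inf_le_right, ⟨htW, ht⟩, ?_⟩
    have hd0 : d = 0 := (basicOpen_eq_bot_iff d).1 (by
      rw [← AmpleX.locus_inf _ (inf_le_right : W ⊓ ξ ⁻¹ᵁ (f ⁻¹ᵁ U) ≤ _) hε' hd, hl, bot_inf_eq])
    rw [hd, hd0, zero_smul, map_zero]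
  have h1 : σ₀ ≫ (Scheme.Modules.pushforward f).map u = 0 := Scheme.Modules.hom_ext _ _ fun U => by
    ext e
    exact h0 U e
  have h2 : φ ≫ u = 0 := ((Scheme.Modules.pullbackPushforwardAdjunction f).homEquiv _ _).injective (by
    rw [Adjunction.homEquiv_naturality_right]
    refine h1.trans ?_
    rw [Adjunction.homEquiv_unit]
    simp)
  have h3 : u = 0 := (cancel_epi φ).1 (by rw [h2, comp_zero])
  have h4 : 𝟙 N = 0 := ((Scheme.Modules.pullbackPushforwardAdjunction ξ).homEquiv _ _).injective (by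
    rw [Adjunction.homEquiv_unit, Adjunction.homEquiv_unit]
    refine (congrArg (u ≫ ·) ((Scheme.Modules.pushforward ξ).map_id N)).trans ((Category.comp_id _).trans (h3.trans ?_))
    simp)
  obtain ⟨t⟩ : Nonempty (Spec (X.residueField x) : Scheme.{u}) := inferInstance
  obtain ⟨W, htW, ε, hε⟩ := InvX.exists_frame hN t
  have hε0 : ε = 0 := congr(($h4).app W ε)
  have h10 : (1 : Γ(Spec (X.residueField x), W)) = 0 := hε.coord_unique le_rfl (by rw [hε0]; simp)
  have : (Spec (X.residueField x)).basicOpen (1 : Γ(Spec (X.residueField x), W)) = ⊥ :=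
    (basicOpen_eq_bot_iff _).2 h10
  rw [Scheme.basicOpen_of_isUnit _ isUnit_one] at this
  exact (this.le htW : _)

end Groth.Agent.VeryAmpleX.Sig
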